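import Cfsg.Agent.SolvKGV.KBound
import Cfsg.Agent.BaseThree.Main

/-!
# Orders of small solvable linear groups
-/

set_option autoImplicit false
set_option linter.unusedSectionVars false
set_option linter.style.haveILetI false

namespace CfsgLib.SolvKGV

universe u

variable {X : Type u} [Group X] [Finite X] {W : Type u} [AddCommGroup W] [DistribMulAction X W]
  [Finite W]

/-- The order is bounded by the number of possible images of two generators. -/
theorem card_le_of_generators (hf : Faith X W) {x y : W} (hgen : AddSubgroup.closure {x, y} = ⊤)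
    (S : Set (W × W)) (hS : ∀ g : X, (g • x, g • y) ∈ S) : Nat.card X ≤ Nat.card S := by
  refine Nat.card_le_card_of_injective (fun g => ⟨(g • x, g • y), hS g⟩) fun a b e => ?_
  simp only [Subtype.mk.injEq, Prod.mk.injEq] at e
  refine inv_mul_eq_one.1 (hf _ fun v => ?_)
  let F : AddSubgroup W :=
    { carrier := {w | (a⁻¹ * b) • w = w}
      zero_mem' := smul_zero _
      add_mem' := fun {u w} hu hw => by
        show _ • (u + w) = _
        rw [smul_add, hu, hw]
      neg_mem' := fun {u} hu => by
        show _ • (-u) = _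
        rw [smul_neg, hu] }
  have hle : AddSubgroup.closure {x, y} ≤ F := by
    rw [AddSubgroup.closure_le]
    rintro w (rfl | rfl)
    · show (a⁻¹ * b) • w = w
      rw [mul_smul, ← e.1, inv_smul_smul]
    · show (a⁻¹ * b) • w = w
      rw [mul_smul, ← e.2, inv_smul_smul]
  exact hle (hgen ▸ AddSubgroup.mem_top v)

theorem card_le_sq_of_generators (hf : Faith X W) {x y : W}
    (hgen : AddSubgroup.closure {x, y} = ⊤) : Nat.card X ≤ Nat.card W ^ 2 := by
  refine (card_le_of_generators hf hgen Set.univ fun _ => Set.mem_univ _).trans (le_of_eq ?_)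
  rw [Nat.card_coe_set_eq, Set.ncard_univ, Nat.card_prod, sq]

/-- Two generators for a group whose order is a square of a prime. -/
theorem exists_two_generators {W : Type*} [AddCommGroup W] [Finite W] {q : ℕ} (hq : q.Prime)
    (hW : Nat.card W = q ^ 2) :
    ∃ x y : W, x ≠ 0 ∧ AddSubgroup.closure {x, y} = ⊤ ∧ (y ≠ 0 ∧ x ≠ y ∨ q ^ 2 < 4) := by
  classical
  haveI : Nontrivial W := Finite.one_lt_card_iff_nontrivial.1 (hW ▸ Nat.one_lt_pow two_ne_zero hq.one_lt)
  obtain ⟨x, hx⟩ := exists_ne (0 : W)
  set U := AddSubgroup.closure ({x} : Set W)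
  have key : ∀ y : W, (U = ⊤ ∨ y ∉ U) → AddSubgroup.closure {x, y} = ⊤ := by
    intro y hy
    have hle : U ≤ AddSubgroup.closure {x, y} := AddSubgroup.closure_mono (by simp)
    rcases hy with h | h
    · exact eq_top_iff.2 (h ▸ hle)
    set T := AddSubgroup.closure ({x, y} : Set W)
    have hlt : U < T := lt_of_le_of_ne hle fun e => h (e ▸ AddSubgroup.subset_closure (by simp))
    have hU : q ≤ Nat.card U := by
      obtain ⟨i, -, hi⟩ := (Nat.dvd_prime_pow hq).1 (hW ▸ U.card_addSubgroup_dvd_card)
      rcases Nat.eq_zero_or_pos i with rfl | hi0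
      · refine absurd (AddSubgroup.subset_closure (Set.mem_singleton x) : x ∈ U) fun hxU => hx ?_
        rw [pow_zero, AddSubgroup.card_eq_one] at hi
        change x ∈ U at hxU
        rwa [hi, AddSubgroup.mem_bot] at hxU
      · rw [hi]; exact Nat.le_self_pow hi0.ne' q
    obtain ⟨i, hi2, hi⟩ := (Nat.dvd_prime_pow hq).1 (hW ▸ T.card_addSubgroup_dvd_card)
    refine AddSubgroup.eq_top_of_card_eq T ?_
    have hlt' : Nat.card U < Nat.card T := by
      rw [← SetLike.coe_ssubset_coe] at hlt
      have := Set.ncard_lt_ncard hlt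
      rwa [← Nat.card_coe_set_eq, ← Nat.card_coe_set_eq] at this
    rcases (by omega : i = 0 ∨ i = 1 ∨ i = 2) with rfl | rfl | rfl
    · rw [hi, pow_zero] at hlt'; have := hq.pos; omega
    · rw [hi, pow_one] at hlt'; omega
    · rw [hi, hW]
  by_cases hU : U = ⊤
  · by_cases h4 : ∃ y : W, y ≠ 0 ∧ x ≠ y
    · obtain ⟨y, hy⟩ := h4
      exact ⟨x, y, hx, key y (Or.inl hU), Or.inl hy⟩
    · refine ⟨x, x, hx, key x (Or.inl hU), Or.inr ?_⟩
      push Not at h4
      have h2 : Nat.card W ≤ 2 := by
        refine le_trans (Nat.card_le_card_of_injective (fun w => if w = 0 then (0 : Fin 2) else 1)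
          fun a b e => ?_) (by simp)
        by_cases ha : a = 0 <;> by_cases hb : b = 0 <;> simp [ha, hb] at e ⊢
        exact (h4 a ha).symm.trans (h4 b hb)
      omega
  · obtain ⟨y, hy⟩ : ∃ y, y ∉ U := by
      by_contra! h
      exact hU (eq_top_iff.2 fun w _ => h w)
    exact ⟨x, y, hx, key y (Or.inr hy), Or.inl ⟨fun e => hy (e ▸ U.zero_mem),
      fun e => hy (e ▸ AddSubgroup.subset_closure rfl)⟩⟩

theorem card_le_of_prime_sq (hf : Faith X W) {q : ℕ} (hq : q.Prime) (hW : Nat.card W = q ^ 2) :
    Nat.card X ≤ (q ^ 2) ^ 2 := by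
  obtain ⟨x, y, -, h, -⟩ := exists_two_generators hq hW
  exact (card_le_sq_of_generators hf h).trans_eq (by rw [hW])

theorem card_le_four (hf : Faith X W) (hW : Nat.card W = 4) : Nat.card X ≤ 6 := by
  classical
  haveI := Fintype.ofFinite W
  obtain ⟨x, y, hx, h, hy⟩ := exists_two_generators Nat.prime_two (hW.trans (by norm_num))
  obtain ⟨hy0, hxy⟩ := hy.resolve_right (by norm_num)
  let S : Finset (W × W) := (Finset.univ.erase (0 : W)).offDiag
  refine (card_le_of_generators hf h ↑S fun g => ?_).trans ?_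
  · refine Finset.mem_coe.2 (Finset.mem_offDiag.2
      ⟨Finset.mem_erase.2 ⟨?_, Finset.mem_univ _⟩, Finset.mem_erase.2 ⟨?_, Finset.mem_univ _⟩, ?_⟩)
    · exact fun e => hx (by simpa using congrArg (g⁻¹ • ·) e)
    · exact fun e => hy0 (by simpa using congrArg (g⁻¹ • ·) e)
    · exact fun e => hxy (MulAction.injective g e)
  · rw [Nat.card_coe_set_eq, Set.ncard_coe_finset, Finset.offDiag_card,
      Finset.card_erase_of_mem (Finset.mem_univ _), Finset.card_univ, ← Nat.card_eq_fintype_card,
      hW]

theorem card_le_thirty_six (hf : Faith X W) (hW : Nat.card W = 36) : Nat.card X ≤ 36 ^ 2 := by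
  suffices h : ∃ x y : W, AddSubgroup.closure {x, y} = ⊤ by
    obtain ⟨x, y, h⟩ := h
    exact (card_le_sq_of_generators hf h).trans_eq (by rw [hW])
  set U := (nsmulAddMonoidHom (α := W) 4).ker
  set V := (nsmulAddMonoidHom (α := W) 9).ker
  have h36 : ∀ w : W, 36 • w = 0 := fun w => hW ▸ card_nsmul_eq_zero'
  have hUm : ∀ w, w ∈ U ↔ 4 • w = 0 := fun w => by
    rw [AddMonoidHom.mem_ker, nsmulAddMonoidHom_apply]
  have hVm : ∀ w, w ∈ V ↔ 9 • w = 0 := fun w => by
    rw [AddMonoidHom.mem_ker, nsmulAddMonoidHom_apply]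
  have hsplit : ∀ w : W, 9 • w ∈ U ∧ 28 • w ∈ V ∧ 9 • w + 28 • w = w := fun w => by
    refine ⟨(hUm _).2 ?_, (hVm _).2 ?_, ?_⟩
    · rw [← mul_nsmul]; exact h36 w
    · rw [← mul_nsmul, show 28 * 9 = 7 * 36 by norm_num, mul_nsmul, h36]
    · rw [← add_nsmul, show 9 + 28 = 36 + 1 by norm_num, add_nsmul, h36, zero_add, one_nsmul]
  have hdvd : ∀ (A : AddSubgroup W) (n : ℕ), (∀ w ∈ A, n • w = 0) → ∀ r : ℕ, r.Prime →
      r ∣ Nat.card A → r ∣ n := by
    intro A n hA r hr hd
    haveI := Fact.mk hr
    obtain ⟨a, ha⟩ := exists_prime_addOrderOf_dvd_card' r hd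
    rw [← ha]
    exact addOrderOf_dvd_of_nsmul_eq_zero (Subtype.ext (by simpa using hA a a.2))
  have h2 := hdvd U 4 fun w hw => (hUm w).1 hw
  have h3 := hdvd V 9 fun w hw => (hVm w).1 hw
  have hU4 : Nat.card U ∣ 36 := hW ▸ U.card_addSubgroup_dvd_card
  have hV9 : Nat.card V ∣ 36 := hW ▸ V.card_addSubgroup_dvd_card
  have hmul : 36 ≤ Nat.card U * Nat.card V := by
    rw [← hW, ← Nat.card_prod]
    refine Nat.card_le_card_of_injective
      (fun w => ((⟨9 • w, (hsplit w).1⟩ : U), (⟨28 • w, (hsplit w).2.1⟩ : V))) fun a b e => ?_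
    simp only [Prod.mk.injEq, Subtype.mk.injEq] at e
    rw [← (hsplit a).2.2, ← (hsplit b).2.2, e.1, e.2]
  have hUc : Nat.card U = 2 ^ 2 ∧ Nat.card V = 3 ^ 2 := by
    have a1 : ¬ 3 ∣ Nat.card U := fun h => by have := h2 3 Nat.prime_three h; omega
    have b1 : ¬ 2 ∣ Nat.card V := fun h => by have := h3 2 Nat.prime_two h; omega
    have a2 := Nat.le_of_dvd (by norm_num) hU4
    have b2 := Nat.le_of_dvd (by norm_num) hV9
    norm_num
    generalize Nat.card U = u at *
    generalize Nat.card V = v at *
    clear * - hU4 hV9 a1 b1 a2 b2 hmul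
    interval_cases u <;> first | omega | (interval_cases v <;> omega)
  obtain ⟨a, b, -, hab, -⟩ := exists_two_generators Nat.prime_two hUc.1
  obtain ⟨c, d, -, hcd, -⟩ := exists_two_generators Nat.prime_three hUc.2
  refine ⟨(a : W) + c, (b : W) + d, eq_top_iff.2 fun w _ => ?_⟩
  set T := AddSubgroup.closure ({(a : W) + c, (b : W) + d} : Set W)
  have hA : ∀ (z : U) (t : V), (z : W) + t ∈ T → (z : W) ∈ T ∧ (t : W) ∈ T := by
    intro z t h
    have hz : 9 • ((z : W) + t) = z := by
      rw [nsmul_add, (hVm t).1 t.2, add_zero, show 9 = 2 * 4 + 1 by norm_num, add_nsmul, mul_nsmul',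
        (hUm z).1 z.2, nsmul_zero, zero_add, one_nsmul]
    have hzT : (z : W) ∈ T := hz ▸ T.nsmul_mem h 9
    exact ⟨hzT, by simpa using T.sub_mem h hzT⟩
  obtain ⟨haT, hcT⟩ := hA a c (AddSubgroup.subset_closure (Or.inl rfl))
  obtain ⟨hbT, hdT⟩ := hA b d (AddSubgroup.subset_closure (Or.inr rfl))
  have hgen : ∀ (A : AddSubgroup W) (x y : A), AddSubgroup.closure {x, y} = ⊤ → (x : W) ∈ T →
      (y : W) ∈ T → ∀ z : A, (z : W) ∈ T := fun A x y h hx hy z => by
    have hle : AddSubgroup.closure {x, y} ≤ T.comap A.subtype := by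
      rw [AddSubgroup.closure_le]
      rintro v (rfl | rfl) <;> assumption
    exact hle (h ▸ AddSubgroup.mem_top z)
  rw [← (hsplit w).2.2]
  exact T.add_mem (hgen U a b hab haT hbT ⟨_, (hsplit w).1⟩)
    (hgen V c d hcd hcT hdT ⟨_, (hsplit w).2.1⟩)

/-- Three vectors bound the order. -/
theorem card_le_cube [Group.IsSolvable X] (hs : Semi X W) (hf : Faith X W) :
    Nat.card X ≤ Nat.card W ^ 3 := by
  haveI : FaithfulSMul X W := ⟨fun {a b} h => inv_mul_eq_one.1 (hf _ fun v => by
    rw [mul_smul, ← h v, inv_smul_smul])⟩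
  obtain ⟨u, v, w, h⟩ := BaseThree.exists_triple (A := X) (V := W) inferInstance fun U hU => by
    obtain ⟨U', h1, h2⟩ := hs U hU
    exact ⟨U', h1, h2.inf_eq_bot, h2.sup_eq_top⟩
  refine le_trans (Nat.card_le_card_of_injective (fun g => (g • u, g • v, g • w)) fun a b e => ?_)
    (le_of_eq (by rw [Nat.card_prod, Nat.card_prod]; ring))
  simp only [Prod.mk.injEq] at e
  exact inv_mul_eq_one.1 (h _ (by rw [mul_smul, ← e.1, inv_smul_smul])
    (by rw [mul_smul, ← e.2.1, inv_smul_smul]) (by rw [mul_smul, ← e.2.2, inv_smul_smul]))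

namespace Decomp

variable {r : ℕ} (D : Decomp X W r)

include D in
theorem card_le (hf : Faith X W) (G : Fin r → ℕ)
    (hyp : ∀ i, Nat.card ((⊤ : Subgroup D.perm.ker).map (D.rep i)) ≤ G i) :
    Nat.card X ≤ Nat.card D.perm.range * ∏ i, G i := by
  rw [D.card_eq_mul]
  refine Nat.mul_le_mul_left _ (le_trans ?_ (Finset.prod_le_prod' fun i _ => hyp i))
  rw [← Nat.card_pi]
  exact Nat.card_le_card_of_injective
    (fun n i => (⟨D.rep i n, n, Subgroup.mem_top _, rfl⟩ : ((⊤ : Subgroup D.perm.ker).map (D.rep i))))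
    fun a b e => inv_mul_eq_one.1 (D.rep_faith hf _ fun i => by
      rw [map_mul, map_inv, inv_mul_eq_one]
      exact congrArg Subtype.val (congrFun e i))

theorem card_range_le : Nat.card D.perm.range ≤ r.factorial :=
  (Subgroup.card_le_card_group _).trans_eq (by rw [Nat.card_perm, Nat.card_fin])

/-- Summands of different sizes are not permuted. -/
theorem card_range_le_one (D : Decomp X W 2)
    (h : Nat.card (D.part 0) ≠ Nat.card (D.part 1)) : Nat.card D.perm.range ≤ 1 := by
  rw [Finite.card_le_one_iff_subsingleton, subsingleton_iff]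
  suffices hx : ∀ x : D.perm.range, x = 1 from fun x y => (hx x).trans (hx y).symm
  rintro ⟨_, g, rfl⟩
  refine Subtype.ext (Equiv.ext fun i => ?_)
  show D.perm g i = i
  have hc := D.card_part_perm g i
  revert hc
  generalize D.perm g i = j
  revert i j
  simp [Fin.forall_fin_two, h, h.symm]

end Decomp

theorem prime_mul_eq {p e m q d : ℕ} (hp : p.Prime) (hq : q.Prime) (he : 1 ≤ e) (hm : 1 ≤ m)
    (h : p ^ (e * m) = q ^ d) : p = q ∧ e * m = d := by
  have hpq : p = q := (Nat.prime_dvd_prime_iff_eq hp hq).1 (hp.dvd_of_dvd_pow (n := d)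
    (h ▸ dvd_pow_self _ (Nat.mul_ne_zero (by omega) (by omega))))
  subst hpq
  exact ⟨rfl, Nat.pow_right_injective hp.two_le h⟩

theorem card_le_eight [Group.IsSolvable X] (hs : Semi X W) (hf : Faith X W)
    (hW : Nat.card W = 8) : Nat.card X ≤ 21 := by
  classical
  haveI : Nontrivial W := Finite.one_lt_card_iff_nontrivial.1 (by omega)
  by_cases hd : ∃ r, Nonempty (Decomp X W r)
  · obtain ⟨r, ⟨D⟩⟩ := hd
    have hpart : ∀ i, Nat.card (D.part i) = 2 ∨ Nat.card (D.part i) = 4 := fun i => by
      have h1 := D.one_lt_card_part i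
      have h2 := D.card_part_lt i
      have h3 := card_part_dvd D i
      rw [hW] at h2 h3
      interval_cases hk : Nat.card (D.part i) <;> omega
    let G : Fin r → ℕ := fun i => if Nat.card (D.part i) = 2 then 1 else 6
    have h := D.card_le hf G fun i => by
      rcases hpart i with h | h
      · have := card_le_of_prime (faith_units ((⊤ : Subgroup D.perm.ker).map (D.rep i)))
          (h ▸ Nat.prime_two)
        simp only [G, h, if_true] at this ⊢
        omega
      · simp only [G, h]
        exact card_le_four (faith_units _) h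
    have hr : r ≤ 3 := by
      have h' : 2 ^ r ≤ Nat.card W := by
        rw [D.card_eq]
        refine le_trans (le_of_eq ?_) (Finset.prod_le_prod' fun i _ => D.one_lt_card_part i)
        simp
      rw [hW, show 8 = 2 ^ 3 by norm_num] at h'
      exact (Nat.pow_le_pow_iff_right (by norm_num : 1 < 2)).1 h'
    have hprod := D.card_eq
    rw [hW] at hprod
    refine h.trans ?_
    have := D.two
    have hS := D.card_range_le
    rcases (by omega : r = 2 ∨ r = 3) with rfl | rfl
    · simp only [Fin.prod_univ_two, G] at hprod ⊢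
      rcases hpart 0 with a | a <;> rcases hpart 1 with b | b <;> rw [a, b] at hprod <;>
        first | (norm_num at hprod; done) | (norm_num at hS; norm_num [a, b]; omega)
    · simp only [Fin.prod_univ_three, G] at hprod ⊢
      rcases hpart 0 with a | a <;> rcases hpart 1 with b | b <;> rcases hpart 2 with c | c <;>
        rw [a, b, c] at hprod <;>
        first | (norm_num at hprod; done) | (norm_num [Nat.factorial] at hS; norm_num [a, b, c]; omega)
  · obtain ⟨P⟩ := exists_prim (fun r D => hd ⟨r, ⟨D⟩⟩) hs hf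
    obtain ⟨hp2, hem⟩ := prime_mul_eq P.prime Nat.prime_two P.e_pos P.m_pos
      (show P.p ^ (P.e * P.m) = 2 ^ 3 by rw [← P.card_eq, hW]; rfl)
    have hlt := P.card_lt
    rw [hp2] at hlt
    have he : P.e = 1 ∨ P.e = 3 := (Nat.dvd_prime Nat.prime_three).1 (hem ▸ dvd_mul_right _ _)
    by_cases hC : Subgroup.centralizer (P.A : Set X) = P.A
    · have hi := P.index_le
      rw [hC] at hi
      rw [← P.A.card_mul_index]
      refine (Nat.mul_le_mul_left _ hi).trans ?_
      rcases he with e | e <;> rw [e] at hlt ⊢ <;> norm_num at hlt <;> omega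
    · obtain ⟨I⟩ := exists_inner P hC
      exfalso
      obtain ⟨r, hr, hrM⟩ := Nat.exists_prime_and_dvd (show I.M ≠ 1 by have := I.two_le; omega)
      have := Nat.le_of_dvd P.card_pos_A (I.prime_dvd r hr hrM)
      have := hr.two_le
      have h3 := I.le_m
      have := I.two_le
      rcases he with e | e <;> rw [e] at hlt hem <;> norm_num at hlt <;> omega

theorem card_le_sixteen [Group.IsSolvable X] (hs : Semi X W) (hf : Faith X W)
    (hW : Nat.card W = 16) : Nat.card X ≤ 72 := by
  classical
  haveI : Nontrivial W := Finite.one_lt_card_iff_nontrivial.1 (by omega)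
  by_cases hd : ∃ r, Nonempty (Decomp X W r)
  · obtain ⟨r, ⟨D⟩⟩ := hd
    have hpart : ∀ i, Nat.card (D.part i) = 2 ∨ Nat.card (D.part i) = 4 ∨
        Nat.card (D.part i) = 8 := fun i => by
      have h1 := D.one_lt_card_part i
      have h2 := D.card_part_lt i
      have h3 := card_part_dvd D i
      rw [hW] at h2 h3
      interval_cases hk : Nat.card (D.part i) <;> omega
    let G : Fin r → ℕ := fun i =>
      if Nat.card (D.part i) = 2 then 1 else if Nat.card (D.part i) = 4 then 6 else 21
    have h := D.card_le hf G fun i => by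
      rcases hpart i with h | h | h
      · have := card_le_of_prime (faith_units ((⊤ : Subgroup D.perm.ker).map (D.rep i)))
          (h ▸ Nat.prime_two)
        simp only [G, h, if_true] at this ⊢
        omega
      · simp only [G, h]
        exact card_le_four (faith_units _) h
      · simp only [G, h]
        haveI := D.isSolvable_map i ⊤
        exact card_le_eight (D.semi_rep hs i ⊤) (faith_units _) h
    have hr : r ≤ 4 := by
      have h' : 2 ^ r ≤ Nat.card W := by
        rw [D.card_eq]
        refine le_trans (le_of_eq ?_) (Finset.prod_le_prod' fun i _ => D.one_lt_card_part i)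
        simp
      rw [hW, show 16 = 2 ^ 4 by norm_num] at h'
      exact (Nat.pow_le_pow_iff_right (by norm_num : 1 < 2)).1 h'
    have hprod := D.card_eq
    rw [hW] at hprod
    refine h.trans ?_
    have := D.two
    have hS := D.card_range_le
    rcases (by omega : r = 2 ∨ r = 3 ∨ r = 4) with rfl | rfl | rfl
    · simp only [Fin.prod_univ_two, G] at hprod ⊢
      by_cases heq : Nat.card (D.part 0) = Nat.card (D.part 1)
      · rcases hpart 0 with a | a | a <;> rw [← heq, a] at hprod <;>
          first | (norm_num at hprod; done) | (norm_num at hS; norm_num [a, ← heq]; omega)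
      · have := Decomp.card_range_le_one D heq
        rcases hpart 0 with a | a | a <;> rcases hpart 1 with b | b | b <;>
          rw [a, b] at hprod heq <;>
          first | (norm_num at hprod; done) | (norm_num at heq; done) | (refine le_trans (Nat.mul_le_mul_right _ this) ?_; norm_num [a, b])
    · simp only [Fin.prod_univ_three, G] at hprod ⊢
      rcases hpart 0 with a | a | a <;> rcases hpart 1 with b | b | b <;>
        rcases hpart 2 with c | c | c <;> rw [a, b, c] at hprod <;>
        first | (norm_num at hprod; done) | (norm_num [Nat.factorial] at hS; norm_num [a, b, c]; omega)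
    · simp only [Fin.prod_univ_four, G] at hprod ⊢
      rcases hpart 0 with a | a | a <;> rcases hpart 1 with b | b | b <;>
        rcases hpart 2 with c | c | c <;> rcases hpart 3 with d | d | d <;>
        rw [a, b, c, d] at hprod <;>
        first | (norm_num at hprod; done) | (norm_num [Nat.factorial] at hS; norm_num [a, b, c, d]; omega)
  · obtain ⟨P⟩ := exists_prim (fun r D => hd ⟨r, ⟨D⟩⟩) hs hf
    obtain ⟨hp2, hem⟩ := prime_mul_eq P.prime Nat.prime_two P.e_pos P.m_pos
      (show P.p ^ (P.e * P.m) = 2 ^ 4 by rw [← P.card_eq, hW]; rfl)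
    have hlt := P.card_lt
    have hnd := P.not_dvd
    rw [hp2] at hlt hnd
    have he : P.e = 1 ∨ P.e = 2 ∨ P.e = 4 := by
      have h := hem ▸ dvd_mul_right P.e P.m
      have h' := Nat.le_of_dvd (by norm_num) h
      have := P.e_pos
      interval_cases hk : P.e <;> omega
    by_cases hC : Subgroup.centralizer (P.A : Set X) = P.A
    · have hi := P.index_le
      rw [hC] at hi
      rw [← P.A.card_mul_index]
      refine (Nat.mul_le_mul_left _ hi).trans ?_
      rcases he with e | e | e <;> rw [e] at hlt ⊢ <;> norm_num at hlt <;> omega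
    · obtain ⟨I⟩ := exists_inner P hC
      exfalso
      obtain ⟨r, hr, hrM⟩ := Nat.exists_prime_and_dvd (show I.M ≠ 1 by have := I.two_le; omega)
      have hra := I.prime_dvd r hr hrM
      have hra' := Nat.le_of_dvd P.card_pos_A hra
      have := hr.two_le
      have h2 := I.two_le
      have h3 := I.le_m
      rcases he with e | e | e <;> rw [e] at hem hlt <;> norm_num at hlt
      · omega
      · have hM : I.M = 2 := by omega
        rw [hM] at hrM
        exact hnd ((Nat.prime_dvd_prime_iff_eq hr Nat.prime_two).1 hrM ▸ hra)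
      · omega

end CfsgLib.SolvKGV
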