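import Cfsg.Agent.Solvable.Basic
import Cfsg.Agent.BaseThree.Defs
import Mathlib.Data.Fintype.CardEmbedding

/-!
# The order of a solvable permutation group

A solvable permutation group on `n` points has order at most `3 ^ (n - 1)`.
-/

set_option autoImplicit false
set_option linter.unusedSectionVars false
set_option linter.style.haveILetI false

namespace CfsgLib.SolvKGV

open Equiv

universe u

/-- A finite group has few generators. -/
theorem exists_generators (N : Type*) [Group N] [Finite N] :
    ∃ (k : ℕ) (t : Fin k → N), Function.Injective t ∧ (∀ i, t i ≠ 1) ∧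
      Subgroup.closure (Set.range t) = ⊤ ∧ 2 ^ k ≤ Nat.card N := by
  classical
  have main : ∀ (d : ℕ) (U : Subgroup N) (k : ℕ) (t : Fin k → N), Function.Injective t →
      (∀ i, t i ≠ 1) → Subgroup.closure (Set.range t) = U → 2 ^ k ≤ Nat.card U →
      Nat.card N ≤ Nat.card U + d →
      ∃ (k : ℕ) (t : Fin k → N), Function.Injective t ∧ (∀ i, t i ≠ 1) ∧
        Subgroup.closure (Set.range t) = ⊤ ∧ 2 ^ k ≤ Nat.card N := by
    intro d
    induction d with
    | zero =>
      intro U k t h1 h2 h3 h4 h5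
      refine ⟨k, t, h1, h2, ?_, h4.trans (Subgroup.card_le_card_group U)⟩
      rw [h3]
      exact Subgroup.eq_top_of_le_card U (by omega)
    | succ d ih =>
      intro U k t h1 h2 h3 h4 h5
      by_cases hU : U = ⊤
      · exact ⟨k, t, h1, h2, h3.trans hU, h4.trans (Subgroup.card_le_card_group U)⟩
      obtain ⟨x, hx⟩ : ∃ x, x ∉ U := by
        by_contra! h
        exact hU (eq_top_iff.2 fun x _ => h x)
      set U' := Subgroup.closure (Set.range (Fin.cons x t : Fin (k + 1) → N))
      have hle : U ≤ U' := h3 ▸ Subgroup.closure_mono (by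
        rintro _ ⟨i, rfl⟩
        exact ⟨i.succ, by simp⟩)
      have hxU : x ∈ U' := Subgroup.subset_closure ⟨0, by simp⟩
      have hlt : U < U' := lt_of_le_of_ne hle fun e => hx (e ▸ hxU)
      have h2U : 2 * Nat.card U ≤ Nat.card U' := by
        obtain ⟨j, hj⟩ := Subgroup.card_dvd_of_le hle
        rcases (by omega : j = 0 ∨ j = 1 ∨ 2 ≤ j) with rfl | rfl | h
        · have := Nat.card_pos (α := U'); omega
        · exact absurd (Subgroup.eq_of_le_of_card_ge hle (by omega)) hlt.ne
        · rw [hj, mul_comm]; exact Nat.mul_le_mul_left _ h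
      refine ih U' (k + 1) (Fin.cons x t) ?_ ?_ rfl ?_ ?_
      · exact Fin.cons_injective_iff.2 ⟨fun ⟨i, hi⟩ => hx (h3 ▸ Subgroup.subset_closure ⟨i, hi⟩), h1⟩
      · exact Fin.cases (by simpa using fun e : x = 1 => hx (e ▸ U.one_mem))
          fun i => by simpa using h2 i
      · rw [pow_succ']; exact (Nat.mul_le_mul_left 2 h4).trans h2U
      · have := Nat.card_pos (α := U); omega
  exact main (Nat.card N) ⊥ 0 Fin.elim0 (fun i => i.elim0) (fun i => i.elim0) (by simp)
    (by simp) (by omega)

/-- The growth of a power against the factor three. -/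
theorem succ_pow_le_two_mul {n j : ℕ} (h : 2 * j ≤ n) : (n + 1) ^ j ≤ 2 * n ^ j := by
  rcases Nat.eq_zero_or_pos n with rfl | hn
  · rw [show j = 0 by omega]; norm_num
  have key : ∀ i ≤ j, (n + 1) ^ i * (n - i) ≤ n ^ i * n := by
    intro i
    induction i with
    | zero => simp
    | succ i ih =>
      intro hi
      obtain ⟨a, ha⟩ : ∃ a, n = i + 1 + a := ⟨n - (i + 1), by omega⟩
      calc (n + 1) ^ (i + 1) * (n - (i + 1)) = (n + 1) ^ i * ((n + 1) * a) := by
            rw [pow_succ, show n - (i + 1) = a by omega]; ring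
        _ ≤ (n + 1) ^ i * ((n - i) * n) := Nat.mul_le_mul_left _ (by
            rw [show n - i = a + 1 by omega, ha]; nlinarith)
        _ = (n + 1) ^ i * (n - i) * n := by ring
        _ ≤ n ^ i * n * n := Nat.mul_le_mul_right _ (ih (by omega))
        _ = _ := by ring
  have h1 := key j le_rfl
  have h2 : n ≤ 2 * (n - j) := by omega
  refine Nat.le_of_mul_le_mul_right (c := n - j) (h1.trans ?_) (by omega)
  calc n ^ j * n ≤ n ^ j * (2 * (n - j)) := Nat.mul_le_mul_left _ h2
    _ = _ := by ring

theorem three_mul_pow_le {n k : ℕ} (hn : 9 ≤ n) (hk : 2 ^ k ≤ n) :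
    3 * n ^ (k + 1) ≤ 3 ^ n := by
  have step : ∀ j n₀ : ℕ, 2 * j ≤ n₀ → 3 * n₀ ^ j ≤ 3 ^ n₀ → ∀ n, n₀ ≤ n → 3 * n ^ j ≤ 3 ^ n := by
    intro j n₀ h1 h2 n hn
    induction n, hn using Nat.le_induction with
    | base => exact h2
    | succ n hn ih =>
      calc 3 * (n + 1) ^ j ≤ 3 * (2 * n ^ j) := Nat.mul_le_mul_left _ (succ_pow_le_two_mul (by omega))
        _ = 2 * (3 * n ^ j) := by ring
        _ ≤ 3 * 3 ^ n := Nat.mul_le_mul (by norm_num) ih
        _ = _ := by rw [pow_succ']
  rcases (by omega : k ≤ 3 ∨ 4 ≤ k) with h | h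
  · refine (Nat.mul_le_mul_left 3 ?_).trans (step 4 9 (by norm_num) (by norm_num) n hn)
    exact Nat.pow_le_pow_right (by omega) (by omega)
  · refine step (k + 1) (2 ^ k) ?_ ?_ n hk
    · clear hn hk
      induction k, h using Nat.le_induction with
      | base => norm_num
      | succ k hk ih => rw [pow_succ]; omega
    · clear hn hk
      induction k, h using Nat.le_induction with
      | base => norm_num
      | succ k hk ih =>
        have h5 : 2 ^ (2 * (k + 1)) ≤ 3 ^ 2 ^ k := by
          clear ih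
          induction k, hk using Nat.le_induction with
          | base => norm_num
          | succ k hk ih =>
            rw [pow_succ 2 k, pow_mul 3, show 2 * (k + 1 + 1) = 2 * (k + 1) + 2 by ring, pow_add]
            calc 2 ^ (2 * (k + 1)) * 2 ^ 2 ≤ 3 ^ 2 ^ k * 3 ^ 2 ^ k := Nat.mul_le_mul ih (by
                  calc 2 ^ 2 ≤ 3 ^ 2 := by norm_num
                    _ ≤ 3 ^ 2 ^ k := Nat.pow_le_pow_right (by norm_num)
                        ((show 2 ≤ 2 ^ 1 by norm_num).trans
                          (Nat.pow_le_pow_right two_pos (by omega))))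
              _ = _ := (sq _).symm
        calc 3 * (2 ^ (k + 1)) ^ (k + 1 + 1)
            = 3 * (2 ^ k) ^ (k + 1) * 2 ^ (2 * (k + 1)) := by
              rw [← pow_mul, ← pow_mul, mul_assoc 3, ← pow_add]; congr 2; ring
          _ ≤ 3 ^ 2 ^ k * 3 ^ 2 ^ k := Nat.mul_le_mul ih h5
          _ = _ := by rw [← pow_add]; congr 1; rw [pow_succ]; ring

theorem affine_count {n k : ℕ} (hn : 2 ≤ n) (hk : 2 ^ k ≤ n) :
    3 * (n * (n - 1).descFactorial k) ≤ 3 ^ n := by
  rcases (by omega : 9 ≤ n ∨ n ≤ 8) with h | h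
  · refine le_trans (Nat.mul_le_mul_left 3 ?_) (three_mul_pow_le h hk)
    rw [pow_succ' n k]
    exact Nat.mul_le_mul_left _ ((Nat.descFactorial_le_pow _ _).trans
      (Nat.pow_le_pow_left (by omega) _))
  · have hk3 : k ≤ 3 := by
      by_contra h4
      have : 2 ^ 4 ≤ 2 ^ k := Nat.pow_le_pow_right two_pos (by omega)
      omega
    interval_cases n <;> interval_cases k <;> simp_all [Nat.descFactorial]

/-- **The order of a solvable permutation group.** -/
theorem three_mul_card_perm_le : ∀ (n : ℕ) (Ω : Type u) [Finite Ω], Nat.card Ω = n → 0 < n →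
    ∀ G : Subgroup (Perm Ω), Group.IsSolvable G → 3 * Nat.card G ≤ 3 ^ n := by
  intro n
  induction n using Nat.strong_induction_on with
  | _ n ih =>
  intro Ω _ hn hn0 G hsol
  classical
  haveI := hsol
  by_cases hG : G = ⊥
  · rw [hG, Subgroup.card_bot, mul_one]
    exact Nat.le_self_pow hn0.ne' 3
  have step : ∀ N : Subgroup G, N.Normal → N ≠ ⊥ →
      ¬ (∀ x y : Ω, ∃ u ∈ N, ((u : G) : Perm Ω) x = y) → 3 * Nat.card G ≤ 3 ^ n := by
    intro N hN hN1 hNt
    let rel : Setoid Ω :=
      { r := fun x y => ∃ u ∈ N, ((u : G) : Perm Ω) x = y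
        iseqv := ⟨fun x => ⟨1, one_mem _, rfl⟩, fun {x y} => fun ⟨u, hu, h⟩ =>
          ⟨u⁻¹, inv_mem hu, by rw [← h]; simp⟩,
          fun {x y z} => fun ⟨u, hu, h⟩ ⟨v, hv, h'⟩ =>
            ⟨v * u, mul_mem hv hu, by rw [Subgroup.coe_mul, Perm.mul_apply, h, h']⟩⟩ }
    let π : Ω → Quotient rel := Quotient.mk rel
    have hmove : ∀ (g : G) x y, rel.r x y → rel.r ((g : Perm Ω) x) ((g : Perm Ω) y) := by
      rintro g x y ⟨u, hu, h⟩
      refine ⟨g * u * g⁻¹, hN.conj_mem u hu g, ?_⟩
      simp [h]
    let τfun : G → Quotient rel → Quotient rel := fun g =>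
      Quotient.map (g : Perm Ω) fun x y h => hmove g x y h
    have hτone : ∀ q, τfun 1 q = q := fun q => Quotient.inductionOn q fun x => rfl
    have hτmul : ∀ g h q, τfun (g * h) q = τfun g (τfun h q) := fun g h q =>
      Quotient.inductionOn q fun x => rfl
    let τ : G →* Perm (Quotient rel) :=
      { toFun := fun g => ⟨τfun g, τfun g⁻¹,
          fun q => by rw [← hτmul, inv_mul_cancel, hτone],
          fun q => by rw [← hτmul, mul_inv_cancel, hτone]⟩
        map_one' := Equiv.ext hτone
        map_mul' := fun g h => Equiv.ext (hτmul g h) }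
    have hπ : Function.Surjective π := Quotient.mk_surjective
    have hτ : ∀ (g : G) x, π ((g : Perm Ω) x) = τ g (π x) := fun g x => rfl
    obtain ⟨u, hu, hu1⟩ := N.bot_or_exists_ne_one.resolve_left hN1
    obtain ⟨x₁, hx₁⟩ : ∃ x, ((u : G) : Perm Ω) x ≠ x := by
      by_contra! h
      exact hu1 (Subtype.ext (Equiv.ext h))
    have hBlt : Nat.card (Quotient rel) < n := by
      rw [← hn]
      refine lt_of_le_of_ne (Nat.card_le_card_of_surjective π hπ) fun h => hx₁ ?_
      have hinj : Function.Injective π :=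
        ((Nat.bijective_iff_surjective_and_card π).2 ⟨hπ, h.symm⟩).1
      exact (hinj (Quotient.sound ⟨u, hu, rfl⟩ : π x₁ = π ((u : Perm Ω) x₁))).symm
    haveI : Nonempty (Quotient rel) := ⟨π x₁⟩
    have hI := ih _ hBlt (Quotient rel) rfl Nat.card_pos τ.range
      (Group.isSolvable_of_surjective τ.rangeRestrict_surjective)
    have hFlt : ∀ b, Nat.card {x // π x = b} < n := fun b => by
      rw [← hn]
      refine lt_of_le_of_ne (Finite.card_subtype_le _) fun h => hNt ?_
      have hall : ∀ x, π x = b := fun x => by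
        obtain ⟨y, rfl⟩ := ((Nat.bijective_iff_injective_and_card
          (Subtype.val : {x // π x = b} → Ω)).2 ⟨Subtype.val_injective, h⟩).2 x
        exact y.2
      intro x y
      exact Quotient.exact ((hall x).trans (hall y).symm)
    have hker : ∀ (g : τ.ker) (x : Ω), π (((g : G) : Perm Ω) x) = π x := fun g x => by
      rw [hτ, MonoidHom.mem_ker.1 g.2]; rfl
    let ρ : ∀ b, τ.ker →* Perm {x // π x = b} := fun b =>
      { toFun := fun g => ((g : G) : Perm Ω).subtypePerm fun x => by rw [hker g x]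
        map_one' := Equiv.ext fun x => rfl
        map_mul' := fun g h => Equiv.ext fun x => rfl }
    haveI := Fintype.ofFinite (Quotient rel)
    have hK : Nat.card τ.ker * 3 ^ Nat.card (Quotient rel) ≤ 3 ^ n := by
      have h1 : Nat.card τ.ker ≤ Nat.card (∀ b, (ρ b).range) :=
        Nat.card_le_card_of_injective (fun g b => (ρ b).rangeRestrict g) fun g h e =>
          Subtype.ext (Subtype.ext (Equiv.ext fun x =>
            congrArg (fun σ : (ρ (π x)).range => (((σ : Perm {y // π y = π x}) ⟨x, rfl⟩ : {y // π y = π x}) : Ω))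
              (congrFun e (π x))))
      have hsum : n = ∑ b, Nat.card {x // π x = b} := by
        rw [← hn, ← Nat.card_congr (Equiv.sigmaFiberEquiv π), Nat.card_sigma]
      rw [Nat.card_pi] at h1
      refine (Nat.mul_le_mul_right _ h1).trans ?_
      rw [Nat.card_eq_fintype_card (α := Quotient rel), ← Finset.card_univ, ← Finset.prod_const,
        ← Finset.prod_mul_distrib, hsum, ← Finset.prod_pow_eq_pow_sum]
      refine Finset.prod_le_prod' fun b _ => ?_
      haveI : Nonempty {x // π x = b} := (hπ b).elim fun x hx => ⟨⟨x, hx⟩⟩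
      rw [mul_comm]
      exact ih _ (hFlt b) _ rfl Nat.card_pos (ρ b).range
        (Group.isSolvable_of_surjective (ρ b).rangeRestrict_surjective)
    calc 3 * Nat.card G = 3 * Nat.card τ.range * Nat.card τ.ker := by
          rw [mul_assoc, Subgroup.card_eq_card_quotient_mul_card_subgroup τ.ker,
            Nat.card_congr (QuotientGroup.quotientKerEquivRange τ).toEquiv]
      _ ≤ 3 ^ Nat.card (Quotient rel) * Nat.card τ.ker := Nat.mul_le_mul_right _ hI
      _ ≤ _ := by rw [mul_comm]; exact hK
  by_cases htr : ∀ x y : Ω, ∃ u ∈ (⊤ : Subgroup G), ((u : G) : Perm Ω) x = y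
  swap
  · haveI : Nontrivial G := G.nontrivial_iff_ne_bot.2 hG
    exact step ⊤ inferInstance top_ne_bot htr
  haveI : Nontrivial G := G.nontrivial_iff_ne_bot.2 hG
  obtain ⟨N, hN, hN1, hmin⟩ := Solvable.exists_minimal_normal (G := G)
  by_cases hNt : ∀ x y : Ω, ∃ u ∈ N, ((u : G) : Perm Ω) x = y
  swap
  · exact step N hN hN1 hNt
  -- a regular normal subgroup
  have hab := Solvable.mul_comm_of_minimal_normal hN1 hmin
  haveI : Nonempty Ω := (Nat.card_pos_iff.1 (hn ▸ hn0)).1
  obtain ⟨x₀⟩ := ‹Nonempty Ω›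
  have hfree : ∀ u ∈ N, ∀ x : Ω, ((u : G) : Perm Ω) x = x → u = 1 := by
    intro u hu x hux
    refine Subtype.ext (Equiv.ext fun y => ?_)
    obtain ⟨v, hv, hvx⟩ := hNt x y
    have h1 : ((u * v : G) : Perm Ω) x = ((v * u : G) : Perm Ω) x := by rw [hab u hu v hv]
    simp only [Subgroup.coe_mul, Perm.mul_apply, hux, hvx] at h1
    simpa using h1
  let e : N → Ω := fun u => ((u : G) : Perm Ω) x₀
  have he : Function.Bijective e := by
    refine ⟨fun u v huv => ?_, fun y => ?_⟩
    · have h1 : (((v : G)⁻¹ * u : G) : Perm Ω) x₀ = x₀ := by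
        simp only [Subgroup.coe_mul, Subgroup.coe_inv, Perm.mul_apply]
        rw [show ((u : G) : Perm Ω) x₀ = ((v : G) : Perm Ω) x₀ from huv]
        simp
      exact Subtype.ext (inv_mul_eq_one.1
        (hfree _ (N.mul_mem (N.inv_mem v.2) u.2) x₀ h1)).symm
    · obtain ⟨u, hu, huy⟩ := hNt x₀ y
      exact ⟨⟨u, hu⟩, huy⟩
  have hcN : Nat.card N = n := (Nat.card_eq_of_bijective e he).trans hn
  have hn2 : 2 ≤ n := by
    rw [← hcN, Nat.succ_le_iff, Finite.one_lt_card_iff_nontrivial, Subgroup.nontrivial_iff_ne_bot]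
    exact hN1
  obtain ⟨k, t, ht, ht1, htgen, hk⟩ := exists_generators N
  rw [hcN] at hk
  let H : Subgroup G := MulAction.stabilizer G x₀
  have hHfix : ∀ h : H, ((h : G) : Perm Ω) x₀ = x₀ := fun h => h.2
  have hH : Nat.card H ≤ (n - 1).descFactorial k := by
    haveI := Fintype.ofFinite Ω
    have hne : ∀ (h : H) i, ((h : G) : Perm Ω) (e (t i)) ≠ x₀ := fun h i hi => ht1 i (he.1 (by
      exact (((h : G) : Perm Ω).injective (hi.trans (hHfix h).symm)).trans rfl))
    let Φ : H → (Fin k ↪ {x : Ω // x ≠ x₀}) := fun h =>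
      ⟨fun i => ⟨((h : G) : Perm Ω) (e (t i)), hne h i⟩, fun i j hij =>
        ht (he.1 (((h : G) : Perm Ω).injective (congrArg Subtype.val hij)))⟩
    have hΦ : Function.Injective Φ := by
      intro a b hab'
      rw [← inv_mul_eq_one]
      set h := a⁻¹ * b
      have hfix : ∀ i, ((h : G) : Perm Ω) (e (t i)) = e (t i) := fun i => by
        have := congrArg (fun f : Fin k ↪ {x : Ω // x ≠ x₀} => (f i : Ω)) hab'
        simp only [Φ, Function.Embedding.coeFn_mk] at this
        simp only [h, Subgroup.coe_mul, Subgroup.coe_inv, Perm.mul_apply]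
        exact Perm.inv_eq_iff_eq.2 this.symm
      have hcomm : ∀ u : N, (h : G) * u * (h : G)⁻¹ = u := by
        let F : Subgroup N := (Subgroup.centralizer {(h : G)}).subgroupOf N
        have hF : F = ⊤ := by
          rw [eq_top_iff, ← htgen, Subgroup.closure_le]
          rintro _ ⟨i, rfl⟩
          rw [SetLike.mem_coe, Subgroup.mem_subgroupOf, Subgroup.mem_centralizer_singleton_iff]
          have h1 : ((h : G) * (t i : G) * (h : G)⁻¹) = (t i : G) := by
            refine congrArg Subtype.val (he.1 (a₁ := ⟨_, hN.conj_mem _ (t i).2 (h : G)⟩) ?_)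
            simp only [e, Subgroup.coe_mul, Subgroup.coe_inv, Perm.mul_apply]
            rw [Perm.inv_eq_iff_eq.2 (hHfix h).symm]
            exact hfix i
          exact (mul_inv_eq_iff_eq_mul.1 h1).symm
        intro u
        have h1 : u ∈ F := hF ▸ Subgroup.mem_top u
        rw [Subgroup.mem_subgroupOf, Subgroup.mem_centralizer_singleton_iff] at h1
        rw [← h1, mul_inv_cancel_right]
      refine Subtype.ext (Subtype.ext (Equiv.ext fun y => ?_))
      obtain ⟨u, rfl⟩ := he.2 y
      show ((h : G) : Perm Ω) (e u) = e u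
      conv_rhs => rw [show e u = (((h : G) * u * (h : G)⁻¹ : G) : Perm Ω) x₀ by rw [hcomm u]]
      simp only [e, Subgroup.coe_mul, Subgroup.coe_inv, Perm.mul_apply]
      rw [Perm.inv_eq_iff_eq.2 (hHfix h).symm]
    refine (Nat.card_le_card_of_injective Φ hΦ).trans (le_of_eq ?_)
    rw [Nat.card_eq_fintype_card, Fintype.card_embedding_eq, Fintype.card_fin,
      Fintype.card_subtype_compl, Fintype.card_subtype_eq, ← Nat.card_eq_fintype_card, hn]
  have hidx : H.index ≤ n := by
    rw [MulAction.index_stabilizer, ← hn, ← Nat.card_coe_set_eq]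
    exact Finite.card_subtype_le _
  calc 3 * Nat.card G = 3 * (H.index * Nat.card H) := by rw [← H.card_mul_index]; ring
    _ ≤ 3 * (n * (n - 1).descFactorial k) :=
        Nat.mul_le_mul_left _ (Nat.mul_le_mul hidx hH)
    _ ≤ _ := affine_count hn2 hk

end CfsgLib.SolvKGV
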