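import Cfsg.Agent.SolvKGV.InnerLower
import Cfsg.Agent.SolvKGV.OrderBound
import Cfsg.Agent.SolvKGV.PermBound

/-!
# Linear groups with a central element without fixed points

A solvable completely reducible group on `q ^ d` elements with a central fixed-point-free element
of prime order `p` has few elements compared with its class number.
-/

set_option autoImplicit false
set_option linter.unusedSectionVars false
set_option linter.style.haveILetI false

namespace CfsgLib.SolvKGV

universe u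

namespace CentralBound

/-- The order of `q` modulo `p`. -/
noncomputable def ordMod (q p : ℕ) : ℕ := orderOf (q : ZMod p)

theorem ordMod_pos {q p : ℕ} (hp : p.Prime) (hq : q.Prime) (hne : q ≠ p) : 0 < ordMod q p := by
  haveI := Fact.mk hp
  refine orderOf_pos_iff.2 ?_
  have h : (q : ZMod p) ≠ 0 := by
    rw [Ne, ZMod.natCast_eq_zero_iff]
    exact fun h => hne ((Nat.prime_dvd_prime_iff_eq hp hq).1 h).symm
  exact isOfFinOrder_iff_pow_eq_one.2 ⟨p - 1, by have := hp.two_le; omega,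
    ZMod.pow_card_sub_one_eq_one h⟩

theorem dvd_pow_sub_one_iff {q p i : ℕ} (hq : 0 < q) :
    p ∣ q ^ i - 1 ↔ ordMod q p ∣ i := by
  rw [ordMod, orderOf_dvd_iff_pow_eq_one, ← Nat.cast_pow, ← Nat.cast_one (R := ZMod p),
    ZMod.natCast_eq_natCast_iff, Nat.ModEq.comm, Nat.modEq_iff_dvd' (Nat.one_le_pow _ _ hq)]

theorem inner_count {j m M n : ℕ} (hj : 1 ≤ j) (hM : 2 ≤ M) (hMm : M ≤ m)
    (hn : (M = 2 ∧ n ≤ 6) ∨ (M = 3 ∧ n ≤ 24) ∨ (M = 4 ∧ n ≤ 72) ∨ (M = 5 ∧ n ≤ 625) ∨
      (6 ≤ M ∧ n ≤ M ^ 6)) :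
    j ^ 2 * (n * M ^ 2) ≤ 24 ^ (j * m - 1) := by
  have h1 : n * M ^ 2 ≤ 24 ^ (M - 1) := by
    rcases hn with ⟨rfl, h⟩ | ⟨rfl, h⟩ | ⟨rfl, h⟩ | ⟨rfl, h⟩ | ⟨h6, h⟩
    iterate 4 (norm_num; omega)
    refine (Nat.mul_le_mul_right _ h).trans ?_
    rw [← pow_add]
    clear h hMm hM
    induction M, h6 using Nat.le_induction with
    | base => norm_num
    | succ M hM ih =>
      have h7 : (6 * (M + 1)) ^ 8 ≤ (7 * M) ^ 8 := Nat.pow_le_pow_left (by omega) 8
      rw [mul_pow, mul_pow] at h7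
      norm_num at h7 ⊢
      rw [show M = M - 1 + 1 by omega, pow_succ 24]
      rw [show M - 1 + 1 = M by omega]
      generalize (M + 1) ^ 8 = a at h7 ⊢
      norm_num at ih
      omega
  have h2 : j ^ 2 ≤ 24 ^ (j - 1) := by
    clear h1
    induction j, hj using Nat.le_induction with
    | base => norm_num
    | succ j hj ih =>
      calc (j + 1) ^ 2 ≤ 24 * j ^ 2 := by nlinarith
        _ ≤ 24 * 24 ^ (j - 1) := Nat.mul_le_mul_left _ ih
        _ = _ := by rw [← pow_succ', show j - 1 + 1 = j + 1 - 1 by omega]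
  refine (Nat.mul_le_mul h2 h1).trans ?_
  rw [← pow_add]
  refine Nat.pow_le_pow_right (by norm_num) ?_
  obtain ⟨j', rfl⟩ : ∃ j', j = j' + 1 := ⟨j - 1, by omega⟩
  obtain ⟨m', rfl⟩ : ∃ m', m = m' + 1 := ⟨m - 1, by omega⟩
  rw [show (j' + 1) * (m' + 1) = j' * m' + j' + m' + 1 by ring]
  omega

/-- An element without fixed points fixes every summand. -/
theorem mem_ker_perm {H V : Type*} [Group H] [Finite H] [AddCommGroup V] [DistribMulAction H V]
    [Finite V] {r : ℕ} (D : Decomp H V r) {p : ℕ} (hp : p.Prime) {x : H} (hxp : x ^ p = 1)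
    (hfix : ∀ v : V, x • v = v → v = 0) : x ∈ D.perm.ker := by
  rw [MonoidHom.mem_ker]
  refine Equiv.ext fun i => ?_
  by_contra hne
  change D.perm x i ≠ i at hne
  obtain ⟨v, hv, hv0⟩ : ∃ v, v ∈ D.part i ∧ v ≠ 0 := by
    haveI := Finite.one_lt_card_iff_nontrivial.1 (D.one_lt_card_part i)
    obtain ⟨v, hv⟩ := exists_ne (0 : D.part i)
    exact ⟨v, v.2, fun e => hv (Subtype.ext e)⟩
  have hmove : ∀ k, 0 < k → k < p → D.perm (x ^ k) i ≠ i := by
    intro k hk hkp e
    obtain ⟨c, hc⟩ := Nat.exists_mul_mod_eq_one_of_coprime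
      ((Nat.Prime.coprime_iff_not_dvd hp).2 (Nat.not_dvd_of_pos_of_lt hk hkp)).symm hp.one_lt
    refine hne ?_
    have hx : x = (x ^ k) ^ c := by
      rw [← pow_mul]
      conv_lhs => rw [← pow_one x, ← hc.2, ← pow_mod_natCard]
      rw [pow_mod_natCard, ← Nat.mod_add_div (k * c) p, pow_add, pow_mul x p, hxp, one_pow, mul_one,
        Nat.mod_add_div]
    rw [hx, map_pow]
    exact Function.IsFixedPt.perm_pow (e := D.perm (x ^ k)) e c
  set w := ∑ k ∈ Finset.range p, x ^ k • v with hw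
  have hwfix : x • w = w := by
    rw [hw, Finset.smul_sum]
    simp_rw [smul_smul, ← pow_succ']
    have h1 : ∑ k ∈ Finset.range (p + 1), x ^ k • v = ∑ k ∈ Finset.range p, x ^ k • v + v := by
      rw [Finset.sum_range_succ, hxp, one_smul]
    rw [Finset.sum_range_succ', pow_zero, one_smul] at h1
    exact add_right_cancel h1
  have hproj : D.proj i w = v := by
    rw [hw, map_sum, Finset.sum_eq_single 0]
    · rw [pow_zero, one_smul, D.proj_eq_self hv]
    · intro k hk hk0
      have h2 : x ^ k • v = D.proj (D.perm (x ^ k) i) (x ^ k • v) := by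
        rw [D.equi, D.proj_eq_self hv]
      rw [h2, D.orth, if_neg (Ne.symm (hmove k (Nat.pos_of_ne_zero hk0) (Finset.mem_range.1 hk)))]
    · intro h
      exact absurd (Finset.mem_range.2 hp.pos) h
  exact hv0 (hproj.symm.trans (by rw [hfix w hwfix, map_zero]))

end CentralBound

open CentralBound

/-- **The order against the class number.** -/
theorem central_bound : ∀ (N : ℕ) {C : Type u} [Group C] [Finite C] [Group.IsSolvable C]
    {V : Type u} [AddCommGroup V] [DistribMulAction C V] [Finite V] (q d p : ℕ) (x : C),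
    Nat.card V = N → q.Prime → p.Prime → q ≠ p → N = q ^ d → 1 ≤ d → Semi C V → Faith C V →
    (∀ c : C, c * x = x * c) → x ^ p = 1 → (∀ v : V, x • v = v → v = 0) →
      ∃ M, 1 ≤ M ∧ d = ordMod q p * M ∧ Nat.card C ^ 2 ≤ 24 ^ (M - 1) * P2 C := by
  intro N
  induction N using Nat.strong_induction_on with
  | _ N ih =>
  intro C _ _ _ V _ _ _ q d p x hN hq hp hqp hNq hd hs hf hcen hxp hfix
  classical
  have h1 : 1 < N := hNq ▸ Nat.one_lt_pow (by omega) hq.one_lt
  haveI : Nontrivial V := Finite.one_lt_card_iff_nontrivial.1 (hN ▸ h1)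
  by_cases hdec : ∃ r, Nonempty (Decomp C V r)
  · obtain ⟨r, ⟨D⟩⟩ := hdec
    have hxk := mem_ker_perm D hp hxp hfix
    have hpart : ∀ i, ∃ k, Nat.card (D.part i) = q ^ k := fun i =>
      ((Nat.dvd_prime_pow hq).1 (hNq ▸ hN ▸ card_part_dvd D i)).imp fun k h => h.2
    choose k hk using hpart
    have hkpos : ∀ i, 1 ≤ k i := fun i => by
      by_contra h0
      have := D.one_lt_card_part i
      rw [hk i, show k i = 0 by omega, pow_zero] at this
      omega
    have hsum : ∑ i, k i = d := Nat.pow_right_injective hq.two_le (by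
      show q ^ (∑ i, k i) = q ^ d
      rw [← hNq, ← hN, D.card_eq, Finset.prod_congr rfl fun i _ => hk i,
        Finset.prod_pow_eq_pow_sum])
    let E : Fin r → Type u := fun i => ((⊤ : Subgroup D.perm.ker).map (D.rep i) : Subgroup _)
    have hE : ∀ i, ∃ M, 1 ≤ M ∧ k i = ordMod q p * M ∧
        Nat.card (E i) ^ 2 ≤ 24 ^ (M - 1) * P2 (E i) := fun i => by
      haveI := D.isSolvable_map i ⊤
      refine ih _ (hN ▸ D.card_part_lt i) q (k i) p (V := D.part i)
        (⟨D.rep i ⟨x, hxk⟩, _, Subgroup.mem_top _, rfl⟩ :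
          ((⊤ : Subgroup D.perm.ker).map (D.rep i))) rfl hq hp hqp (hk i) (hkpos i)
        (D.semi_rep hs i ⊤) (faith_units ((⊤ : Subgroup D.perm.ker).map (D.rep i))) ?_ ?_ ?_
      · rintro ⟨_, c, -, rfl⟩
        refine Subtype.ext ?_
        show D.rep i c * D.rep i ⟨x, hxk⟩ = D.rep i ⟨x, hxk⟩ * D.rep i c
        rw [← map_mul, ← map_mul]
        exact congrArg _ (Subtype.ext (hcen c))
      · refine Subtype.ext ?_
        show D.rep i ⟨x, hxk⟩ ^ p = 1
        rw [← map_pow, ← map_one (D.rep i)]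
        exact congrArg _ (Subtype.ext hxp)
      · intro v hv
        refine Subtype.ext (hfix v ?_)
        exact (D.coe_rep_smul i ⟨x, hxk⟩ v).symm.trans (congrArg Subtype.val hv)
    choose M hM1 hMk hMb using hE
    refine ⟨∑ i, M i, ?_, ?_, ?_⟩
    · exact le_trans (hM1 ⟨0, by have := D.two; omega⟩)
        (Finset.single_le_sum (fun i _ => Nat.zero_le _) (Finset.mem_univ _))
    · rw [← hsum, Finset.mul_sum]
      exact Finset.sum_congr rfl fun i _ => hMk i
    let φ : D.perm.ker →* (∀ i, E i) :=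
      { toFun := fun n i => ⟨D.rep i n, n, Subgroup.mem_top _, rfl⟩
        map_one' := funext fun i => Subtype.ext (map_one _)
        map_mul' := fun a b => funext fun i => Subtype.ext (map_mul _ a b) }
    have hφ : Function.Injective φ := (injective_iff_map_eq_one φ).2 fun n hn =>
      D.rep_faith hf n fun i => congrArg Subtype.val (congrFun hn i)
    have hP := P2_mul_sq_le φ hφ
    rw [P2_pi, Nat.card_pi] at hP
    have hprod := Finset.prod_le_prod' (s := Finset.univ) fun i _ => hMb i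
    rw [Finset.prod_mul_distrib, Finset.prod_pow_eq_pow_sum, Finset.prod_pow] at hprod
    set n := Nat.card D.perm.ker
    set T := 24 ^ (∑ i, (M i - 1))
    have hPE : 0 < (∏ i, Nat.card (E i)) ^ 2 :=
      pow_pos (Finset.prod_pos fun i _ => Nat.card_pos) _
    have hn : n ^ 2 ≤ T * P2 C := by
      refine Nat.le_of_mul_le_mul_right (c := (∏ i, Nat.card (E i)) ^ 2) ?_ hPE
      calc n ^ 2 * (∏ i, Nat.card (E i)) ^ 2 ≤ n ^ 2 * (T * ∏ i, P2 (E i)) :=
            Nat.mul_le_mul_left _ hprod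
        _ = T * ((∏ i, P2 (E i)) * n ^ 2) := by ring
        _ ≤ T * (P2 D.perm.ker * (∏ i, Nat.card (E i)) ^ 2) := Nat.mul_le_mul_left _ hP
        _ ≤ T * (P2 C * (∏ i, Nat.card (E i)) ^ 2) := Nat.mul_le_mul_left _ (Nat.mul_le_mul_right _
            (P2_le_of_injective D.perm.ker.subtype Subtype.val_injective))
        _ = _ := by ring
    haveI := isSolvable_range D.perm
    have h3 := three_mul_card_perm_le r (Fin r) (Nat.card_fin r) (by have := D.two; omega)
      D.perm.range inferInstance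
    obtain ⟨r', rfl⟩ : ∃ r', r = r' + 1 := ⟨r - 1, by have := D.two; omega⟩
    rw [pow_succ, mul_comm (3 ^ r')] at h3
    have hexp : r' + ∑ i, (M i - 1) = ∑ i, M i - 1 := by
      have : ∑ i, (M i - 1) + ∑ _i : Fin (r' + 1), 1 = ∑ i, M i := by
        rw [← Finset.sum_add_distrib]
        exact Finset.sum_congr rfl fun i _ => Nat.sub_add_cancel (hM1 i)
      simp at this
      omega
    calc Nat.card C ^ 2 = Nat.card D.perm.range ^ 2 * n ^ 2 := by rw [D.card_eq_mul]; ring
      _ ≤ (3 ^ r') ^ 2 * (T * P2 C) :=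
          Nat.mul_le_mul (Nat.pow_le_pow_left (Nat.le_of_mul_le_mul_left h3 (by norm_num)) _) hn
      _ ≤ 24 ^ r' * (T * P2 C) := by
          refine Nat.mul_le_mul_right _ ?_
          rw [← pow_mul, mul_comm r' 2, pow_mul]
          exact Nat.pow_le_pow_left (by norm_num) _
      _ = _ := by rw [← hexp, pow_add]; ring
  obtain ⟨P⟩ := exists_prim (fun r D => hdec ⟨r, ⟨D⟩⟩) hs hf
  haveI := P.normalA
  obtain ⟨hpp, hem⟩ := prime_mul_eq P.prime hq P.e_pos P.m_pos
    (show P.p ^ (P.e * P.m) = q ^ d by rw [← P.card_eq, hN, hNq])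
  have hxA : x ∈ P.A := by
    haveI : (Subgroup.zpowers x).Normal := ⟨fun z hz g => by
      obtain ⟨i, rfl⟩ := hz
      rw [((Commute.zpow_right (hcen g : Commute g x) i).eq), mul_inv_cancel_right]
      exact ⟨i, rfl⟩⟩
    have hxc : ∀ S : Set C, Subgroup.zpowers x ≤ Subgroup.centralizer S := fun S =>
      Subgroup.zpowers_le.2 (Subgroup.mem_centralizer_iff.2 fun y _ => hcen y)
    have hLC : P.A ⊔ Subgroup.zpowers x ≤
        Subgroup.centralizer ((P.A ⊔ Subgroup.zpowers x : Subgroup C) : Set C) := by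
      refine sup_le ?_ (hxc _)
      rw [Subgroup.le_centralizer_iff]
      exact sup_le (fun a ha => Subgroup.mem_centralizer_iff.2 fun b hb => P.comm b hb a ha)
        (hxc _)
    have h := P.maxA (P.A ⊔ Subgroup.zpowers x) inferInstance
      (fun a ha b hb => (Subgroup.mem_centralizer_iff.1 (hLC ha) b hb).symm) le_sup_left
    exact h ▸ Subgroup.mem_sup_right (Subgroup.mem_zpowers x)
  have hx1 : x ≠ 1 := fun e => by
    obtain ⟨v, hv⟩ := exists_ne (0 : V)
    exact hv (hfix v (by rw [e, one_smul]))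
  haveI := Fact.mk hp
  have hox : orderOf x = p := orderOf_eq_prime hxp hx1
  set e := ordMod q p
  have he0 : 0 < e := ordMod_pos hp hq hqp
  have hpt : p ∣ Nat.card P.A := by
    rw [← hox, ← Subgroup.orderOf_mk x hxA]
    exact orderOf_dvd_natCard _
  obtain ⟨j, hj⟩ : e ∣ P.e := (dvd_pow_sub_one_iff hq.pos).1 (hpp ▸ hpt.trans P.card_dvd)
  have hj0 : 1 ≤ j := Nat.pos_of_ne_zero fun h => by
    have := P.e_pos
    rw [hj, h, mul_zero] at this
    omega
  have hidx : (Subgroup.centralizer (P.A : Set C)).index ≤ j := by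
    refine Nat.le_of_mul_le_mul_right (c := e) ?_ he0
    refine le_trans (P.index_mul_le x hxA hcen e fun i hi0 hie h => ?_) (by rw [hj, mul_comm])
    rw [hox, hpp, dvd_pow_sub_one_iff hq.pos] at h
    exact absurd (Nat.le_of_dvd hi0 h) (by omega)
  set C' := Subgroup.centralizer (P.A : Set C)
  set t := Nat.card P.A with ht
  refine ⟨j * P.m, Nat.one_le_iff_ne_zero.2 (Nat.mul_ne_zero (by omega) (by have := P.m_pos; omega)),
    by rw [← hem, hj, mul_assoc], ?_⟩
  have hAC' : P.A ≤ C' := fun a ha => Subgroup.mem_centralizer_iff.2 fun b hb => P.comm b hb a ha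
  have hkC : t * Nat.card C' ≤ P2 C := by
    refine le_trans ?_ (P2_le_of_injective C'.subtype Subtype.val_injective)
    rw [P2_eq]
    refine Nat.mul_le_mul_right _ ?_
    have h := card_le_classesIn_of_central (P.A.subgroupOf C') fun a ha g =>
      Subtype.ext (Inner.central g.2 ha)
    rw [Nat.card_congr (Subgroup.subgroupOfEquivOfLe hAC').toEquiv] at h
    exact h.trans (Finite.card_subtype_le _)
  have hC : Nat.card C ^ 2 ≤ j ^ 2 * Nat.card C' ^ 2 := by
    rw [← mul_pow, ← C'.card_mul_index, mul_comm]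
    exact Nat.pow_le_pow_left (Nat.mul_le_mul_right _ hidx) 2
  refine hC.trans ?_
  suffices h : j ^ 2 * Nat.card C' ≤ 24 ^ (j * P.m - 1) * t by
    calc j ^ 2 * Nat.card C' ^ 2 = j ^ 2 * Nat.card C' * Nat.card C' := by ring
      _ ≤ 24 ^ (j * P.m - 1) * t * Nat.card C' := Nat.mul_le_mul_right _ h
      _ ≤ _ := by rw [mul_assoc]; exact Nat.mul_le_mul_left _ hkC
  by_cases hCA : C' = P.A
  · rw [hCA]
    refine Nat.mul_le_mul_right _ ?_
    have h1 : j ^ 2 ≤ 24 ^ (j - 1) := by
      clear hkC hC hidx hj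
      induction j, hj0 using Nat.le_induction with
      | base => norm_num
      | succ j hj ih =>
        calc (j + 1) ^ 2 ≤ 24 * j ^ 2 := by nlinarith
          _ ≤ 24 * 24 ^ (j - 1) := Nat.mul_le_mul_left _ ih
          _ = _ := by rw [← pow_succ', show j - 1 + 1 = j + 1 - 1 by omega]
    refine h1.trans (Nat.pow_le_pow_right (by norm_num) ?_)
    have := Nat.le_mul_of_pos_right j (show 0 < P.m from P.m_pos)
    omega
  obtain ⟨I⟩ := exists_inner P hCA
  haveI := isSolvable_range (H := C') I.f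
  have hW := I.card_W
  have := I.two_le
  have hout : (I.M = 2 ∧ Nat.card I.f.range ≤ 6) ∨ (I.M = 3 ∧ Nat.card I.f.range ≤ 24) ∨
      (I.M = 4 ∧ Nat.card I.f.range ≤ 72) ∨ (I.M = 5 ∧ Nat.card I.f.range ≤ 625) ∨
      (6 ≤ I.M ∧ Nat.card I.f.range ≤ I.M ^ 6) := by
    rcases (by omega : I.M = 2 ∨ I.M = 3 ∨ I.M = 4 ∨ I.M = 5 ∨ 6 ≤ I.M) with h | h | h | h | h
    · exact Or.inl ⟨h, card_le_four (faith_units I.f.range) (by rw [hW, h]; rfl)⟩
    · exact Or.inr (Or.inl ⟨h, I.card_range_le_of_three h⟩)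
    · exact Or.inr (Or.inr (Or.inl ⟨h, card_le_sixteen I.semi (faith_units I.f.range)
        (by rw [hW, h]; rfl)⟩))
    · exact Or.inr (Or.inr (Or.inr (Or.inl ⟨h, card_le_of_prime_sq (faith_units I.f.range)
        (q := 5) (by norm_num) (by rw [hW, h])⟩)))
    · refine Or.inr (Or.inr (Or.inr (Or.inr ⟨h, ?_⟩)))
      refine (card_le_cube I.semi (faith_units I.f.range)).trans (le_of_eq ?_)
      rw [hW, ← pow_mul]
  calc j ^ 2 * Nat.card C' = j ^ 2 * (Nat.card I.f.range * I.M ^ 2) * t := by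
        rw [I.card_centralizer]; ring
    _ ≤ _ := Nat.mul_le_mul_right _ (inner_count hj0 I.two_le I.le_m hout)

end CfsgLib.SolvKGV
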