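import Cfsg.Agent.SolvKGV.ClassLowerMain
import Cfsg.Agent.SolvKGV.CentralBound
import Cfsg.Agent.Solvable.Fitting
import Mathlib.LinearAlgebra.Charpoly.Basic
import Mathlib.FieldTheory.IsAlgClosed.AlgebraicClosure

/-!
# The class number and the index of the Fitting subgroup

A solvable group whose Fitting index is divisible by `p` has at least `p / (3 log₂ p)` classes.
-/

set_option autoImplicit false
set_option linter.unusedSectionVars false
set_option linter.style.haveILetI false

namespace CfsgLib.SolvKGV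

universe u

namespace FittingCount

theorem small {p k : ℕ} (hp2 : 2 ≤ p) (hk : 4 * (p - 1) ≤ k ^ 2) (hp : p < 4096) :
    p ≤ 3 * Nat.log 2 p * k := by
  set l := Nat.log 2 p with hl
  have hl1 : 1 ≤ l := Nat.log_pos one_lt_two hp2
  have hlt : p < 2 ^ (l + 1) := Nat.lt_pow_succ_log_self one_lt_two p
  have hle : 2 ^ l ≤ p := Nat.pow_log_le_self 2 (by omega)
  have hl11 : l ≤ 11 := by
    by_contra h
    have : 2 ^ 12 ≤ 2 ^ l := Nat.pow_le_pow_right two_pos (by omega)
    omega
  have h2 : p * p ≤ 9 * l ^ 2 * (4 * (p - 1)) := by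
    have h36 : p + 2 ≤ 36 * l ^ 2 := by interval_cases l <;> omega
    obtain ⟨q, rfl⟩ : ∃ q, p = q + 1 := ⟨p - 1, by omega⟩
    rw [Nat.add_sub_cancel]
    nlinarith
  by_contra hcon
  push Not at hcon
  have h3 := Nat.mul_lt_mul'' hcon hcon
  have h4 : 9 * l ^ 2 * (4 * (p - 1)) ≤ 9 * l ^ 2 * k ^ 2 := Nat.mul_le_mul_left _ hk
  nlinarith

theorem large {p q e M e' d k r : ℕ} (hq : 2 ≤ q) (he : 0 < e) (hM : 1 ≤ M)
    (hp : 4096 ≤ p) (hqe : p < q ^ e) (hd : d = e * M) (he'd : e' ≤ d)
    (he'l : 3 * Nat.log 2 p < e')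
    (hmain : q ^ d ≤ 2 * e' ^ 2 * 24 ^ (M - 1) * (k * r)) :
    p ≤ 3 * Nat.log 2 p * (k + r) := by
  set l := Nat.log 2 p with hl
  have hlt : p < 2 ^ (l + 1) := Nat.lt_pow_succ_log_self one_lt_two p
  have hl12 : 12 ≤ l := Nat.le_log_of_pow_le one_lt_two (by norm_num; omega)
  set a := Nat.log 2 (q ^ e)
  have hal : l ≤ a := Nat.log_mono_right hqe.le
  have hae : e ≤ a := Nat.le_log_of_pow_le one_lt_two (Nat.pow_le_pow_left hq e)
  obtain ⟨b, hb⟩ : ∃ b, a = b + 5 := ⟨a - 5, by omega⟩
  set E := b * M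
  have h24 : 24 * 2 ^ E * 24 ^ (M - 1) ≤ q ^ d := by
    rw [hd, pow_mul q]
    refine le_trans ?_ (Nat.pow_le_pow_left (Nat.pow_log_le_self 2
      (pow_ne_zero e (by omega : q ≠ 0))) M)
    show _ ≤ (2 ^ a) ^ M
    rw [mul_right_comm, ← pow_succ', Nat.sub_add_cancel hM, hb, pow_add, mul_pow, ← pow_mul,
      mul_comm ((2 : ℕ) ^ (b * M))]
    exact Nat.mul_le_mul_right _ (Nat.pow_le_pow_left (by norm_num) M)
  have hkr : 12 * 2 ^ E ≤ e' ^ 2 * (k * r) := by
    refine Nat.le_of_mul_le_mul_left (c := 2 * 24 ^ (M - 1)) ?_ (by positivity)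
    calc 2 * 24 ^ (M - 1) * (12 * 2 ^ E) = 24 * 2 ^ E * 24 ^ (M - 1) := by ring
      _ ≤ q ^ d := h24
      _ ≤ _ := hmain
      _ = _ := by ring
  have he'M : e' ≤ a * M := he'd.trans (hd.le.trans (Nat.mul_le_mul_right _ hae))
  have h7 : 7 * e' ≤ 12 * E := by
    refine le_trans (Nat.mul_le_mul_left 7 he'M) ?_
    rw [← mul_assoc, ← mul_assoc]
    exact Nat.mul_le_mul_right _ (by omega)
  have hE : 3 * l - 14 ≤ E := by
    obtain ⟨c, hc⟩ : ∃ c, l = c + 5 := ⟨l - 5, by omega⟩
    have h1 : (3 * l + 1) * c ≤ E * l := by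
      calc (3 * l + 1) * c ≤ a * M * c := Nat.mul_le_mul_right _ (by omega)
        _ = a * c * M := by ring
        _ ≤ b * l * M := Nat.mul_le_mul_right _ (by rw [hb, hc]; nlinarith)
        _ = _ := by ring
    by_contra h
    have h2 : (E + 15) * l ≤ 3 * l * l := Nat.mul_le_mul_right _ (by omega)
    rw [hc] at h1 h2
    nlinarith
  have key : p ^ 2 * e' ^ 2 ≤ 432 * l ^ 2 * 2 ^ E := by
    have hgrow : ∀ F, 3 * l - 14 ≤ F → 4 * 2 ^ (2 * l) * F ^ 2 ≤ 147 * l ^ 2 * 2 ^ F := by
      intro F hF
      induction F, hF using Nat.le_induction with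
      | base =>
        obtain ⟨j, hj⟩ : ∃ j, l = j + 12 := ⟨l - 12, by omega⟩
        have e1 : 2 ^ (3 * l - 14) = 2 ^ (2 * l) * 2 ^ j / 4 := by
          rw [← pow_add, show 2 * l + j = 3 * l - 14 + 2 by omega, pow_add]
          omega
        have e2 : 4 * 2 ^ (3 * l - 14) = 2 ^ (2 * l) * 2 ^ j := by
          rw [← pow_add, show 2 * l + j = 2 + (3 * l - 14) by omega, pow_add]; rfl
        refine Nat.le_of_mul_le_mul_left (c := 4) ?_ (by norm_num)
        calc 4 * (4 * 2 ^ (2 * l) * (3 * l - 14) ^ 2)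
            ≤ 4 * (4 * 2 ^ (2 * l) * (3 * l) ^ 2) :=
              Nat.mul_le_mul_left _ (Nat.mul_le_mul_left _ (Nat.pow_le_pow_left (by omega) 2))
          _ = 144 * l ^ 2 * 2 ^ (2 * l) * 1 := by ring
          _ ≤ 147 * l ^ 2 * 2 ^ (2 * l) * 2 ^ j :=
              Nat.mul_le_mul (Nat.mul_le_mul_right _ (by omega)) Nat.one_le_two_pow
          _ = 147 * l ^ 2 * (4 * 2 ^ (3 * l - 14)) := by rw [e2]; ring
          _ = _ := by ring
      | succ F hF ih =>
        calc 4 * 2 ^ (2 * l) * (F + 1) ^ 2 ≤ 4 * 2 ^ (2 * l) * (2 * F ^ 2) :=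
              Nat.mul_le_mul_left _ (by
                have hF22 : 22 ≤ F := by omega
                have h22 : 22 * F ≤ F * F := Nat.mul_le_mul_right _ hF22
                nlinarith)
          _ = 2 * (4 * 2 ^ (2 * l) * F ^ 2) := by ring
          _ ≤ 2 * (147 * l ^ 2 * 2 ^ F) := Nat.mul_le_mul_left _ ih
          _ = _ := by rw [pow_succ]; ring
    refine Nat.le_of_mul_le_mul_left (c := 49) ?_ (by norm_num)
    calc 49 * (p ^ 2 * e' ^ 2) = p ^ 2 * (7 * e') ^ 2 := by ring
      _ ≤ (2 ^ (l + 1)) ^ 2 * (12 * E) ^ 2 :=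
          Nat.mul_le_mul (Nat.pow_le_pow_left hlt.le 2) (Nat.pow_le_pow_left h7 2)
      _ = 144 * (4 * 2 ^ (2 * l) * E ^ 2) := by rw [← pow_mul, add_mul, pow_add, mul_comm l 2]; ring
      _ ≤ 144 * (147 * l ^ 2 * 2 ^ E) := Nat.mul_le_mul_left _ (hgrow E hE)
      _ = _ := by ring
  by_contra hcon
  push Not at hcon
  have h36 : 36 * l ^ 2 * (k * r) < p ^ 2 := by
    refine lt_of_le_of_lt ?_ (Nat.pow_lt_pow_left hcon two_ne_zero)
    rw [mul_pow]
    nlinarith [sq_nonneg ((k : ℤ) - r)]
  have h1 : 432 * l ^ 2 * 2 ^ E ≤ 36 * l ^ 2 * (k * r) * e' ^ 2 := by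
    calc 432 * l ^ 2 * 2 ^ E = 36 * l ^ 2 * (12 * 2 ^ E) := by ring
      _ ≤ 36 * l ^ 2 * (e' ^ 2 * (k * r)) := Nat.mul_le_mul_left _ hkr
      _ = _ := by ring
  have h2 : 36 * l ^ 2 * (k * r) * e' ^ 2 < p ^ 2 * e' ^ 2 :=
    Nat.mul_lt_mul_of_pos_right h36 (pow_pos (by omega) 2)
  omega

end FittingCount

section action

variable {G : Type u} [Group G]

/-- The action by automorphisms on an abelian group, written additively. -/
abbrev autAction {X A : Type*} [Group X] [CommGroup A] (χ : X →* MulAut A) :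
    DistribMulAction X (Additive A) where
  smul g x := Additive.ofMul (χ g x.toMul)
  one_smul x := by
    show Additive.ofMul (χ 1 x.toMul) = x
    rw [map_one]; rfl
  mul_smul g h x := by
    show Additive.ofMul (χ (g * h) x.toMul) = Additive.ofMul (χ g (χ h x.toMul))
    rw [map_mul]; rfl
  smul_zero g := congrArg Additive.ofMul (map_one (χ g))
  smul_add g x y := congrArg Additive.ofMul (map_mul (χ g) x.toMul y.toMul)

/-- The conjugation on a normal subgroup, modulo its centraliser. -/
noncomputable def conjHom (N : Subgroup G) [N.Normal] :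
    G ⧸ Subgroup.centralizer (N : Set G) →* MulAut N :=
  QuotientGroup.lift _ MulAut.conjNormal fun c hc => MonoidHom.mem_ker.2 (MulEquiv.ext fun x =>
    Subtype.ext (by
      show ((MulAut.conjNormal c x : N) : G) = x
      rw [MulAut.conjNormal_apply, ← Subgroup.mem_centralizer_iff.1 hc x x.2,
        mul_inv_cancel_right]))

theorem conjHom_apply (N : Subgroup G) [N.Normal] (g : G) (x : N) :
    ((conjHom N (g : G ⧸ Subgroup.centralizer (N : Set G)) x : N) : G) = g * x * g⁻¹ :=
  MulAut.conjNormal_apply g x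

theorem conjHom_injective (N : Subgroup G) [N.Normal] : Function.Injective (conjHom N) := by
  refine (injective_iff_map_eq_one _).2 fun h e => ?_
  obtain ⟨g, rfl⟩ := QuotientGroup.mk_surjective h
  refine (QuotientGroup.eq_one_iff g).2 (Subgroup.mem_centralizer_iff.2 fun x hx => ?_)
  have e' := conjHom_apply N g ⟨x, hx⟩
  rw [e] at e'
  exact (mul_inv_eq_iff_eq_mul.1 e'.symm).symm

variable [Finite G]

/-- The orbits on a normal abelian subgroup. -/
theorem card_le_classesIn_centralizer (N : Subgroup G) [N.Normal] :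
    Nat.card N ≤ 1 + (Nat.card (ClassesIn N) - 1) * (Subgroup.centralizer (N : Set G)).index := by
  classical
  set C := Subgroup.centralizer (N : Set G)
  haveI := Fintype.ofFinite (ClassesIn N)
  rw [← Nat.card_congr (Equiv.sigmaFiberEquiv (classIn N)), Nat.card_sigma]
  set c₀ := classIn N 1
  rw [← Finset.add_sum_erase _ _ (Finset.mem_univ c₀)]
  refine Nat.add_le_add ?_ ((Finset.sum_le_card_nsmul _ _ C.index fun c _ => ?_).trans
    (le_of_eq ?_))
  · rw [Finite.card_le_one_iff_subsingleton, subsingleton_iff]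
    have key : ∀ x : {n : N // classIn N n = c₀}, (x.1 : N) = 1 := fun x => by
      have h : IsConj ((x.1 : N) : G) 1 :=
        ConjClasses.mk_eq_mk_iff_isConj.1 (congrArg Subtype.val x.2)
      exact Subtype.ext (isConj_one_left.1 h)
    exact fun x y => Subtype.ext ((key x).trans (key y).symm)
  · obtain ⟨n, hn⟩ := classesIn_rep N c
    rw [Subgroup.index_eq_card]
    have hg : ∀ x : {m : N // classIn N m = c}, ∃ g : G, g * (n : G) * g⁻¹ = ((x.1 : N) : G) :=
      fun x => isConj_iff.1 (ConjClasses.mk_eq_mk_iff_isConj.1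
        (hn.trans (congrArg Subtype.val x.2).symm))
    choose g hg using hg
    refine Nat.card_le_card_of_injective (fun x => (g x : G ⧸ C)) fun x y e => ?_
    obtain ⟨c', hc', hgc⟩ : ∃ c' ∈ C, g y = g x * c' :=
      ⟨(g x)⁻¹ * g y, QuotientGroup.eq.1 e, by group⟩
    refine Subtype.ext (Subtype.ext ?_)
    rw [← hg x, ← hg y, hgc]
    calc g x * (n : G) * (g x)⁻¹ = g x * ((n : G) * c' * c'⁻¹) * (g x)⁻¹ := by group
      _ = g x * (c' * (n : G) * c'⁻¹) * (g x)⁻¹ := by
          rw [Subgroup.mem_centralizer_iff.1 hc' n n.2]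
      _ = _ := by group
  · rw [Finset.card_erase_of_mem (Finset.mem_univ _), Finset.card_univ, smul_eq_mul,
      Nat.card_eq_fintype_card]

/-- The classes from the quotient by the centraliser of an abelian normal subgroup. -/
theorem classes_centralizer_add (N : Subgroup G) [N.Normal]
    (hNC : N ≤ Subgroup.centralizer (N : Set G)) :
    Nat.card (ConjClasses (G ⧸ Subgroup.centralizer (N : Set G))) +
      (Nat.card (ClassesIn N) - 1) ≤ Nat.card (ConjClasses G) := by
  have h := quot_add_classesIn_le N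
  have h2 : Nat.card (ConjClasses (G ⧸ Subgroup.centralizer (N : Set G))) ≤
      Nat.card (ConjClasses (G ⧸ N)) := by
    let f : G ⧸ N →* G ⧸ Subgroup.centralizer (N : Set G) :=
      QuotientGroup.map _ _ (MonoidHom.id G) hNC
    have hf : Function.Surjective f := fun x => by
      obtain ⟨g, rfl⟩ := QuotientGroup.mk_surjective x
      exact ⟨(g : G ⧸ N), rfl⟩
    exact Nat.card_le_card_of_surjective _ (ConjClasses.map_surjective (f := f) hf)
  have : 0 < Nat.card (ClassesIn N) := Nat.card_pos_iff.2 ⟨⟨classIn N 1⟩, inferInstance⟩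
  omega

/-- The invariant subgroups of a minimal normal subgroup. -/
theorem inv_eq_bot_or_eq_top (N : Subgroup G) [N.Normal] (hab : ∀ a ∈ N, ∀ b ∈ N, a * b = b * a)
    (hmin : ∀ M : Subgroup G, M.Normal → M ≤ N → M = ⊥ ∨ M = N) :
    letI : CommGroup N :=
      { (inferInstance : Group N) with mul_comm := fun a b => Subtype.ext (hab a a.2 b b.2) }
    letI := autAction (conjHom N)
    ∀ U : AddSubgroup (Additive N), IsInv (G ⧸ Subgroup.centralizer (N : Set G)) U →
      U = ⊥ ∨ U = ⊤ := by
  letI : CommGroup N :=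
    { (inferInstance : Group N) with mul_comm := fun a b => Subtype.ext (hab a a.2 b b.2) }
  letI := autAction (conjHom N)
  show ∀ U : AddSubgroup (Additive N), IsInv (G ⧸ Subgroup.centralizer (N : Set G)) U →
    U = ⊥ ∨ U = ⊤
  intro U hU
  let U' : Subgroup G := (AddSubgroup.toSubgroup' U).map N.subtype
  have hU' : U'.Normal := ⟨by
    rintro _ ⟨x, hx, rfl⟩ g
    exact ⟨conjHom N (g : G ⧸ Subgroup.centralizer (N : Set G)) x,
      hU (g : G ⧸ Subgroup.centralizer (N : Set G)) (Additive.ofMul x) hx, conjHom_apply N g x⟩⟩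
  rcases hmin U' hU' (Subgroup.map_subtype_le _) with h | h
  · left
    rw [eq_bot_iff]
    intro u hu
    have h' : (u.toMul : G) ∈ U' := ⟨u.toMul, hu, rfl⟩
    rw [h, Subgroup.mem_bot] at h'
    exact congrArg Additive.ofMul (Subtype.ext h' : u.toMul = 1)
  · right
    rw [eq_top_iff]
    intro u _
    obtain ⟨x, hx, e⟩ := (h.ge u.toMul.2 : (u.toMul : G) ∈ U')
    have he : x = u.toMul := Subtype.ext e
    subst he
    exact hx

/-- A minimal normal subgroup of rank at least two. -/
theorem le_of_minimal_normal [Group.IsSolvable G] {p a : ℕ} (hp : p.Prime) (N : Subgroup G)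
    [N.Normal] (hab : ∀ x ∈ N, ∀ y ∈ N, x * y = y * x)
    (hmin : ∀ M : Subgroup G, M.Normal → M ≤ N → M = ⊥ ∨ M = N)
    (hN : Nat.card N = p ^ a) (ha : 2 ≤ a) : 49 * p ≤ 60 * Nat.card (ConjClasses G) := by
  letI : CommGroup N :=
    { (inferInstance : Group N) with mul_comm := fun a b => Subtype.ext (hab a a.2 b b.2) }
  letI := autAction (conjHom N)
  haveI := Group.isSolvable_of_surjective
    (QuotientGroup.mk'_surjective (Subgroup.centralizer (N : Set G)))
  have hf : Faith (G ⧸ Subgroup.centralizer (N : Set G)) (Additive N) := fun h hh =>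
    conjHom_injective N ((MulEquiv.ext fun x => congrArg Additive.toMul (hh (Additive.ofMul x))
      : conjHom N h = 1).trans (map_one _).symm)
  have hs : Semi (G ⧸ Subgroup.centralizer (N : Set G)) (Additive N) := fun U hU => by
    rcases inv_eq_bot_or_eq_top N hab hmin U hU with h | h <;> rw [h]
    · exact ⟨⊤, isInv_top, isCompl_bot_top⟩
    · exact ⟨⊥, isInv_bot, isCompl_top_bot⟩
  have h1 := card_le_classesIn_centralizer N
  rw [hN, Subgroup.index_eq_card] at h1
  have h2 := classes_centralizer_add N fun x hx =>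
    Subgroup.mem_centralizer_iff.2 fun y hy => hab y hy x hx
  exact (le_classes_add (V := Additive N) hp hN ha hs hf _
    (Nat.sub_le_iff_le_add'.2 h1)).trans (Nat.mul_le_mul_left _ h2)

end action

section linHom

variable (H : Type u) [Group H] (V : Type u) [AddCommGroup V] [DistribMulAction H V]
variable (q : ℕ) [Module (ZMod q) V]

/-- The action as linear maps. -/
def linHom : H →* Module.End (ZMod q) V where
  toFun g := (DistribSMul.toAddMonoidHom V g).toZModLinearMap q
  map_one' := by
    ext v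
    simp
  map_mul' g h := by
    ext v
    simp [mul_smul]

theorem linHom_apply (g : H) (v : V) : linHom H V q g v = g • v := rfl

end linHom

section linear

variable {H : Type u} [Group H] [Finite H] {V : Type u} [AddCommGroup V] [DistribMulAction H V]
  [Finite V]

open Polynomial in
/-- The number of conjugate powers is at most the dimension. -/
theorem index_le_dim {q d p : ℕ} (hq : q.Prime) (hp : p.Prime) (hV : Nat.card V = q ^ d)
    (hd : 1 ≤ d) (helem : ∀ v : V, q • v = 0) (x : H) (hn : (Subgroup.zpowers x).Normal)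
    (hxp : x ^ p = 1) (hfix : ∀ v : V, x • v = v → v = 0) :
    (Subgroup.centralizer ({x} : Set H)).index ≤ d := by
  classical
  haveI := Fact.mk hq
  haveI := Fact.mk hp
  haveI : Nontrivial V := Finite.one_lt_card_iff_nontrivial.1
    (hV ▸ Nat.one_lt_pow (by omega) hq.one_lt)
  haveI hmod : Module (ZMod q) V := AddCommGroup.zmodModule helem
  let L : H →* Module.End (ZMod q) V := linHom H V q
  have hL : ∀ (g : H) (v : V), L g v = g • v := linHom_apply H V q
  set f := L x
  have hfp : f ^ p = 1 := by rw [← map_pow, hxp, map_one]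
  set P := minpoly (ZMod q) f
  have hint : IsIntegral (ZMod q) f := Algebra.IsIntegral.isIntegral f
  have hPd : P.natDegree ≤ d := by
    have hfin : Module.finrank (ZMod q) V = d := by
      have h : Nat.card V = Nat.card (ZMod q) ^ Module.finrank (ZMod q) V :=
        Module.natCard_eq_pow_finrank
      rw [hV, Nat.card_zmod] at h
      exact (Nat.pow_right_injective hq.two_le h).symm
    rw [← hfin, ← LinearMap.charpoly_natDegree f]
    exact Polynomial.natDegree_le_of_dvd (LinearMap.minpoly_dvd_charpoly f)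
      (LinearMap.charpoly_monic f).ne_zero
  let K := AlgebraicClosure (ZMod q)
  obtain ⟨ζ, hζ⟩ := IsAlgClosed.exists_aeval_eq_zero K P (minpoly.degree_pos hint).ne'
  have hζp : ζ ^ p = 1 := by
    have h : P ∣ X ^ p - 1 := minpoly.dvd _ _ (by
      rw [map_sub, map_pow, aeval_X, map_one, hfp, sub_self])
    have h' := Polynomial.aeval_eq_zero_of_dvd_aeval_eq_zero h hζ
    rwa [map_sub, map_pow, aeval_X, map_one, sub_eq_zero] at h'
  have hζ1 : ζ ≠ 1 := by
    intro e
    have h1 : P.IsRoot 1 := by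
      apply (algebraMap (ZMod q) K).injective
      rw [map_zero, ← Polynomial.aeval_algebraMap_apply_eq_algebraMap_eval, map_one, ← e, hζ]
    obtain ⟨g, hg⟩ := Polynomial.dvd_iff_isRoot.2 h1
    have hg0 : g ≠ 0 := fun e0 => minpoly.ne_zero hint (by
      show P = 0
      rw [hg, e0, mul_zero])
    have hgf : aeval f g ≠ 0 := fun e0 => by
      have h2 : P.natDegree ≤ g.natDegree := Polynomial.natDegree_le_of_dvd (minpoly.dvd _ _ e0) hg0
      rw [hg, Polynomial.natDegree_mul (Polynomial.X_sub_C_ne_zero 1) hg0,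
        Polynomial.natDegree_X_sub_C] at h2
      omega
    obtain ⟨v, hv⟩ := DFunLike.ne_iff.1 hgf
    refine hv (hfix _ ?_)
    have h3 : aeval f P = 0 := minpoly.aeval _ _
    rw [hg, map_mul, map_sub, aeval_X, aeval_C, map_one] at h3
    have h4 := LinearMap.congr_fun h3 v
    rw [Module.End.mul_apply, LinearMap.sub_apply, Module.End.one_apply, LinearMap.zero_apply,
      sub_eq_zero] at h4
    exact h4
  have hoζ : orderOf ζ = p := orderOf_eq_prime hζp hζ1
  have hx1 : x ≠ 1 := fun e => by
    obtain ⟨v, hv⟩ := exists_ne (0 : V)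
    exact hv (hfix v (by rw [e, one_smul]))
  have hox : orderOf x = p := orderOf_eq_prime hxp hx1
  -- the exponent of a coset
  let C := Subgroup.centralizer ({x} : Set H)
  have hi : ∀ u : H ⧸ C, ∃ i, i < p ∧ u.out * x * u.out⁻¹ = x ^ i := fun u => by
    obtain ⟨i, hi⟩ := mem_powers_iff_mem_zpowers.2
      (hn.conj_mem x (Subgroup.mem_zpowers x) u.out)
    exact ⟨i % p, Nat.mod_lt _ hp.pos, by rw [← hox, pow_mod_orderOf]; exact hi.symm⟩
  choose i hip hi using hi
  have hroot : ∀ u, aeval (ζ ^ i u) P = 0 := fun u => by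
    have hsemi : ∀ Q : (ZMod q)[X], L u.out * aeval f Q = aeval (f ^ i u) Q * L u.out := by
      intro Q
      induction Q using Polynomial.induction_on' with
      | add a b ha hb => rw [map_add, map_add, mul_add, add_mul, ha, hb]
      | monomial m c =>
        rw [aeval_monomial, aeval_monomial, ← mul_assoc, ← Algebra.commutes, mul_assoc, mul_assoc]
        congr 1
        refine SemiconjBy.pow_right ?_ m
        show L u.out * L x = L x ^ i u * L u.out
        rw [← map_pow, ← map_mul, ← map_mul, ← hi u, inv_mul_cancel_right]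
    have h0 : aeval (f ^ i u) P = 0 := by
      have h := hsemi P
      rw [minpoly.aeval, mul_zero] at h
      refine LinearMap.ext fun v => ?_
      have h' := LinearMap.congr_fun h.symm (u.out⁻¹ • v)
      rw [Module.End.mul_apply, hL, smul_inv_smul] at h'
      exact h'
    have hdvd : P ∣ P.comp (X ^ i u) := minpoly.dvd _ _ (by
      rw [aeval_comp, map_pow, aeval_X, h0])
    have h := Polynomial.aeval_eq_zero_of_dvd_aeval_eq_zero hdvd hζ
    rwa [aeval_comp, map_pow, aeval_X] at h
  have hinj : Function.Injective fun u => ζ ^ i u := fun u v e => by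
    have e' : i u = i v := by
      have := ((orderOf_pos_iff.1 (hoζ.symm ▸ hp.pos)).pow_eq_pow_iff_modEq).1 e
      rw [hoζ] at this
      exact Nat.ModEq.eq_of_lt_of_lt this (hip u) (hip v)
    rw [← u.out_eq', ← v.out_eq', QuotientGroup.eq, Subgroup.mem_centralizer_singleton_iff]
    have h2 : u.out * x * u.out⁻¹ = v.out * x * v.out⁻¹ := by rw [hi u, hi v, e']
    calc u.out⁻¹ * v.out * x = u.out⁻¹ * (v.out * x * v.out⁻¹) * v.out := by group
      _ = _ := by rw [← h2]; group
  haveI := Fintype.ofFinite (H ⧸ C)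
  rw [Subgroup.index_eq_card, Nat.card_eq_fintype_card, ← Finset.card_univ,
    ← Finset.card_image_of_injective _ hinj]
  refine le_trans (Polynomial.card_le_degree_of_subset_roots (p := P.map (algebraMap (ZMod q) K))
    ?_) ((Polynomial.natDegree_map_le).trans hPd)
  intro z hz
  obtain ⟨u, -, rfl⟩ := Finset.mem_image.1 hz
  rw [Polynomial.mem_roots (Polynomial.map_ne_zero (minpoly.ne_zero hint)), Polynomial.IsRoot,
    Polynomial.eval_map_algebraMap]
  exact hroot u

/-- The bound for an irreducible group with a normal `p`-subgroup. -/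
theorem irreducible_bound [Group.IsSolvable H] {q d p : ℕ} (hq : q.Prime) (hp : p.Prime)
    (hqp : q ≠ p) (hV : Nat.card V = q ^ d) (hd : 1 ≤ d) (helem : ∀ v : V, q • v = 0)
    (hf : Faith H V) (hirr : ∀ U : AddSubgroup V, IsInv H U → U = ⊥ ∨ U = ⊤)
    (R : Subgroup H) [hRn : R.Normal] (hRne : R ≠ ⊥) (hRp : ∀ a ∈ R, a ^ p = 1)
    (hRab : ∀ a ∈ R, ∀ b ∈ R, a * b = b * a)
    (hRmin : ∀ M : Subgroup H, M.Normal → M ≤ R → M = ⊥ ∨ M = R) (r : ℕ)
    (hr : q ^ d - 1 ≤ r * Nat.card H) :
    p ≤ 3 * Nat.log 2 p * (Nat.card (ConjClasses H) + r) := by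
  haveI := Fact.mk hp
  have hl1 : 1 ≤ Nat.log 2 p := Nat.log_pos one_lt_two hp.two_le
  set k := Nat.card (ConjClasses H) with hk
  obtain ⟨a, ha⟩ := IsPGroup.iff_card.1 (fun z => ⟨1, by
    rw [pow_one]; exact Subtype.ext (hRp z z.2)⟩ : IsPGroup p R)
  have ha0 : a ≠ 0 := fun e => by rw [e, pow_zero, Subgroup.card_eq_one] at ha; exact hRne ha
  rcases (by omega : 2 ≤ a ∨ a = 1) with ha2 | rfl
  · have h := le_of_minimal_normal hp R hRab hRmin ha ha2
    have h1 : 3 * 1 * (k + r) ≤ 3 * Nat.log 2 p * (k + r) :=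
      Nat.mul_le_mul_right _ (Nat.mul_le_mul_left 3 hl1)
    omega
  rw [pow_one] at ha
  set C := Subgroup.centralizer (R : Set H) with hC
  haveI : C.Normal := by rw [hC]; infer_instance
  have hRC : R ≤ C := fun z hz => Subgroup.mem_centralizer_iff.2 fun y hy => hRab y hy z hz
  have h1 := card_le_classesIn_centralizer R
  rw [ha, ← hC] at h1
  have h2 : Nat.card (ConjClasses (H ⧸ C)) + (Nat.card (ClassesIn R) - 1) ≤ k :=
    classes_centralizer_add R hRC
  set r₀ := Nat.card (ClassesIn R) - 1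
  set e' := C.index with he'
  haveI : IsCyclic R := isCyclic_of_prime_card ha
  have hab : ∀ g h : H ⧸ C, g * h = h * g := fun g h => by
    refine conjHom_injective R ?_
    rw [map_mul, map_mul]
    obtain ⟨i, hi⟩ := MonoidHom.map_cyclic (conjHom R g).toMonoidHom
    obtain ⟨j, hj⟩ := MonoidHom.map_cyclic (conjHom R h).toMonoidHom
    refine MulEquiv.ext fun z => ?_
    have hi' : ∀ y, conjHom R g y = y ^ i := hi
    have hj' : ∀ y, conjHom R h y = y ^ j := hj
    rw [MulAut.mul_apply, MulAut.mul_apply, hj', hi', hi', hj', ← zpow_mul, ← zpow_mul, mul_comm]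
  have hkq : e' ≤ Nat.card (ConjClasses (H ⧸ C)) := by
    rw [he', Subgroup.index_eq_card]
    refine Nat.card_le_card_of_injective ConjClasses.mk fun y z e => ?_
    obtain ⟨c, hc⟩ := isConj_iff.1 (ConjClasses.mk_eq_mk_iff_isConj.1 e)
    rwa [hab c y, mul_inv_cancel_right] at hc
  have h4 : 4 * (p - 1) ≤ (e' + r₀) ^ 2 := by
    have : p - 1 ≤ r₀ * e' := by omega
    nlinarith [sq_nonneg ((e' : ℤ) - r₀)]
  by_cases hgood : p ≤ 3 * Nat.log 2 p * (e' + r₀)
  · exact hgood.trans (Nat.mul_le_mul_left _ (by omega))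
  have hp4096 : 4096 ≤ p := by
    by_contra h
    exact hgood (FittingCount.small hp.two_le h4 (by omega))
  -- the number of conjugate powers is large
  set l := Nat.log 2 p
  have he'l : 3 * l < e' := by
    push Not at hgood
    have hl12 : 12 ≤ l := Nat.le_log_of_pow_le one_lt_two (by norm_num; omega)
    by_contra hle
    push Not at hle
    have h5 : 3 * l * (e' + r₀) + 1 ≤ p := hgood
    have h6 : p - 1 ≤ r₀ * e' := by omega
    have h7 : e' * e' + r₀ * e' ≤ 3 * l * (e' + r₀) := by
      calc e' * e' + r₀ * e' = e' * (e' + r₀) := by ring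
        _ ≤ _ := Nat.mul_le_mul_right _ hle
    rcases Nat.eq_zero_or_pos e' with h | h
    · exact Subgroup.index_ne_zero_of_finite h
    · have : 1 ≤ e' * e' := Nat.mul_pos h h
      omega
  haveI : Nontrivial V := Finite.one_lt_card_iff_nontrivial.1
    (hV ▸ Nat.one_lt_pow (by omega) hq.one_lt)
  obtain ⟨x, hxR, hx1⟩ := R.bot_or_exists_ne_one.resolve_left hRne
  have hzx : Subgroup.zpowers x = R := by
    refine Subgroup.eq_of_le_of_card_ge (Subgroup.zpowers_le.2 hxR) ?_
    rw [Nat.card_zpowers, orderOf_eq_prime (hRp x hxR) hx1, ha]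
  have hCx : C = Subgroup.centralizer ({x} : Set H) := by
    rw [hC, ← hzx, Subgroup.zpowers_eq_closure, Subgroup.centralizer_closure]
  have hfix : ∀ v : V, x • v = v → v = 0 := by
    let U : AddSubgroup V :=
      { carrier := {v | ∀ z ∈ R, z • v = v}
        zero_mem' := fun z _ => smul_zero z
        add_mem' := fun hv hw z hz => by rw [smul_add, hv z hz, hw z hz]
        neg_mem' := fun hv z hz => by rw [smul_neg, hv z hz] }
    have hU : IsInv H U := fun h v hv z hz => by
      have := hv (h⁻¹ * z * h) (by simpa using hRn.conj_mem z hz h⁻¹)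
      calc z • h • v = h • (h⁻¹ * z * h) • v := by rw [smul_smul, smul_smul]; congr 1; group
        _ = _ := by rw [this]
    rcases hirr U hU with h | h
    · intro v hv
      have hvU : v ∈ U := fun z hz => by
        rw [← hzx] at hz
        exact Subgroup.zpowers_le.2 (show x ∈ MulAction.stabilizer H v from hv) hz
      rwa [h, AddSubgroup.mem_bot] at hvU
    · exact absurd (hf x fun v => (h ▸ AddSubgroup.mem_top v : v ∈ U) x hxR) hx1
  have he'd : e' ≤ d := by
    rw [he', hCx]
    exact index_le_dim hq hp hV hd helem x (hzx ▸ hRn) (hRp x hxR) hfix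
  have hs : Semi H V := fun U hU => by
    rcases hirr U hU with h | h <;> rw [h]
    · exact ⟨⊤, isInv_top, isCompl_bot_top⟩
    · exact ⟨⊥, isInv_bot, isCompl_top_bot⟩
  obtain ⟨M, hM1, hdM, hbound⟩ := central_bound _ (C := C) (V := V) q d p ⟨x, hRC hxR⟩ rfl hq hp
    hqp hV hd (semi_normal hs C) (faith_subgroup hf C) (fun c => Subtype.ext
      ((Subgroup.mem_centralizer_iff.1 c.2 x hxR).symm)) (Subtype.ext (hRp x hxR)) hfix
  refine FittingCount.large hq.two_le (CentralBound.ordMod_pos hp hq hqp) hM1 hp4096 ?_ hdM he'd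
    he'l ?_
  · have h := (CentralBound.dvd_pow_sub_one_iff (p := p) hq.pos).2
      (dvd_refl (CentralBound.ordMod q p))
    have hpos : 1 < q ^ CentralBound.ordMod q p :=
      Nat.one_lt_pow (CentralBound.ordMod_pos hp hq hqp).ne' hq.one_lt
    have := Nat.le_of_dvd (by omega) h
    omega
  · have hH : Nat.card H = e' * Nat.card C := by rw [mul_comm, C.card_mul_index]
    have hCk : Nat.card C ≤ 24 ^ (M - 1) * (k * e') := by
      refine Nat.le_of_mul_le_mul_right (c := Nat.card C) ?_ Nat.card_pos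
      calc Nat.card C * Nat.card C = Nat.card C ^ 2 := (sq _).symm
        _ ≤ 24 ^ (M - 1) * P2 C := hbound
        _ ≤ 24 ^ (M - 1) * P2 H :=
            Nat.mul_le_mul_left _ (P2_le_of_injective C.subtype Subtype.val_injective)
        _ = _ := by rw [P2_eq, hH, ← hk]; ring
    have hq2 : 2 ≤ q ^ d := le_trans hq.two_le (Nat.le_self_pow (by omega) q)
    have hr2 : q ^ d ≤ 2 * (r * Nat.card H) := by omega
    refine hr2.trans ?_
    rw [hH]
    calc 2 * (r * (e' * Nat.card C)) ≤ 2 * (r * (e' * (24 ^ (M - 1) * (k * e')))) :=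
          Nat.mul_le_mul_left _ (Nat.mul_le_mul_left _ (Nat.mul_le_mul_left _ hCk))
      _ = _ := by ring

end linear

section reduction

/-- **The class number and the index of the Fitting subgroup.** -/
theorem le_log_mul_classes {p : ℕ} [Fact p.Prime] : ∀ (n : ℕ) (G : Type u) [Group G] [Finite G]
    [Group.IsSolvable G], Nat.card G = n → p ∣ (Cfsg.fittingSubgroup G).index →
    p ≤ 3 * Nat.log 2 p * Nat.card (ConjClasses G) := by
  intro n
  induction n using Nat.strong_induction_on with
  | _ n ih =>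
  intro G _ _ _ hn hdvd
  classical
  subst hn
  have hp : p.Prime := Fact.out
  by_cases hex : ∃ M : Subgroup G, ∃ h : M.Normal,
      M ≠ ⊥ ∧ p ∣ (Cfsg.fittingSubgroup (G ⧸ M)).index
  · obtain ⟨M, hM, hne, hd⟩ := hex
    haveI := Group.isSolvable_of_surjective (QuotientGroup.mk'_surjective M)
    have hlt : Nat.card (G ⧸ M) < Nat.card G := by
      conv_rhs => rw [Subgroup.card_eq_card_quotient_mul_card_subgroup M]
      exact lt_mul_of_one_lt_right Nat.card_pos (M.one_lt_card_iff_ne_bot.2 hne)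
    refine (ih _ hlt (G ⧸ M) rfl hd).trans (Nat.mul_le_mul_left _ ?_)
    exact Nat.card_le_card_of_surjective _
      (ConjClasses.map_surjective (f := QuotientGroup.mk' M) (QuotientGroup.mk'_surjective M))
  have hno : ∀ M : Subgroup G, ∀ [M.Normal], M ≠ ⊥ →
      ¬ p ∣ (Cfsg.fittingSubgroup (G ⧸ M)).index := fun M hM hne hd => hex ⟨M, hM, hne, hd⟩
  haveI := Solvable.fittingSubgroup_normal (G := G)
  haveI : Nontrivial G := by
    by_contra h
    rw [not_nontrivial_iff_subsingleton] at h
    rw [Subgroup.index_eq_one.2 (Subsingleton.elim _ _)] at hdvd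
    exact hp.ne_one (Nat.dvd_one.1 hdvd)
  obtain ⟨N, hN, hNne, hNmin⟩ := Solvable.exists_minimal_normal (G := G)
  haveI := hN
  -- the minimal normal subgroup is unique
  have huniq : ∀ M : Subgroup G, M.Normal → M ≠ ⊥ → N ≤ M := by
    intro M hM hMne
    haveI := hM
    by_contra hNM
    have hdis : N ⊓ M = ⊥ := (hNmin (N ⊓ M) inferInstance inf_le_left).resolve_right
      fun e => hNM (e ▸ inf_le_right)
    haveI := Solvable.fittingSubgroup_normal (G := G ⧸ N)
    haveI := Solvable.fittingSubgroup_normal (G := G ⧸ M)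
    set F₁ := (Cfsg.fittingSubgroup (G ⧸ N)).comap (QuotientGroup.mk' N) with hF1
    set F₂ := (Cfsg.fittingSubgroup (G ⧸ M)).comap (QuotientGroup.mk' M) with hF2
    haveI : F₁.Normal := by rw [hF1]; infer_instance
    haveI : F₂.Normal := by rw [hF2]; infer_instance
    let f : (F₁ ⊓ F₂ : Subgroup G) →*
        Cfsg.fittingSubgroup (G ⧸ N) × Cfsg.fittingSubgroup (G ⧸ M) :=
      { toFun := fun y => (⟨QuotientGroup.mk' N y, y.2.1⟩, ⟨QuotientGroup.mk' M y, y.2.2⟩)
        map_one' := by ext <;> simp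
        map_mul' := fun y z => by ext <;> simp }
    have hf : Function.Injective f := (injective_iff_map_eq_one f).2 fun y hy => by
      have h1 := congrArg (fun w => ((w.1 : G ⧸ N))) hy
      have h2 := congrArg (fun w => ((w.2 : G ⧸ M))) hy
      simp only [f, MonoidHom.coe_mk, OneHom.coe_mk, QuotientGroup.mk'_apply, Prod.fst_one,
        Prod.snd_one, OneMemClass.coe_one, QuotientGroup.eq_one_iff] at h1 h2
      have h3 : (y : G) ∈ N ⊓ M := ⟨h1, h2⟩
      rw [hdis, Subgroup.mem_bot] at h3
      exact Subtype.ext h3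
    haveI := Solvable.fittingSubgroup_isNilpotent (G := G ⧸ N)
    haveI := Solvable.fittingSubgroup_isNilpotent (G := G ⧸ M)
    haveI : Group.IsNilpotent (F₁ ⊓ F₂ : Subgroup G) :=
      Group.nilpotent_of_mulEquiv (MonoidHom.ofInjective hf).symm
    have hle : (F₁ ⊓ F₂).index ∣ F₁.index * F₂.index := by
      rw [← Subgroup.relIndex_mul_index (inf_le_left : F₁ ⊓ F₂ ≤ F₁), Subgroup.inf_relIndex_left,
        mul_comm]
      exact Nat.mul_dvd_mul_left _ (Subgroup.relIndex_dvd_index_of_normal F₂ F₁)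
    have h := hdvd.trans ((Subgroup.index_dvd_of_le (Solvable.le_fittingSubgroup
      (N := F₁ ⊓ F₂) inferInstance)).trans hle)
    have hi1 : F₁.index = (Cfsg.fittingSubgroup (G ⧸ N)).index :=
      Subgroup.index_comap_of_surjective _ (QuotientGroup.mk'_surjective N)
    have hi2 : F₂.index = (Cfsg.fittingSubgroup (G ⧸ M)).index :=
      Subgroup.index_comap_of_surjective _ (QuotientGroup.mk'_surjective M)
    rw [hi1, hi2] at h
    rcases hp.dvd_mul.1 h with h | h
    · exact hno N hNne h
    · exact hno M hMne h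
  obtain ⟨q, hq, hNq⟩ := Solvable.exists_prime_pow_eq_one_of_minimal_normal hNne hNmin
  haveI := Fact.mk hq
  have hNab := Solvable.mul_comm_of_minimal_normal hNne hNmin
  have hNqg : IsPGroup q N := fun z => ⟨1, by rw [pow_one]; exact Subtype.ext (hNq z z.2)⟩
  obtain ⟨d, hd⟩ := IsPGroup.iff_card.1 hNqg
  haveI := Group.isSolvable_of_surjective (QuotientGroup.mk'_surjective N)
  set π := QuotientGroup.mk' N
  haveI hFn := Solvable.fittingSubgroup_normal (G := G ⧸ N)
  set Fb := Cfsg.fittingSubgroup (G ⧸ N) with hFb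
  haveI hFnil : Group.IsNilpotent Fb := Solvable.fittingSubgroup_isNilpotent
  haveI : Fact p.Prime := ⟨hp⟩
  let S : Sylow p Fb := default
  haveI hSn : (S : Subgroup Fb).Normal := inferInstance
  haveI : (S : Subgroup Fb).Characteristic := S.characteristic_of_normal hSn
  set Pb := (S : Subgroup Fb).map Fb.subtype with hPb
  haveI hPbn : Pb.Normal := inferInstance
  have hPbp : IsPGroup p Pb := S.isPGroup'.map _
  have hPbi : ¬ p ∣ Pb.index := by
    intro h
    rw [hPb, Subgroup.index_map, Fb.ker_subtype, sup_bot_eq, Subgroup.range_subtype] at h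
    rcases hp.dvd_mul.1 h with h | h
    · exact S.not_dvd_index h
    · exact hno N hNne h
  have hqp : q ≠ p := by
    intro e
    subst e
    let P' := Pb.comap π
    have hP' : IsPGroup q P' := by
      refine hPbp.comap_of_ker_isPGroup π ?_
      rwa [QuotientGroup.ker_mk']
    haveI : P'.Normal := inferInstance
    haveI := hP'.isNilpotent
    have h := hdvd.trans (Subgroup.index_dvd_of_le (Solvable.le_fittingSubgroup (N := P')
      inferInstance))
    rw [Subgroup.index_comap_of_surjective _ (QuotientGroup.mk'_surjective N)] at h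
    exact hPbi h
  have hPne : Pb ≠ ⊥ := by
    intro e
    rw [e, Subgroup.index_bot] at hPbi
    refine hPbi (hdvd.trans ?_)
    show _ ∣ Nat.card (G ⧸ N)
    rw [← Subgroup.index_eq_card]
    haveI := hNqg.isNilpotent
    exact Subgroup.index_dvd_of_le (Solvable.le_fittingSubgroup inferInstance)
  obtain ⟨R, hRn, hRne, hRP, hRmin⟩ := Solvable.exists_minimal_normal_le hPbn hPne
  haveI := hRn
  have hRab := Solvable.mul_comm_of_minimal_normal hRne hRmin
  obtain ⟨p', hp', hRp⟩ := Solvable.exists_prime_pow_eq_one_of_minimal_normal hRne hRmin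
  obtain rfl : p' = p := by
    obtain ⟨z, hz, hz1⟩ := R.bot_or_exists_ne_one.resolve_left hRne
    haveI := Fact.mk hp'
    obtain ⟨j, hj⟩ := (hPbp.to_le hRP) ⟨z, hz⟩
    have h1 := orderOf_eq_prime (hRp z hz) hz1
    have h2 : z ^ p ^ j = 1 := congrArg Subtype.val hj
    have h3 := orderOf_dvd_of_pow_eq_one h2
    rw [h1] at h3
    exact (Nat.prime_dvd_prime_iff_eq hp' hp).1 (hp'.dvd_of_dvd_pow h3)
  -- the centraliser of `N` is `N`
  set L := R.comap π with hL
  haveI : L.Normal := by rw [hL]; infer_instance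
  let T : Sylow p' L := default
  have hLT : Subgroup.normalizer ((T.map L.subtype : Subgroup G) : Set G) ⊔ L = ⊤ :=
    Sylow.normalizer_sup_eq_top T
  set H₀ := Subgroup.normalizer ((T.map L.subtype : Subgroup G) : Set G)
  have hNL : N ≤ L := fun z hz => by
    rw [hL, Subgroup.mem_comap, show π z = 1 from (QuotientGroup.eq_one_iff z).2 hz]
    exact R.one_mem
  have hRpg : IsPGroup p' R := fun z => ⟨1, by rw [pow_one]; exact Subtype.ext (hRp z z.2)⟩
  obtain ⟨a, ha⟩ := IsPGroup.iff_card.1 hRpg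
  have hLc : Nat.card L = Nat.card R * Nat.card N := by
    have h := Subgroup.card_eq_card_quotient_mul_card_subgroup (N.subgroupOf L)
    rw [Nat.card_congr (Subgroup.subgroupOfEquivOfLe hNL).toEquiv] at h
    rw [h]
    congr 1
    let g : L →* R := (π.comp L.subtype).codRestrict R fun z => z.2
    have hg : g.ker = N.subgroupOf L := by
      ext z
      rw [MonoidHom.mem_ker, Subgroup.mem_subgroupOf, Subtype.ext_iff]
      exact QuotientGroup.eq_one_iff _
    rw [← hg]
    exact Nat.card_congr (QuotientGroup.quotientKerEquivOfSurjective g fun z => by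
      obtain ⟨w, hw⟩ := QuotientGroup.mk'_surjective N (z : G ⧸ N)
      exact ⟨⟨w, show π w ∈ R from hw ▸ z.2⟩, Subtype.ext hw⟩).toEquiv
  have hTc : Nat.card (T : Subgroup L) = p' ^ a := by
    rw [T.card_eq_multiplicity, hLc, ha, hd, Nat.factorization_mul (pow_ne_zero _ hp.ne_zero)
      (pow_ne_zero _ hq.ne_zero), Finsupp.add_apply, hp.factorization_pow,
      hq.factorization_pow, Finsupp.single_eq_same, Finsupp.single_eq_of_ne hqp.symm, add_zero]
  have hH₀ : H₀ ≠ ⊤ := by
    intro e
    haveI hTn : (T.map L.subtype : Subgroup G).Normal :=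
      Subgroup.normalizer_eq_top_iff.1 e
    have ha0 : a ≠ 0 := fun e0 => by rw [e0, pow_zero, Subgroup.card_eq_one] at ha; exact hRne ha
    have hne : (T.map L.subtype : Subgroup G) ≠ ⊥ := by
      intro e'
      rw [← Subgroup.card_eq_one, Subgroup.card_map_of_injective L.subtype_injective, hTc] at e'
      rcases Nat.pow_eq_one.1 e' with h | h
      · exact hp.one_lt.ne' h
      · exact ha0 h
    have h1 := Subgroup.card_dvd_of_le (huniq _ hTn hne)
    rw [Subgroup.card_map_of_injective L.subtype_injective, hTc, hd] at h1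
    have hd0 : d ≠ 0 := fun e0 => by rw [e0, pow_zero, Subgroup.card_eq_one] at hd; exact hNne hd
    exact hqp ((Nat.prime_dvd_prime_iff_eq hq hp).1
      (hq.dvd_of_dvd_pow ((dvd_pow_self q hd0).trans h1)))
  have hLN : L ≤ N ⊔ H₀ := by
    -- `L = N T`
    have hTH : (T.map L.subtype : Subgroup G) ≤ H₀ := Subgroup.le_normalizer
    refine le_trans ?_ (sup_le_sup_left hTH N)
    have hle : N ⊔ (T.map L.subtype : Subgroup G) ≤ L := sup_le hNL (Subgroup.map_subtype_le _)
    refine (Subgroup.eq_of_le_of_card_ge hle ?_).ge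
    rw [hLc, ha, ← hTc, ← Subgroup.card_map_of_injective L.subtype_injective,
      ← Solvable.card_sup_of_disjoint N _ ?_, sup_comm]
    rw [disjoint_iff]
    refine Subgroup.inf_eq_bot_of_coprime ?_
    rw [Subgroup.card_map_of_injective L.subtype_injective, hTc, hd]
    exact Nat.Coprime.pow _ _ ((Nat.coprime_primes hp hq).2 hqp.symm)
  have htop : N ⊔ H₀ = ⊤ := by
    refine eq_top_iff.2 ?_
    rw [← hLT]
    exact sup_le le_sup_right hLN
  have hCN : Subgroup.centralizer (N : Set G) = N := by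
    have hNC : N ≤ Subgroup.centralizer (N : Set G) := fun z hz =>
      Subgroup.mem_centralizer_iff.2 fun y hy => hNab y hy z hz
    refine le_antisymm (fun z hz => ?_) hNC
    set C := Subgroup.centralizer (N : Set G) with hC
    haveI hCn : C.Normal := by rw [hC]; infer_instance
    have hK : (C ⊓ H₀).Normal := ⟨fun w hw g => by
      obtain ⟨m, hm, h, hh, rfl⟩ := Subgroup.mem_sup_of_normal_left.1 (htop.ge (Subgroup.mem_top g))
      have h1 : h * w * h⁻¹ ∈ C ⊓ H₀ :=
        ⟨hCn.conj_mem w hw.1 h, H₀.mul_mem (H₀.mul_mem hh hw.2) (H₀.inv_mem hh)⟩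
      have h2 : m * (h * w * h⁻¹) = (h * w * h⁻¹) * m := Subgroup.mem_centralizer_iff.1 h1.1 m hm
      rw [show m * h * w * (m * h)⁻¹ = m * (h * w * h⁻¹) * m⁻¹ by group, h2, mul_inv_cancel_right]
      exact h1⟩
    have hbot : C ⊓ H₀ = ⊥ := by
      by_contra h
      have := huniq _ hK h
      exact hH₀ (eq_top_iff.2 (htop ▸ sup_le (this.trans inf_le_right) le_rfl))
    obtain ⟨m, hm, h, hh, rfl⟩ := Subgroup.mem_sup_of_normal_left.1 (htop.ge (Subgroup.mem_top z))
    have h1 : h ∈ C ⊓ H₀ := ⟨by simpa using C.mul_mem (C.inv_mem (hNC hm)) hz, hh⟩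
    rw [hbot, Subgroup.mem_bot] at h1
    rwa [h1, mul_one]
  -- the linear group
  letI : CommGroup N :=
    { (inferInstance : Group N) with mul_comm := fun a b => Subtype.ext (hNab a a.2 b b.2) }
  let E : G ⧸ N ≃* G ⧸ Subgroup.centralizer (N : Set G) :=
    QuotientGroup.quotientMulEquivOfEq hCN.symm
  let χ : G ⧸ N →* MulAut N := (conjHom N).comp E.toMonoidHom
  letI := autAction χ
  have hf : Faith (G ⧸ N) (Additive N) := fun h hh => by
    have h1 : χ h = 1 := MulEquiv.ext fun z => congrArg Additive.toMul (hh (Additive.ofMul z))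
    exact E.injective (conjHom_injective N (h1.trans (map_one χ).symm))
  have hirr : ∀ U : AddSubgroup (Additive N), IsInv (G ⧸ N) U → U = ⊥ ∨ U = ⊤ := fun U hU => by
    letI := autAction (conjHom N)
    refine inv_eq_bot_or_eq_top N hNab hNmin U fun g u hu => ?_
    obtain ⟨g', rfl⟩ := E.surjective g
    exact hU g' u hu
  have hd0 : 1 ≤ d := Nat.pos_of_ne_zero fun e0 => by
    rw [e0, pow_zero, Subgroup.card_eq_one] at hd; exact hNne hd
  have h1 := card_le_classesIn N hNab
  rw [hd, Subgroup.index_eq_card] at h1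
  have h2 := quot_add_classesIn_le N
  have hm : 0 < Nat.card (ClassesIn N) := Nat.card_pos_iff.2 ⟨⟨classIn N 1⟩, inferInstance⟩
  refine (irreducible_bound (H := G ⧸ N) (V := Additive N) hq hp hqp hd hd0
    (fun v => congrArg Additive.ofMul (Subtype.ext (hNq v.toMul v.toMul.2) : v.toMul ^ q = 1))
    hf hirr R hRne hRp hRab hRmin (Nat.card (ClassesIn N) - 1)
    (Nat.sub_le_iff_le_add'.2 h1)).trans (Nat.mul_le_mul_left _ (by omega))

end reduction

end CfsgLib.SolvKGV
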