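import Cfsg.Agent.SolvKGV.InnerLower
import Cfsg.Agent.SolvKGV.OrderBound
import Cfsg.Agent.SolvKGV.PermBound

/-!
# A lower bound for the class number of a solvable group

A solvable group whose order is divisible by `p ^ 2` has at least `49 p / 60` classes.
-/

set_option autoImplicit false
set_option linter.unusedSectionVars false
set_option linter.style.haveILetI false

namespace CfsgLib.SolvKGV

universe u

namespace LowerCount

theorem sq_le_pow {p e : ℕ} (hp : 4 ≤ p) (he : 1 ≤ e) : e ^ 2 ≤ p ^ (e - 1) := by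
  induction e, he using Nat.le_induction with
  | base => simp
  | succ e he ih =>
    calc (e + 1) ^ 2 ≤ 4 * e ^ 2 := by nlinarith
      _ ≤ p * p ^ (e - 1) := Nat.mul_le_mul hp ih
      _ = _ := by rw [← pow_succ', show e - 1 + 1 = e + 1 - 1 by omega]

theorem abelian_count {p e m : ℕ} (hp : 11 ≤ p) (he : 1 ≤ e) (hm : 1 ≤ m) (h : 2 ≤ e * m) :
    17 * e ^ 2 ≤ 100 * p ^ (e * m - 2) := by
  rcases (by omega : e = 1 ∨ 2 ≤ e) with rfl | he2
  · have := Nat.one_le_pow (1 * m - 2) p (by omega)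
    omega
  · have h1 : ∀ j, 17 * (j + 2) ^ 2 ≤ 100 * p ^ j := by
      intro j
      induction j with
      | zero => norm_num
      | succ j ih =>
        calc 17 * (j + 1 + 2) ^ 2 ≤ 11 * (17 * (j + 2) ^ 2) := by ring_nf; omega
          _ ≤ p * (100 * p ^ j) := Nat.mul_le_mul hp ih
          _ = _ := by ring
    obtain ⟨j, rfl⟩ : ∃ j, e = j + 2 := ⟨e - 2, by omega⟩
    refine (h1 j).trans (Nat.mul_le_mul_left _ (Nat.pow_le_pow_right (by omega) ?_))
    have := Nat.le_mul_of_pos_right (j + 2) hm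
    omega

theorem big_count {M : ℕ} (hM : 9 ≤ M) : 17 * M ^ 8 ≤ 100 * 11 ^ (M - 2) := by
  induction M, hM using Nat.le_induction with
  | base => norm_num
  | succ M hM ih =>
    have h1 : (9 * (M + 1)) ^ 8 ≤ (10 * M) ^ 8 := Nat.pow_le_pow_left (by omega) 8
    rw [mul_pow, mul_pow] at h1
    have h2 : (M + 1) ^ 8 ≤ 11 * M ^ 8 := by
      norm_num at h1
      generalize (M + 1) ^ 8 = a at h1 ⊢
      generalize M ^ 8 = b at h1 ⊢
      omega
    rw [show M + 1 - 2 = M - 2 + 1 by omega, pow_succ]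
    calc 17 * (M + 1) ^ 8 ≤ 17 * (11 * M ^ 8) := Nat.mul_le_mul_left _ h2
      _ = 11 * (17 * M ^ 8) := by ring
      _ ≤ 11 * (100 * 11 ^ (M - 2)) := Nat.mul_le_mul_left _ ih
      _ = _ := by ring

/-- The bound for the order of the outer group. -/
def OuterBound (M n : ℕ) : Prop :=
  (M = 2 ∧ n ≤ 6) ∨ (M = 3 ∧ n ≤ 24) ∨ (M = 4 ∧ n ≤ 72) ∨ (M = 5 ∧ n ≤ 625) ∨
    (M = 6 ∧ n ≤ 1296) ∨ (M = 7 ∧ n ≤ 2401) ∨ (8 ≤ M ∧ n ≤ M ^ 6)

theorem inner_count {p e m M n : ℕ} (hp : 11 ≤ p) (he : 1 ≤ e) (hM : 2 ≤ M) (hMm : M ≤ m)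
    (hn : OuterBound M n) :
    17 * e ^ 2 * n * M ^ 2 ≤ 100 * p ^ (e * m - 2) ∨
      (e = 1 ∧ m = M ∧ ((M = 2 ∧ n ≤ 6) ∨ (M = 3 ∧ n ≤ 24 ∧ p < 37) ∨
        (M = 4 ∧ n ≤ 72 ∧ p < 14) ∨ (M = 5 ∧ n ≤ 625 ∧ p < 14) ∨
        (M = 8 ∧ n ≤ 262144 ∧ p < 13))) := by
  by_cases hbig : 2 ≤ e ∨ M < m
  · left
    have hexp : (e - 1) + (M - 1) ≤ e * m - 2 := by
      obtain ⟨e', rfl⟩ : ∃ e', e = e' + 1 := ⟨e - 1, by omega⟩
      obtain ⟨m', rfl⟩ : ∃ m', m = m' + 1 := ⟨m - 1, by omega⟩
      rw [show (e' + 1) * (m' + 1) = e' * m' + e' + m' + 1 by ring]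
      rcases hbig with h | h
      · have h3 : 1 * m' ≤ e' * m' := Nat.mul_le_mul_right _ (by omega)
        omega
      · omega
    have h1 : 17 * n * M ^ 2 ≤ 100 * 11 ^ (M - 1) := by
      rcases hn with ⟨rfl, h⟩ | ⟨rfl, h⟩ | ⟨rfl, h⟩ | ⟨rfl, h⟩ | ⟨rfl, h⟩ | ⟨rfl, h⟩ | ⟨hM8, h⟩
      iterate 6 (norm_num; omega)
      refine (Nat.mul_le_mul_right _ (Nat.mul_le_mul_left 17 h)).trans ?_
      rcases (by omega : M = 8 ∨ 9 ≤ M) with rfl | hM9
      · norm_num
      · rw [mul_assoc, ← pow_add]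
        exact (big_count hM9).trans
          (Nat.mul_le_mul_left _ (Nat.pow_le_pow_right (by omega) (by omega)))
    calc 17 * e ^ 2 * n * M ^ 2 = e ^ 2 * (17 * n * M ^ 2) := by ring
      _ ≤ p ^ (e - 1) * (100 * p ^ (M - 1)) := Nat.mul_le_mul (sq_le_pow (by omega) he)
          (h1.trans (Nat.mul_le_mul_left _ (Nat.pow_le_pow_left hp _)))
      _ = 100 * p ^ ((e - 1) + (M - 1)) := by rw [pow_add]; ring
      _ ≤ _ := Nat.mul_le_mul_left _ (Nat.pow_le_pow_right (by omega) hexp)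
  obtain ⟨rfl, rfl⟩ : e = 1 ∧ m = M := by omega
  rw [one_mul, one_pow, mul_one]
  rcases hn with ⟨rfl, h⟩ | ⟨rfl, h⟩ | ⟨rfl, h⟩ | ⟨rfl, h⟩ | ⟨rfl, h⟩ | ⟨rfl, h⟩ | ⟨hM8, h⟩
  · exact Or.inr ⟨rfl, rfl, Or.inl ⟨rfl, h⟩⟩
  · by_cases hp' : p < 37
    · exact Or.inr ⟨rfl, rfl, Or.inr (Or.inl ⟨rfl, h, hp'⟩)⟩
    · left; norm_num; omega
  · by_cases hp' : p < 14
    · exact Or.inr ⟨rfl, rfl, Or.inr (Or.inr (Or.inl ⟨rfl, h, hp'⟩))⟩
    · left
      have := Nat.pow_le_pow_left (show 14 ≤ p by omega) 2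
      norm_num at this ⊢
      omega
  · by_cases hp' : p < 14
    · exact Or.inr ⟨rfl, rfl, Or.inr (Or.inr (Or.inr (Or.inl ⟨rfl, h, hp'⟩)))⟩
    · left
      have := Nat.pow_le_pow_left (show 14 ≤ p by omega) 3
      norm_num at this ⊢
      omega
  · left
    have := Nat.pow_le_pow_left hp 4
    norm_num at this ⊢
    omega
  · left
    have := Nat.pow_le_pow_left hp 5
    norm_num at this ⊢
    omega
  · rcases (by omega : m = 8 ∨ 9 ≤ m) with rfl | hM9
    · by_cases hp' : p < 13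
      · exact Or.inr ⟨rfl, rfl, Or.inr (Or.inr (Or.inr (Or.inr ⟨rfl, by norm_num at h; omega,
          hp'⟩)))⟩
      · left
        have := Nat.pow_le_pow_left (show 13 ≤ p by omega) 6
        norm_num at this h ⊢
        omega
    · left
      refine (Nat.mul_le_mul_right _ (Nat.mul_le_mul_left 17 h)).trans ?_
      rw [mul_assoc, ← pow_add]
      exact (big_count hM9).trans (Nat.mul_le_mul_left _ (Nat.pow_le_pow_left hp _))

theorem except_count {p t h k M B : ℕ} (hp : p.Prime) (hp11 : 11 ≤ p)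
    (hcase : (M = 3 ∧ B = 24 ∧ p < 37) ∨ (M = 4 ∧ B = 72 ∧ p < 14) ∨
      (M = 5 ∧ B = 625 ∧ p < 14) ∨ (M = 8 ∧ B = 262144 ∧ p < 13))
    (ht : t ∣ p - 1) (hM : ∀ r : ℕ, r.Prime → r ∣ M → r ∣ t) (hh : h ≤ B * (t * M ^ 2))
    (hk : t + 4 ≤ k) :
    p * h ≤ k * p ^ M ∧ ∀ r, p ^ M - 1 ≤ r * h → 49 * p ≤ 60 * (k + r) := by
  suffices key : p * (B * (t * M ^ 2)) ≤ (t + 4) * p ^ M ∧
      ∀ r, p ^ M - 1 ≤ r * (B * (t * M ^ 2)) → 49 * p ≤ 60 * (t + 4 + r) by
    refine ⟨(Nat.mul_le_mul_left _ hh).trans (key.1.trans (Nat.mul_le_mul_right _ hk)),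
      fun r hr => (key.2 r (hr.trans (Nat.mul_le_mul_left _ hh))).trans (by omega)⟩
  have htle : t ≤ p - 1 := Nat.le_of_dvd (by omega) ht
  rcases hcase with ⟨rfl, rfl, hp'⟩ | ⟨rfl, rfl, hp'⟩ | ⟨rfl, rfl, hp'⟩ | ⟨rfl, rfl, hp'⟩
  · have h3 := hM 3 Nat.prime_three dvd_rfl
    interval_cases p <;> first | (norm_num at hp; done) | skip
    all_goals (interval_cases t <;> first | omega | (norm_num; omega))
  · have h3 := hM 2 Nat.prime_two ⟨2, rfl⟩
    interval_cases p <;> first | (norm_num at hp; done) | skip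
    all_goals (interval_cases t <;> first | omega | (norm_num; omega))
  · have h3 := hM 5 (by norm_num) dvd_rfl
    interval_cases p <;> first | (norm_num at hp; done) | skip
    all_goals (interval_cases t <;> first | omega | (norm_num; omega))
  · have h3 := hM 2 Nat.prime_two ⟨4, rfl⟩
    interval_cases p <;> first | (norm_num at hp; done) | skip
    all_goals (interval_cases t <;> first | omega | (norm_num; omega))

theorem six_count {p t k r : ℕ} (hp : p.Prime) (hp11 : 11 ≤ p) (ht : t ∣ p - 1) (h2 : 2 ∣ t)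
    (hk : 4 * t ≤ k) (hr : p ^ 2 - 1 ≤ r * (24 * t)) : 49 * p ≤ 60 * (k + r) := by
  obtain ⟨u, hu⟩ := ht
  obtain ⟨q, rfl⟩ : ∃ q, p = q + 1 := ⟨p - 1, by omega⟩
  rw [Nat.add_sub_cancel] at hu
  have ht0 : 0 < t := Nat.pos_of_ne_zero fun e => by subst e; omega
  have hr' : u * (q + 2) ≤ 24 * r := by
    refine Nat.le_of_mul_le_mul_right (c := t) ?_ ht0
    calc u * (q + 2) * t = (t * u) * (q + 2) := by ring
      _ = (q + 1) ^ 2 - 1 := by
          rw [← hu]; symm; rw [Nat.sub_eq_iff_eq_add (Nat.one_le_pow _ _ (by omega))]; ring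
      _ ≤ r * (24 * t) := hr
      _ = _ := by ring
  rcases (by omega : u ≤ 9 ∨ 10 ≤ u) with hu9 | hu10
  · interval_cases u
    iterate 9 omega
    by_cases ht3 : t ≤ 2
    · obtain rfl : t = 2 := by omega
      omega
    · omega
  · obtain ⟨v, rfl⟩ : ∃ v, u = v + 10 := ⟨u - 10, by omega⟩
    have h1 : 2 * (v + 10) * (49 * (q + 1)) ≤ 480 * q + 5 * (v + 10) * ((v + 10) * (q + 2)) := by
      nlinarith [Nat.zero_le (v * v * q), Nat.zero_le (v * q)]
    refine Nat.le_of_mul_le_mul_left (c := 2 * (v + 10)) ?_ (by omega)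
    calc 2 * (v + 10) * (49 * (q + 1)) ≤ _ := h1
      _ ≤ 480 * q + 5 * (v + 10) * (24 * r) :=
          Nat.add_le_add_left (Nat.mul_le_mul_left _ hr') _
      _ = 120 * (v + 10) * (4 * t) + 120 * (v + 10) * r := by rw [hu]; ring
      _ ≤ 120 * (v + 10) * k + 120 * (v + 10) * r :=
          Nat.add_le_add_right (Nat.mul_le_mul_left _ hk) _
      _ = _ := by ring

/-- The strong form gives both bounds. -/
theorem of_strong {p d h P k : ℕ} (hp : 11 ≤ p) (hd : 1 ≤ d) (hh : 0 < h) (hP : P = k * h)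
    (hK : 17 * p ^ 2 * h ^ 2 ≤ 100 * P * p ^ d) :
    p * h ^ 2 ≤ P * p ^ d ∧ (2 ≤ d → ∀ r, p ^ d - 1 ≤ r * h → 49 * p ≤ 60 * (k + r)) := by
  refine ⟨?_, fun hd2 r hr => ?_⟩
  · refine Nat.le_of_mul_le_mul_left (c := 100) ?_ (by omega)
    calc 100 * (p * h ^ 2) ≤ 17 * p * (p * h ^ 2) := Nat.mul_le_mul_right _ (by omega)
      _ = 17 * p ^ 2 * h ^ 2 := by ring
      _ ≤ _ := hK
      _ = _ := by ring
  · subst hP
    have hK' : 17 * p ^ 2 * h ≤ 100 * k * p ^ d := by
      refine Nat.le_of_mul_le_mul_right (c := h) ?_ hh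
      calc 17 * p ^ 2 * h * h = 17 * p ^ 2 * h ^ 2 := by ring
        _ ≤ _ := hK
        _ = _ := by ring
    have hpd : 121 ≤ p ^ d := le_trans (by norm_num : 121 ≤ 11 ^ 2)
      ((Nat.pow_le_pow_left hp 2).trans (Nat.pow_le_pow_right (by omega) hd2))
    have h120 : 120 * p ^ d ≤ 121 * (r * h) := by
      generalize r * h = y at hr ⊢
      omega
    have hkr : 17 * 120 * p ^ 2 ≤ 121 * 100 * (k * r) := by
      refine Nat.le_of_mul_le_mul_right (c := p ^ d) ?_ (by omega)
      calc 17 * 120 * p ^ 2 * p ^ d = 17 * p ^ 2 * (120 * p ^ d) := by ring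
        _ ≤ 17 * p ^ 2 * (121 * (r * h)) := Nat.mul_le_mul_left _ h120
        _ = 121 * r * (17 * p ^ 2 * h) := by ring
        _ ≤ 121 * r * (100 * k * p ^ d) := Nat.mul_le_mul_left _ hK'
        _ = _ := by ring
    by_contra hlt
    push Not at hlt
    have hsq := Nat.mul_lt_mul'' hlt hlt
    nlinarith [sq_nonneg ((k : ℤ) - r), (mul_self_nonneg ((k : ℤ) - r))]

theorem perm_count {p r s : ℕ} (hp : 11 ≤ p) (hr : 2 ≤ r) (hs : s ≤ r.factorial)
    (hs' : 3 * s ≤ 3 ^ r) : 17 * p ^ 2 * s ^ 2 ≤ 100 * p ^ r := by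
  obtain ⟨j, rfl⟩ : ∃ j, r = j + 2 := ⟨r - 2, by omega⟩
  rw [pow_add p j 2]
  suffices h : 17 * s ^ 2 ≤ 100 * p ^ j by
    calc 17 * p ^ 2 * s ^ 2 = p ^ 2 * (17 * s ^ 2) := by ring
      _ ≤ p ^ 2 * (100 * p ^ j) := Nat.mul_le_mul_left _ h
      _ = _ := by ring
  refine le_trans ?_ (Nat.mul_le_mul_left _ (Nat.pow_le_pow_left hp j))
  rcases (by omega : j = 0 ∨ j = 1 ∨ j = 2 ∨ 3 ≤ j) with rfl | rfl | rfl | hj
  iterate 3
    norm_num [Nat.factorial] at hs ⊢
    have := Nat.pow_le_pow_left hs 2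
    norm_num at this ⊢
    omega
  have key : ∀ i, 3 ≤ i → 17 * 9 ^ (i + 2) ≤ 900 * 11 ^ i := by
    intro i hi
    induction i, hi using Nat.le_induction with
    | base => norm_num
    | succ i _ ih =>
      rw [pow_succ 11, show i + 1 + 2 = i + 2 + 1 by omega, pow_succ 9]
      omega
  have h1 := key j hj
  have h2 := Nat.pow_le_pow_left hs' 2
  rw [mul_pow, ← pow_mul, mul_comm (j + 2), pow_mul] at h2
  norm_num at h2
  omega

theorem small_count {p d h k r : ℕ} (hp : p.Prime) (hp11 : p < 11) (hd : 2 ≤ d) (hh : 0 < h)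
    (hk : 1 ≤ k) (h1 : k ≤ 1 → h ≤ 1) (h3 : k ≤ 3 → h ≤ 6) (h4 : k ≤ 4 → h ≤ 42)
    (hr : p ^ d - 1 ≤ r * h) : 49 * p ≤ 60 * (k + r) := by
  have hr' : p ^ 2 - 1 ≤ r * h :=
    le_trans (Nat.sub_le_sub_right (Nat.pow_le_pow_right hp.pos hd) 1) hr
  rcases (by omega : k = 1 ∨ (2 ≤ k ∧ k ≤ 3) ∨ k = 4 ∨ 5 ≤ k) with hk' | hk' | hk' | hk'
  · have h' : r * h ≤ r * 1 := Nat.mul_le_mul_left _ (h1 (by omega))
    interval_cases p <;> first | (norm_num at hp; done) | omega
  · have h' : r * h ≤ r * 6 := Nat.mul_le_mul_left _ (h3 (by omega))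
    interval_cases p <;> first | (norm_num at hp; done) | omega
  · have h' : r * h ≤ r * 42 := Nat.mul_le_mul_left _ (h4 (by omega))
    interval_cases p <;> first | (norm_num at hp; done) | omega
  · have h' : 1 ≤ r := Nat.pos_of_ne_zero fun e => by
      subst e
      have := Nat.pow_le_pow_left hp.two_le 2
      omega
    interval_cases p <;> first | (norm_num at hp; done) | omega

end LowerCount

open LowerCount

/-- The two bounds for completely reducible groups. -/
theorem lower_bounds : ∀ (N : ℕ) {H : Type u} [Group H] [Finite H] [Group.IsSolvable H]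
    {V : Type u} [AddCommGroup V] [DistribMulAction H V] [Finite V] (p d : ℕ),
    Nat.card V = N → p.Prime → 11 ≤ p → N = p ^ d → 1 ≤ d → Semi H V → Faith H V →
      p * Nat.card H ^ 2 ≤ P2 H * p ^ d ∧
      (2 ≤ d → ∀ r, p ^ d - 1 ≤ r * Nat.card H →
        49 * p ≤ 60 * (Nat.card (ConjClasses H) + r)) := by
  intro N
  induction N using Nat.strong_induction_on with
  | _ N ih =>
  intro H _ _ _ V _ _ _ p d hN hp hp11 hNp hd hs hf
  classical
  have h1 : 1 < N := hNp ▸ Nat.one_lt_pow (by omega) hp.one_lt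
  haveI : Nontrivial V := Finite.one_lt_card_iff_nontrivial.1 (hN ▸ h1)
  by_cases hdec : ∃ r, Nonempty (Decomp H V r)
  · obtain ⟨r, ⟨D⟩⟩ := hdec
    have hpart : ∀ i, ∃ k, Nat.card (D.part i) = p ^ k := fun i =>
      ((Nat.dvd_prime_pow hp).1 (hNp ▸ hN ▸ card_part_dvd D i)).imp fun k h => h.2
    choose k hk using hpart
    have hkpos : ∀ i, 1 ≤ k i := fun i => by
      by_contra h0
      have := D.one_lt_card_part i
      rw [hk i, show k i = 0 by omega, pow_zero] at this
      omega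
    have hsum : ∑ i, k i = d := Nat.pow_right_injective hp.two_le (by
      show p ^ (∑ i, k i) = p ^ d
      rw [← hNp, ← hN, D.card_eq, Finset.prod_congr rfl fun i _ => hk i,
        Finset.prod_pow_eq_pow_sum])
    let E : Fin r → Type u := fun i => ((⊤ : Subgroup D.perm.ker).map (D.rep i) : Subgroup _)
    have hE : ∀ i, p * Nat.card (E i) ^ 2 ≤ P2 (E i) * p ^ k i := fun i => by
      haveI := D.isSolvable_map i ⊤
      exact (ih _ (hN ▸ D.card_part_lt i) p (k i) rfl hp hp11 (hk i) (hkpos i) (D.semi_rep hs i ⊤)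
        (faith_units ((⊤ : Subgroup D.perm.ker).map (D.rep i)))).1
    let φ : D.perm.ker →* (∀ i, E i) :=
      { toFun := fun n i => ⟨D.rep i n, n, Subgroup.mem_top _, rfl⟩
        map_one' := funext fun i => Subtype.ext (map_one _)
        map_mul' := fun a b => funext fun i => Subtype.ext (map_mul _ a b) }
    have hφ : Function.Injective φ := (injective_iff_map_eq_one φ).2 fun n hn =>
      D.rep_faith hf n fun i => congrArg Subtype.val (congrFun hn i)
    have hP := P2_mul_sq_le φ hφ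
    rw [P2_pi, Nat.card_pi] at hP
    have hprod := Finset.prod_le_prod' (s := Finset.univ) fun i _ => hE i
    rw [Finset.prod_mul_distrib, Finset.prod_mul_distrib, Finset.prod_const, Finset.card_univ,
      Fintype.card_fin, Finset.prod_pow_eq_pow_sum, hsum, Finset.prod_pow] at hprod
    set n := Nat.card D.perm.ker
    set PE := ∏ i, Nat.card (E i)
    have hPE : 0 < PE := Finset.prod_pos fun i _ => Nat.card_pos
    have hn : p ^ r * n ^ 2 ≤ P2 H * p ^ d := by
      refine Nat.le_of_mul_le_mul_right (c := PE ^ 2) ?_ (pow_pos hPE _)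
      calc p ^ r * n ^ 2 * PE ^ 2 = p ^ r * PE ^ 2 * n ^ 2 := by ring
        _ ≤ (∏ i, P2 (E i)) * p ^ d * n ^ 2 := Nat.mul_le_mul_right _ hprod
        _ = p ^ d * ((∏ i, P2 (E i)) * n ^ 2) := by ring
        _ ≤ p ^ d * (P2 D.perm.ker * PE ^ 2) := Nat.mul_le_mul_left _ hP
        _ ≤ p ^ d * (P2 H * PE ^ 2) := Nat.mul_le_mul_left _ (Nat.mul_le_mul_right _
            (P2_le_of_injective D.perm.ker.subtype Subtype.val_injective))
        _ = _ := by ring
    haveI := isSolvable_range D.perm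
    have hcount := perm_count hp11 D.two D.card_range_le (three_mul_card_perm_le r (Fin r)
      (Nat.card_fin r) (by have := D.two; omega) D.perm.range inferInstance)
    refine of_strong hp11 hd Nat.card_pos (P2_eq H) ?_
    refine Nat.le_of_mul_le_mul_right (c := p ^ r) ?_ (pow_pos hp.pos _)
    calc 17 * p ^ 2 * Nat.card H ^ 2 * p ^ r
        = 17 * p ^ 2 * Nat.card D.perm.range ^ 2 * (p ^ r * n ^ 2) := by rw [D.card_eq_mul]; ring
      _ ≤ 100 * p ^ r * (P2 H * p ^ d) := Nat.mul_le_mul hcount hn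
      _ = _ := by ring
  obtain ⟨P⟩ := exists_prim (fun r D => hdec ⟨r, ⟨D⟩⟩) hs hf
  haveI := P.normalA
  obtain ⟨hpp, hem⟩ := prime_mul_eq P.prime hp P.e_pos P.m_pos
    (show P.p ^ (P.e * P.m) = p ^ d by rw [← P.card_eq, hN, hNp])
  set C := Subgroup.centralizer (P.A : Set H)
  set t := Nat.card P.A with ht
  have ht0 : 0 < t := P.card_pos_A
  have hHC : Nat.card H = C.index * Nat.card C := by rw [mul_comm, C.card_mul_index]
  have hP2C : P2 C ≤ P2 H := P2_le_of_injective C.subtype Subtype.val_injective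
  by_cases hCA : C = P.A
  · have hH : Nat.card H ≤ P.e * t := by
      have := P.index_le
      rw [hHC, hCA]
      exact Nat.mul_le_mul_right _ (hCA ▸ this)
    have hPt : t ^ 2 ≤ P2 H := by
      refine le_trans (le_of_eq ?_) (P2_le_of_injective P.A.subtype Subtype.val_injective)
      rw [P2_of_comm P.A fun a b => Subtype.ext (P.comm a a.2 b b.2), sq]
    rcases (by omega : d = 1 ∨ 2 ≤ d) with hd1 | hd2
    · subst hd1
      have he : P.e = 1 := Nat.eq_one_of_mul_eq_one_right hem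
      rw [he, one_mul] at hH
      refine ⟨?_, fun h => absurd h (by omega)⟩
      rw [pow_one, mul_comm]
      exact Nat.mul_le_mul_right _ ((Nat.pow_le_pow_left hH 2).trans hPt)
    · have hc := abelian_count hp11 P.e_pos P.m_pos (hem.symm ▸ hd2)
      rw [hem] at hc
      refine of_strong hp11 hd Nat.card_pos (P2_eq H) ?_
      calc 17 * p ^ 2 * Nat.card H ^ 2 ≤ 17 * p ^ 2 * (P.e * t) ^ 2 :=
            Nat.mul_le_mul_left _ (Nat.pow_le_pow_left hH 2)
        _ = p ^ 2 * (17 * P.e ^ 2) * t ^ 2 := by ring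
        _ ≤ p ^ 2 * (100 * p ^ (d - 2)) * t ^ 2 :=
            Nat.mul_le_mul_right _ (Nat.mul_le_mul_left _ hc)
        _ = 100 * t ^ 2 * (p ^ (2 + (d - 2))) := by rw [pow_add]; ring
        _ ≤ _ := by
          rw [Nat.add_sub_cancel' hd2]
          exact Nat.mul_le_mul_right _ (Nat.mul_le_mul_left _ hPt)
  obtain ⟨I⟩ := exists_inner P hCA
  haveI := isSolvable_range (H := C) I.f
  set n := Nat.card I.f.range with hn
  have hCc : Nat.card C = n * (t * I.M ^ 2) := I.card_centralizer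
  have hd2 : 2 ≤ d := by
    rw [← hem]
    exact le_trans (I.two_le.trans I.le_m) (Nat.le_mul_of_pos_left _ P.e_pos)
  have hout : OuterBound I.M n := by
    have hW := I.card_W
    have := I.two_le
    rcases (by omega : I.M = 2 ∨ I.M = 3 ∨ I.M = 4 ∨ I.M = 5 ∨ I.M = 6 ∨ I.M = 7 ∨ 8 ≤ I.M)
      with h | h | h | h | h | h | h
    · exact Or.inl ⟨h, card_le_four (faith_units I.f.range) (by rw [hW, h]; rfl)⟩
    · exact Or.inr (Or.inl ⟨h, I.card_range_le_of_three h⟩)
    · exact Or.inr (Or.inr (Or.inl ⟨h, card_le_sixteen I.semi (faith_units I.f.range)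
        (by rw [hW, h]; rfl)⟩))
    · exact Or.inr (Or.inr (Or.inr (Or.inl ⟨h, card_le_of_prime_sq (faith_units I.f.range)
        (q := 5) (by norm_num) (by rw [hW, h])⟩)))
    · exact Or.inr (Or.inr (Or.inr (Or.inr (Or.inl ⟨h, card_le_thirty_six
        (faith_units I.f.range) (by rw [hW, h]; rfl)⟩))))
    · exact Or.inr (Or.inr (Or.inr (Or.inr (Or.inr (Or.inl ⟨h, card_le_of_prime_sq
        (faith_units I.f.range) (q := 7) (by norm_num) (by rw [hW, h])⟩)))))
    · refine Or.inr (Or.inr (Or.inr (Or.inr (Or.inr (Or.inr ⟨h, ?_⟩)))))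
      refine (card_le_cube I.semi (faith_units I.f.range)).trans (le_of_eq ?_)
      rw [hW, ← pow_mul]
  have hAC : P.A ≤ C := I.AB.trans I.BC
  have hkC : t * Nat.card C ≤ P2 C := by
    rw [P2_eq]
    refine Nat.mul_le_mul_right _ ?_
    have h := card_le_classesIn_of_central (P.A.subgroupOf C) fun a ha g =>
      Subtype.ext (Inner.central g.2 ha)
    rw [Nat.card_congr (Subgroup.subgroupOfEquivOfLe hAC).toEquiv] at h
    exact h.trans (Finite.card_subtype_le _)
  rcases inner_count hp11 P.e_pos I.two_le I.le_m hout with hc | ⟨he1, hmM, hcase⟩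
  · rw [hem] at hc
    refine of_strong hp11 hd Nat.card_pos (P2_eq H) ?_
    calc 17 * p ^ 2 * Nat.card H ^ 2 ≤ 17 * p ^ 2 * (P.e * Nat.card C) ^ 2 :=
          Nat.mul_le_mul_left _ (Nat.pow_le_pow_left (hHC ▸ Nat.mul_le_mul_right _ P.index_le) 2)
      _ = p ^ 2 * (17 * P.e ^ 2 * n * I.M ^ 2) * (t * Nat.card C) := by rw [hCc]; ring
      _ ≤ p ^ 2 * (100 * p ^ (d - 2)) * (t * Nat.card C) :=
          Nat.mul_le_mul_right _ (Nat.mul_le_mul_left _ hc)
      _ = 100 * (t * Nat.card C) * p ^ (2 + (d - 2)) := by rw [pow_add]; ring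
      _ ≤ _ := by
        rw [Nat.add_sub_cancel' hd2]
        exact Nat.mul_le_mul_right _ (Nat.mul_le_mul_left _ (hkC.trans hP2C))
  -- `A` is central
  have hCtop : C = ⊤ := by
    refine Subgroup.index_eq_one.1 ?_
    have h' : C.index ≤ 1 := he1 ▸ P.index_le
    have : C.index ≠ 0 := Subgroup.index_ne_zero_of_finite
    omega
  have hH : Nat.card H = n * (t * I.M ^ 2) := by rw [← hCc, hCtop, Subgroup.card_top]
  have hdM : d = I.M := by rw [← hem, he1, one_mul, hmM]
  have htp : t ∣ p - 1 := by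
    have h := P.card_dvd
    rwa [he1, pow_one, hpp] at h
  have hcent : ∀ a ∈ P.A, ∀ g : H, g * a = a * g := fun a ha g =>
    Inner.central (hCtop.ge (Subgroup.mem_top g)) ha
  rcases hcase with ⟨hM, hn6⟩ | hexc
  · -- dimension two
    have hlow := (I.P2_lower_two hM).trans hP2C
    have hH4 : Nat.card H = 4 * n * t := by rw [hH, hM]; ring
    rw [hdM, hM]
    have hn0 : 0 < n := Nat.card_pos
    have hW : 16 * n ^ 2 ≤ 11 * (18 * n - 12) := by interval_cases n <;> norm_num
    refine ⟨?_, fun _ r hr => ?_⟩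
    · calc p * Nat.card H ^ 2 = p * t ^ 2 * (16 * n ^ 2) := by rw [hH4]; ring
        _ ≤ p * t ^ 2 * (p * (18 * n - 12)) := Nat.mul_le_mul_left _
            (hW.trans (Nat.mul_le_mul_right _ hp11))
        _ = t ^ 2 * (18 * n - 12) * p ^ 2 := by ring
        _ ≤ _ := Nat.mul_le_mul_right _ hlow
    · by_cases hn5 : n ≤ 5
      · refine (of_strong hp11 one_le_two Nat.card_pos (P2_eq H) ?_).2 le_rfl r hr
        have h5 : 17 * 16 * n ^ 2 ≤ 100 * (18 * n - 12) := by interval_cases n <;> norm_num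
        calc 17 * p ^ 2 * Nat.card H ^ 2 = p ^ 2 * t ^ 2 * (17 * 16 * n ^ 2) := by rw [hH4]; ring
          _ ≤ p ^ 2 * t ^ 2 * (100 * (18 * n - 12)) := Nat.mul_le_mul_left _ h5
          _ = 100 * (t ^ 2 * (18 * n - 12)) * p ^ 2 := by ring
          _ ≤ _ := Nat.mul_le_mul_right _ (Nat.mul_le_mul_left _ hlow)
      · obtain rfl' : n = 6 := by omega
        rw [P2_eq, hH4, rfl'] at hlow
        refine six_count hp hp11 htp (I.prime_dvd 2 Nat.prime_two (by rw [hM])) ?_ ?_
        · refine Nat.le_of_mul_le_mul_right (c := 24 * t) ?_ (by omega)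
          refine le_trans (le_of_eq ?_) (le_trans hlow (le_of_eq (by ring)))
          rw [← hn, rfl']
          norm_num
          ring
        · rwa [hH4, rfl'] at hr
  · -- the exceptional cases
    rw [hdM]
    by_cases h42 : Nat.card (H ⧸ P.A) ≤ 42
    · have hq : n * I.M ^ 2 = Nat.card (H ⧸ P.A) := by
        refine Nat.eq_of_mul_eq_mul_right ht0 ?_
        rw [ht, ← Subgroup.card_eq_card_quotient_mul_card_subgroup, hH]
        ring
      have hK := of_strong hp11 (by have := I.two_le; omega : 1 ≤ I.M) Nat.card_pos (P2_eq H) (by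
        calc 17 * p ^ 2 * Nat.card H ^ 2
            = p ^ 2 * (17 * (n * I.M ^ 2)) * (t * Nat.card C) := by rw [hH, hCc]; ring
          _ ≤ p ^ 2 * (100 * p ^ (I.M - 2)) * (t * Nat.card C) := by
              refine Nat.mul_le_mul_right _ (Nat.mul_le_mul_left _ ?_)
              have h3 : p ≤ p ^ (I.M - 2) := Nat.le_self_pow (by omega) p
              omega
          _ = 100 * (t * Nat.card C) * p ^ (2 + (I.M - 2)) := by rw [pow_add]; ring
          _ ≤ _ := by
            rw [Nat.add_sub_cancel' I.two_le]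
            exact Nat.mul_le_mul_right _ (Nat.mul_le_mul_left _ (hkC.trans hP2C)))
      exact hK
    have hk : t + 4 ≤ Nat.card (ConjClasses H) := by
      have h5 : 5 ≤ Nat.card (ConjClasses (H ⧸ P.A)) := by
        by_contra hlt
        exact h42 ((card_le_of_classes _ (H ⧸ P.A) rfl).2.2.2 (by omega))
      have := card_le_classesIn_of_central P.A hcent
      have := quot_add_classesIn_le P.A
      omega
    obtain ⟨B, hBn, hBc⟩ : ∃ B, n ≤ B ∧ ((I.M = 3 ∧ B = 24 ∧ p < 37) ∨
        (I.M = 4 ∧ B = 72 ∧ p < 14) ∨ (I.M = 5 ∧ B = 625 ∧ p < 14) ∨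
        (I.M = 8 ∧ B = 262144 ∧ p < 13)) := by
      rcases hexc with ⟨a, b, c⟩ | ⟨a, b, c⟩ | ⟨a, b, c⟩ | ⟨a, b, c⟩
      · exact ⟨24, b, Or.inl ⟨a, rfl, c⟩⟩
      · exact ⟨72, b, Or.inr (Or.inl ⟨a, rfl, c⟩)⟩
      · exact ⟨625, b, Or.inr (Or.inr (Or.inl ⟨a, rfl, c⟩))⟩
      · exact ⟨262144, b, Or.inr (Or.inr (Or.inr ⟨a, rfl, c⟩))⟩
    obtain ⟨hw, hg⟩ := except_count hp hp11 hBc htp I.prime_dvd
      (hH ▸ Nat.mul_le_mul_right _ hBn) hk
    refine ⟨?_, fun _ => hg⟩
    rw [P2_eq]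
    calc p * Nat.card H ^ 2 = p * Nat.card H * Nat.card H := by ring
      _ ≤ Nat.card (ConjClasses H) * p ^ I.M * Nat.card H := Nat.mul_le_mul_right _ hw
      _ = _ := by ring

/-- The bound in terms of the action. -/
theorem le_classes_add {H : Type u} [Group H] [Finite H] [Group.IsSolvable H] {V : Type u}
    [AddCommGroup V] [DistribMulAction H V] [Finite V] {p d : ℕ} (hp : p.Prime)
    (hV : Nat.card V = p ^ d) (hd : 2 ≤ d) (hs : Semi H V) (hf : Faith H V) (r : ℕ)
    (hr : p ^ d - 1 ≤ r * Nat.card H) : 49 * p ≤ 60 * (Nat.card (ConjClasses H) + r) := by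
  by_cases h : p < 11
  · obtain ⟨h1, -, h3, h4⟩ := card_le_of_classes _ H rfl
    exact small_count hp h hd Nat.card_pos Nat.card_pos h1 h3 h4 hr
  · exact (lower_bounds _ p d hV hp (by omega) rfl (by omega) hs hf).2 hd r hr

section reduction

variable {G : Type u} [Group G] [Finite G] [Group.IsSolvable G] {p : ℕ} [Fact p.Prime]

/-- A normal subgroup of order prime to `p` keeps the divisibility. -/
theorem sq_dvd_quotient (hG : p ^ 2 ∣ Nat.card G) (M : Subgroup G) [M.Normal]
    (hM : ¬ p ∣ Nat.card M) : p ^ 2 ∣ Nat.card (G ⧸ M) := by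
  rw [Subgroup.card_eq_card_quotient_mul_card_subgroup M] at hG
  exact (Nat.Coprime.pow_left 2 ((Nat.Prime.coprime_iff_not_dvd Fact.out).2 hM)).dvd_of_dvd_mul_right
    hG

/-- Growing an abelian normal `p`-subgroup inside its centraliser. -/
theorem exists_larger (hG : p ^ 2 ∣ Nat.card G)
    (hno : ∀ M : Subgroup G, ∀ [M.Normal], M ≠ ⊥ → ¬ p ^ 2 ∣ Nat.card (G ⧸ M))
    (L : Subgroup G) [L.Normal] (hLne : L ≠ ⊥) (hL : IsPGroup p L)
    (hLab : L ≤ Subgroup.centralizer (L : Set G)) (hne : ¬ Subgroup.centralizer (L : Set G) ≤ L) :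
    ∃ K : Subgroup G, K.Normal ∧ L ≤ K ∧ (∀ x ∈ K, ∀ y ∈ K, x * y = y * x) ∧
      Nat.card K = Nat.card L * p := by
  classical
  have hp : p.Prime := Fact.out
  set C := Subgroup.centralizer (L : Set G) with hC
  haveI : C.Normal := by rw [hC]; infer_instance
  set π := QuotientGroup.mk' L
  haveI hCn : (C.map π).Normal :=
    Subgroup.Normal.map inferInstance π (QuotientGroup.mk'_surjective L)
  have hCne : C.map π ≠ ⊥ := fun e => hne (by
    rwa [Subgroup.map_eq_bot_iff, QuotientGroup.ker_mk'] at e)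
  obtain ⟨R, hRn, hRne, hRC, hRmin⟩ := Solvable.exists_minimal_normal_le hCn hCne
  haveI := hRn
  obtain ⟨q, hq, hRq⟩ := Solvable.exists_prime_pow_eq_one_of_minimal_normal hRne hRmin
  have hRab := Solvable.mul_comm_of_minimal_normal hRne hRmin
  haveI := Fact.mk hq
  set K := R.comap π with hK
  haveI hKn : K.Normal := by rw [hK]; infer_instance
  have hLK : L ≤ K := fun x hx => by
    rw [hK, Subgroup.mem_comap, show π x = 1 from (QuotientGroup.eq_one_iff x).2 hx]
    exact R.one_mem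
  have hKC : K ≤ C := by
    rw [← Solvable.comap_map_mk'_of_le hLab]
    exact Subgroup.comap_mono hRC
  have hcom : ∀ x ∈ K, ∀ a ∈ L, x * a = a * x := fun x hx a ha =>
    (Subgroup.mem_centralizer_iff.1 (hKC hx) a ha).symm
  let f : K →* G ⧸ L := π.comp K.subtype
  have hfker : f.ker = L.subgroupOf K := by
    ext x
    simp [f, π, Subgroup.mem_subgroupOf, MonoidHom.mem_ker]
  have hfran : f.range = R := by
    rw [MonoidHom.range_comp, Subgroup.range_subtype, hK,
      Subgroup.map_comap_eq_self_of_surjective (QuotientGroup.mk'_surjective L)]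
  have hKc : Nat.card K = Nat.card L * Nat.card R := by
    rw [Subgroup.card_eq_card_quotient_mul_card_subgroup f.ker,
      Nat.card_congr (QuotientGroup.quotientKerEquivRange f).toEquiv, hfran, hfker,
      Nat.card_congr (Subgroup.subgroupOfEquivOfLe hLK).toEquiv, mul_comm]
  have hRqg : IsPGroup q R := fun x => ⟨1, by rw [pow_one]; exact Subtype.ext (hRq x x.2)⟩
  obtain ⟨b, hb⟩ := IsPGroup.iff_card.1 hRqg
  have hb1 : 1 ≤ b := by
    by_contra h
    rw [show b = 0 by omega, pow_zero, Subgroup.card_eq_one] at hb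
    exact hRne hb
  by_cases hqp : q = p
  · subst hqp
    have hb2 : b = 1 := by
      by_contra h
      refine hno L hLne (dvd_trans ?_ (R.card_subgroup_dvd_card))
      rw [hb]
      exact pow_dvd_pow q (by omega)
    rw [hb2, pow_one] at hb
    haveI : IsCyclic R := isCyclic_of_prime_card hb
    let f' : K →* R := f.codRestrict R fun x => hfran.le ⟨x, rfl⟩
    refine ⟨K, hKn, hLK, fun x hx y hy => congrArg Subtype.val
      (commutative_of_cyclic_center_quotient f' (fun z hz => ?_) ⟨x, hx⟩ ⟨y, hy⟩ :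
        (⟨x, hx⟩ : K) * ⟨y, hy⟩ = ⟨y, hy⟩ * ⟨x, hx⟩), hb ▸ hKc⟩
    rw [MonoidHom.ker_codRestrict, hfker, Subgroup.mem_subgroupOf] at hz
    exact Subgroup.mem_center_iff.2 fun g => Subtype.ext (hcom g g.2 z hz)
  · exfalso
    have hqL : ∀ x ∈ K, x ^ q ∈ L := fun x hx => by
      have h := hRq (π x) (Subgroup.mem_comap.1 hx)
      rw [← map_pow] at h
      exact (QuotientGroup.eq_one_iff _).1 h
    have hab : ∀ x ∈ K, ∀ y ∈ K, x * y = y * x := by
      intro x hx y hy
      set c := x * y * x⁻¹ * y⁻¹ with hc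
      have hcL : c ∈ L := by
        rw [← QuotientGroup.eq_one_iff]
        show π (x * y * x⁻¹ * y⁻¹) = 1
        rw [map_mul, map_mul, map_mul, map_inv, map_inv,
          hRab _ (Subgroup.mem_comap.1 hx) _ (Subgroup.mem_comap.1 hy)]
        group
      have key : ∀ j : ℕ, x ^ j * y * (x ^ j)⁻¹ * y⁻¹ = c ^ j := by
        intro j
        induction j with
        | zero => simp
        | succ j ih =>
          calc x ^ (j + 1) * y * (x ^ (j + 1))⁻¹ * y⁻¹
              = (x * (x ^ j * y * (x ^ j)⁻¹ * y⁻¹)) * (y * x⁻¹ * y⁻¹) := by group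
            _ = (x * c ^ j) * (y * x⁻¹ * y⁻¹) := by rw [ih]
            _ = c ^ j * c := by rw [hcom x hx _ (L.pow_mem hcL j), hc]; group
            _ = _ := (pow_succ c j).symm
      have h1 : c ^ q = 1 := by
        rw [← key, ← hcom y hy _ (hqL x hx), mul_inv_cancel_right, mul_inv_cancel]
      obtain ⟨j, hj⟩ := hL ⟨c, hcL⟩
      have hj' : c ^ p ^ j = 1 := congrArg Subtype.val hj
      have h2 : c = 1 := by
        rw [← orderOf_eq_one_iff]
        refine Nat.eq_one_of_dvd_coprimes ?_ (orderOf_dvd_of_pow_eq_one h1)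
          (orderOf_dvd_of_pow_eq_one hj')
        exact Nat.Coprime.pow_right j ((Nat.coprime_primes hq hp).2 hqp)
      exact mul_inv_eq_iff_eq_mul.1 (mul_inv_eq_one.1 h2)
    let Q : Subgroup G :=
      { carrier := {x | x ∈ K ∧ x ^ q = 1}
        one_mem' := ⟨K.one_mem, one_pow q⟩
        mul_mem' := fun {a b} ha hb => ⟨K.mul_mem ha.1 hb.1, by
          rw [Commute.mul_pow (hab a ha.1 b hb.1), ha.2, hb.2, one_mul]⟩
        inv_mem' := fun {a} ha => ⟨K.inv_mem ha.1, by rw [inv_pow, ha.2, inv_one]⟩ }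
    haveI : Q.Normal := ⟨fun x hx g => ⟨hKn.conj_mem x hx.1 g, by
      rw [conj_pow, hx.2, mul_one, mul_inv_cancel]⟩⟩
    obtain ⟨z, hz⟩ := exists_prime_orderOf_dvd_card' (G := K) q
      (hKc ▸ dvd_mul_of_dvd_right (hb ▸ dvd_pow_self q (by omega)) _)
    have hzQ : (z : G) ∈ Q := ⟨z.2, by rw [← hz, ← Subgroup.orderOf_coe, pow_orderOf_eq_one]⟩
    refine hno Q (fun e => ?_) (sq_dvd_quotient hG Q fun hd => ?_)
    · rw [e, Subgroup.mem_bot] at hzQ
      rw [← Subgroup.orderOf_coe, hzQ, orderOf_one] at hz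
      exact hq.one_lt.ne hz
    · obtain ⟨w, hw⟩ := exists_prime_orderOf_dvd_card' (G := Q) p hd
      have := orderOf_dvd_of_pow_eq_one (w.2.2 : (w : G) ^ q = 1)
      rw [Subgroup.orderOf_coe, hw] at this
      exact hqp ((Nat.prime_dvd_prime_iff_eq hp hq).1 this).symm

/-- The bound from a self-centralising abelian normal subgroup. -/
theorem le_of_self_centralizing (L : Subgroup G) [L.Normal]
    (hab : ∀ a ∈ L, ∀ b ∈ L, a * b = b * a) (hC : Subgroup.centralizer (L : Set G) ≤ L) {d : ℕ}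
    (hL : Nat.card L = p ^ d) (hd : 2 ≤ d)
    (hmod : (∀ a ∈ L, a ^ p = 1) ∧ ¬ p ∣ Nat.card (G ⧸ L) ∨
      ∀ M : Subgroup G, M.Normal → M ≤ L → M = ⊥ ∨ M = L) :
    49 * p ≤ 60 * Nat.card (ConjClasses G) := by
  classical
  letI : CommGroup L :=
    { (inferInstance : Group L) with mul_comm := fun a b => Subtype.ext (hab a a.2 b b.2) }
  let χ₀ : G →* MulAut L := MulAut.conjNormal
  have hker : L ≤ χ₀.ker := fun a ha => MonoidHom.mem_ker.2 (MulEquiv.ext fun x => Subtype.ext (by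
    show ((MulAut.conjNormal a x : L) : G) = x
    rw [MulAut.conjNormal_apply, hab a ha x x.2, mul_inv_cancel_right]))
  let χ : G ⧸ L →* MulAut L := QuotientGroup.lift L χ₀ hker
  letI : DistribMulAction (G ⧸ L) (Additive L) :=
    { smul := fun g x => Additive.ofMul (χ g x.toMul)
      one_smul := fun x => by
        show Additive.ofMul (χ 1 x.toMul) = x
        rw [map_one]; rfl
      mul_smul := fun g h x => by
        show Additive.ofMul (χ (g * h) x.toMul) = Additive.ofMul (χ g (χ h x.toMul))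
        rw [map_mul]; rfl
      smul_zero := fun g => congrArg Additive.ofMul (map_one (χ g))
      smul_add := fun g x y => congrArg Additive.ofMul (map_mul (χ g) x.toMul y.toMul) }
  have hact : ∀ (g : G) (x : L),
      (((g : G ⧸ L) • Additive.ofMul x).toMul : G) = g * x * g⁻¹ := fun g x =>
    MulAut.conjNormal_apply g x
  have hf : Faith (G ⧸ L) (Additive L) := by
    intro h hh
    obtain ⟨g, rfl⟩ := QuotientGroup.mk_surjective h
    refine (QuotientGroup.eq_one_iff g).2 (hC (Subgroup.mem_centralizer_iff.2 fun x hx => ?_))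
    have e := hact g ⟨x, hx⟩
    rw [hh] at e
    exact (mul_inv_eq_iff_eq_mul.1 e.symm).symm
  have hs : Semi (G ⧸ L) (Additive L) := by
    rcases hmod with ⟨hexp, hcop⟩ | hmin
    · exact semi_of_coprime hcop fun v => congrArg Additive.ofMul
        (Subtype.ext (hexp v.toMul v.toMul.2) : v.toMul ^ p = 1)
    · intro U hU
      let U' : Subgroup G := (AddSubgroup.toSubgroup' U).map L.subtype
      have hU' : U'.Normal := ⟨by
        rintro _ ⟨x, hx, rfl⟩ g
        exact ⟨(((g : G ⧸ L) • Additive.ofMul x).toMul), hU (g : G ⧸ L) (Additive.ofMul x) hx, hact g x⟩⟩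
      rcases hmin U' hU' (Subgroup.map_subtype_le _) with h | h
      · refine ⟨⊤, isInv_top, ?_⟩
        have : U = ⊥ := by
          rw [eq_bot_iff]
          intro u hu
          have h' : (u.toMul : G) ∈ U' := ⟨u.toMul, hu, rfl⟩
          rw [h, Subgroup.mem_bot] at h'
          exact congrArg Additive.ofMul (Subtype.ext h' : u.toMul = 1)
        rw [this]
        exact isCompl_bot_top
      · refine ⟨⊥, isInv_bot, ?_⟩
        have : U = ⊤ := by
          rw [eq_top_iff]
          intro u _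
          obtain ⟨x, hx, e⟩ := (h.ge u.toMul.2 : (u.toMul : G) ∈ U')
          have he : x = u.toMul := Subtype.ext e
          subst he
          exact hx
        rw [this]
        exact isCompl_top_bot
  haveI := Group.isSolvable_of_surjective (QuotientGroup.mk'_surjective L)
  have h1 := card_le_classesIn L hab
  rw [hL, Subgroup.index_eq_card] at h1
  have h2 := quot_add_classesIn_le L
  have hm : 0 < Nat.card (ClassesIn L) := Nat.card_pos_iff.2 ⟨⟨classIn L 1⟩, inferInstance⟩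
  have h3 := le_classes_add (V := Additive L) (Fact.out : p.Prime) hL hd hs hf (Nat.card (ClassesIn L) - 1) (by omega)
  omega

/-- **The class number of a solvable group with order divisible by `p ^ 2`.** -/
theorem forty_nine_mul_le : ∀ (n : ℕ) (G : Type u) [Group G] [Finite G] [Group.IsSolvable G],
    Nat.card G = n → p ^ 2 ∣ n → 49 * p ≤ 60 * Nat.card (ConjClasses G) := by
  intro n
  induction n using Nat.strong_induction_on with
  | _ n ih =>
  intro G _ _ _ hn hdvd
  classical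
  subst hn
  have hp : p.Prime := Fact.out
  have hG2 := Nat.le_of_dvd Nat.card_pos hdvd
  by_cases hex : ∃ M : Subgroup G, ∃ h : M.Normal, M ≠ ⊥ ∧ p ^ 2 ∣ Nat.card (G ⧸ M)
  · obtain ⟨M, hM, hne, hd⟩ := hex
    haveI := Group.isSolvable_of_surjective (QuotientGroup.mk'_surjective M)
    have hlt : Nat.card (G ⧸ M) < Nat.card G := by
      conv_rhs => rw [Subgroup.card_eq_card_quotient_mul_card_subgroup M]
      exact lt_mul_of_one_lt_right Nat.card_pos (M.one_lt_card_iff_ne_bot.2 hne)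
    refine (ih _ hlt (G ⧸ M) rfl hd).trans (Nat.mul_le_mul_left _ ?_)
    exact Nat.card_le_card_of_surjective _
      (ConjClasses.map_surjective (f := QuotientGroup.mk' M) (QuotientGroup.mk'_surjective M))
  have hno : ∀ M : Subgroup G, ∀ [M.Normal], M ≠ ⊥ → ¬ p ^ 2 ∣ Nat.card (G ⧸ M) :=
    fun M hM hne hd => hex ⟨M, hM, hne, hd⟩
  haveI : Nontrivial G := Finite.one_lt_card_iff_nontrivial.1
    (lt_of_lt_of_le (Nat.one_lt_pow two_ne_zero hp.one_lt) hG2)
  obtain ⟨N, hN, hNne, hNmin⟩ := Solvable.exists_minimal_normal (G := G)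
  haveI := hN
  obtain ⟨q, hq, hNq⟩ := Solvable.exists_prime_pow_eq_one_of_minimal_normal hNne hNmin
  have hNab := Solvable.mul_comm_of_minimal_normal hNne hNmin
  have hpN : p ∣ Nat.card N := by_contra fun h => hno N hNne (sq_dvd_quotient hdvd N h)
  have hqp : q = p := by
    obtain ⟨z, hz⟩ := exists_prime_orderOf_dvd_card' (G := N) p hpN
    have := orderOf_dvd_of_pow_eq_one (hNq z z.2)
    rw [Subgroup.orderOf_coe, hz] at this
    exact ((Nat.prime_dvd_prime_iff_eq hp hq).1 this).symm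
  subst hqp
  have hNp : IsPGroup q N := fun x => ⟨1, by rw [pow_one]; exact Subtype.ext (hNq x x.2)⟩
  obtain ⟨a, ha⟩ := IsPGroup.iff_card.1 hNp
  have hNC : N ≤ Subgroup.centralizer (N : Set G) := fun x hx =>
    Subgroup.mem_centralizer_iff.2 fun y hy => hNab y hy x hx
  have hcard := Subgroup.card_eq_card_quotient_mul_card_subgroup N
  by_cases hCN : Subgroup.centralizer (N : Set G) ≤ N
  · refine le_of_self_centralizing N hNab hCN ha ?_ (Or.inr fun M hM hle => hNmin M hM hle)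
    -- the dimension is at least two
    by_contra ha2
    have ha1 : a = 1 := by
      have : a ≠ 0 := fun e => by rw [e, pow_zero, Subgroup.card_eq_one] at ha; exact hNne ha
      omega
    rw [ha1, pow_one] at ha
    have hlt : Nat.card (G ⧸ N) < q := by
      obtain ⟨z, hz⟩ := exists_prime_orderOf_dvd_card' (G := N) q ha.symm.dvd
      have hz1 : (z : G) ≠ 1 := fun e => by
        rw [← Subgroup.orderOf_coe, e, orderOf_one] at hz
        exact hq.one_lt.ne hz
      haveI : Fintype N := Fintype.ofFinite N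
      rw [← ha, Nat.card_eq_fintype_card (α := N)]
      haveI : Fintype (G ⧸ N) := Fintype.ofFinite _
      rw [Nat.card_eq_fintype_card]
      refine Fintype.card_lt_of_injective_of_notMem
        (fun x : G ⧸ N => (⟨x.out * z * x.out⁻¹, hN.conj_mem _ z.2 _⟩ : N)) (fun x y e => ?_)
        (b := 1) ?_
      · rw [← x.out_eq', ← y.out_eq', QuotientGroup.eq]
        refine hCN ?_
        have hgen : Subgroup.zpowers (z : G) = N := by
          refine Subgroup.eq_of_le_of_card_ge (Subgroup.zpowers_le.2 z.2) ?_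
          rw [Nat.card_zpowers, Subgroup.orderOf_coe, hz, ha]
        refine Subgroup.mem_centralizer_iff.2 fun w hw => ?_
        rw [← hgen] at hw
        obtain ⟨i, rfl⟩ := hw
        refine (Commute.zpow_left ?_ i).eq
        have e' : x.out * (z : G) * x.out⁻¹ = y.out * z * y.out⁻¹ := congrArg Subtype.val e
        show (z : G) * (x.out⁻¹ * y.out) = x.out⁻¹ * y.out * z
        calc (z : G) * (x.out⁻¹ * y.out) = x.out⁻¹ * (x.out * z * x.out⁻¹) * y.out := by group
          _ = _ := by rw [e']; group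
      · rintro ⟨x, hx⟩
        exact hz1 (conj_eq_one_iff.1 (congrArg Subtype.val hx))
    rw [hcard, ha, mul_comm, sq] at hdvd
    have := Nat.le_of_dvd Nat.card_pos (Nat.dvd_of_mul_dvd_mul_left hp.pos hdvd)
    omega
  obtain ⟨L, hLn, hNL, hLab, hLc⟩ := exists_larger hdvd hno N hNne hNp hNC hCN
  haveI := hLn
  have hLp : Nat.card L = q ^ (a + 1) := by rw [hLc, ha, pow_succ]
  have hLne : L ≠ ⊥ := fun e => hNne (eq_bot_iff.2 (e ▸ hNL))
  have hLpg : IsPGroup q L := IsPGroup.of_card hLp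
  have hcop : ¬ q ∣ Nat.card (G ⧸ L) := by
    intro hd
    refine hno N hNne ?_
    have h := Subgroup.card_eq_card_quotient_mul_card_subgroup L
    rw [hLc, hcard, ← mul_assoc, mul_right_comm] at h
    rw [Nat.eq_of_mul_eq_mul_right Nat.card_pos h, sq]
    exact mul_dvd_mul_right hd q
  have hLC : L ≤ Subgroup.centralizer (L : Set G) := fun x hx =>
    Subgroup.mem_centralizer_iff.2 fun y hy => hLab y hy x hx
  have hCL : Subgroup.centralizer (L : Set G) ≤ L := by
    by_contra hcon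
    obtain ⟨K, -, -, -, hKc⟩ := exists_larger hdvd hno L hLne hLpg hLC hcon
    refine hcop ?_
    have h := K.card_subgroup_dvd_card
    rw [hKc, Subgroup.card_eq_card_quotient_mul_card_subgroup L, mul_comm] at h
    exact Nat.dvd_of_mul_dvd_mul_right Nat.card_pos h
  have hapos : 1 ≤ a := by
    by_contra h
    rw [show a = 0 by omega, pow_zero, Subgroup.card_eq_one] at ha
    exact hNne ha
  by_cases hexp : ∀ x ∈ L, x ^ q = 1
  · exact le_of_self_centralizing L hLab hCL hLp (by omega) (Or.inl ⟨hexp, hcop⟩)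
  -- the cyclic case
  push Not at hexp
  obtain ⟨x₀, hx₀, hx₀'⟩ := hexp
  let φ : L →* G :=
    { toFun := fun x => (x : G) ^ q
      map_one' := one_pow q
      map_mul' := fun x y => (Commute.mul_pow (hLab x x.2 y y.2) q) }
  have hRn : φ.range.Normal := ⟨by
    rintro _ ⟨x, rfl⟩ g
    exact ⟨⟨g * x * g⁻¹, hLn.conj_mem _ x.2 g⟩, conj_pow⟩⟩
  have hqN : ∀ x ∈ L, x ^ q ∈ N := by
    intro x hx
    haveI : (N.subgroupOf L).Normal := hN.subgroupOf L
    have hc : Nat.card (L ⧸ N.subgroupOf L) = q := by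
      have h := Subgroup.card_eq_card_quotient_mul_card_subgroup (N.subgroupOf L)
      rw [Nat.card_congr (Subgroup.subgroupOfEquivOfLe hNL).toEquiv, hLc, mul_comm] at h
      exact (Nat.eq_of_mul_eq_mul_right Nat.card_pos h).symm
    have h := pow_card_eq_one' (x := ((⟨x, hx⟩ : L) : L ⧸ N.subgroupOf L))
    rw [hc, ← QuotientGroup.mk_pow, QuotientGroup.eq_one_iff] at h
    exact h
  have hRN : φ.range = N := (hNmin _ hRn (by rintro _ ⟨x, rfl⟩; exact hqN x x.2)).resolve_left
    fun e => hx₀' (Subgroup.mem_bot.1 (e.le ⟨⟨x₀, hx₀⟩, rfl⟩))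
  have ha1 : a = 1 := by
    have h := Subgroup.card_eq_card_quotient_mul_card_subgroup φ.ker
    rw [Nat.card_congr (QuotientGroup.quotientKerEquivRange φ).toEquiv, hRN, hLc] at h
    have h2 : Nat.card N ≤ Nat.card φ.ker := by
      rw [← Nat.card_congr (Subgroup.subgroupOfEquivOfLe hNL).toEquiv]
      exact Subgroup.card_le_of_le fun x hx =>
        MonoidHom.mem_ker.2 (hNq x (Subgroup.mem_subgroupOf.1 hx))
    have h3 : Nat.card φ.ker = q := (Nat.eq_of_mul_eq_mul_left Nat.card_pos h).symm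
    rw [h3, ha] at h2
    have := (Nat.pow_le_pow_iff_right hq.one_lt).1 (h2.trans_eq (pow_one q).symm)
    omega
  haveI : IsCyclic L := by
    refine isCyclic_of_orderOf_eq_card (⟨x₀, hx₀⟩ : L) ?_
    rw [hLp, ha1]
    refine orderOf_eq_prime_pow (n := 1) (fun e => hx₀' ?_) (Subtype.ext ?_)
    · simpa using congrArg Subtype.val e
    · show x₀ ^ q ^ (1 + 1) = 1
      rw [pow_succ, pow_one, pow_mul]
      exact hNq _ (hqN _ hx₀)
  have habq : ∀ g h : G ⧸ L, g * h = h * g := by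
    intro g h
    induction g using QuotientGroup.induction_on with | H g => ?_
    induction h using QuotientGroup.induction_on with | H h => ?_
    rw [← QuotientGroup.mk_mul, ← QuotientGroup.mk_mul, QuotientGroup.eq]
    refine hCL (Subgroup.mem_centralizer_iff.2 fun x hx => ?_)
    obtain ⟨i, hi⟩ := MonoidHom.map_cyclic (MulAut.conjNormal (H := L) g).toMonoidHom
    obtain ⟨j, hj⟩ := MonoidHom.map_cyclic (MulAut.conjNormal (H := L) h).toMonoidHom
    have e : MulAut.conjNormal (H := L) (g * h) ⟨x, hx⟩ =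
        MulAut.conjNormal (H := L) (h * g) ⟨x, hx⟩ := by
      rw [map_mul, map_mul, MulAut.mul_apply, MulAut.mul_apply]
      calc MulAut.conjNormal g (MulAut.conjNormal (H := L) h ⟨x, hx⟩)
          = ((⟨x, hx⟩ : L) ^ j) ^ i := by
            rw [← hj ⟨x, hx⟩]; exact hi _
        _ = ((⟨x, hx⟩ : L) ^ i) ^ j := by rw [← zpow_mul, mul_comm, zpow_mul]
        _ = _ := by rw [← hi ⟨x, hx⟩]; exact (hj _).symm
    have e' : g * h * x * (g * h)⁻¹ = h * g * x * (h * g)⁻¹ := by
      have e'' := congrArg Subtype.val e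
      rwa [MulAut.conjNormal_apply, MulAut.conjNormal_apply] at e''
    calc x * ((g * h)⁻¹ * (h * g)) = (g * h)⁻¹ * (g * h * x * (g * h)⁻¹) * (h * g) := by group
      _ = _ := by rw [e']; group
  have hk1 : Nat.card (G ⧸ L) ≤ Nat.card (ConjClasses (G ⧸ L)) :=
    Nat.card_le_card_of_injective ConjClasses.mk fun x y e => by
      obtain ⟨c, hc⟩ := isConj_iff.1 (ConjClasses.mk_eq_mk_iff_isConj.1 e)
      rwa [habq c x, mul_inv_cancel_right] at hc
  have h1 := card_le_classesIn L hLab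
  rw [hLp, ha1, Subgroup.index_eq_card] at h1
  have h2 := quot_add_classesIn_le L
  have hm : 0 < Nat.card (ClassesIn L) :=
    Nat.card_pos_iff.2 ⟨⟨classIn L 1⟩, inferInstance⟩
  obtain ⟨r, hr⟩ : ∃ r, Nat.card (ClassesIn L) = r + 1 := ⟨_, (Nat.succ_pred_eq_of_pos hm).symm⟩
  rw [hr, Nat.add_sub_cancel] at h1
  rw [hr] at h2
  generalize Nat.card (ConjClasses G) = k at h2 ⊢
  generalize Nat.card (ConjClasses (G ⧸ L)) = j at h2 hk1
  generalize Nat.card (G ⧸ L) = y at h1 hk1
  have hk : y + r ≤ k := by omega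
  have h4 : 4 * (r * y) ≤ (y + r) ^ 2 := by nlinarith [sq_nonneg ((y : ℤ) - r)]
  by_contra hlt
  push Not at hlt
  have h5 := Nat.mul_lt_mul'' hlt hlt
  have h6 : (y + r) ^ 2 ≤ k ^ 2 := Nat.pow_le_pow_left hk 2
  have h7 := Nat.pow_le_pow_left hp.two_le 2
  norm_num at h7 h1
  nlinarith

end reduction

end CfsgLib.SolvKGV
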