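import Cfsg.Agent.SolvKGV.Affine
import Cfsg.Agent.BlocksLocal.InertiaDefect
import Cfsg.Agent.BlocksLocal.WeightedUnion
import Cfsg.Agent.ConstrainedBlock.Principal
import Cfsg.Agent.CharactersDeep.Gallagher
import Cfsg.Agent.CharactersDeep.ExtensionCriteria
import Cfsg.Agent.PLocal.Constraint
import Cfsg.Agent.S0854

/-!
# The number of characters in a block of a solvable group

At most `k(G ⧸ N)` irreducible characters lie over an invariant character of a normal subgroup `N`;
together with the class number of solvable groups with trivial `p'`-core this bounds the number of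
characters in a block of a solvable group by its defect.
-/

set_option autoImplicit false
set_option linter.unusedSectionVars false
set_option linter.style.haveILetI false

namespace CfsgLib.SolvKGV

open Cfsg CfsgLib.Blocks
open CfsgLib.BlockPairs (cj card_cj)
open CfsgLib.OddOrderChar (conjBy)
open scoped ComplexConjugate

universe u

section Over

variable {G : Type u} [Group G] [Fintype G] (N : Subgroup G) [hN : N.Normal] [Fintype N]

/-- On a coset of `N`, all characters over an invariant character are proportional. -/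
theorem exists_coset_eq {θ : N → ℂ} (hθ : Cfsg.IsIrrCharacter N θ)
    (hinv : ∀ g : G, conjBy N θ g = θ) (g : G) :
    ∃ f : G → ℂ, ∀ χ : IrrCharacter G, Cfsg.classInner (fun n : N => (χ : G → ℂ) n) θ ≠ 0 →
      ∃ a : ℂ, ∀ n : N, (χ : G → ℂ) ((n : G) * g) = a * f ((n : G) * g) := by
  classical
  set H := N ⊔ Subgroup.zpowers g
  haveI := Fintype.ofFinite H
  have hNH : N ≤ H := le_sup_left
  have hgH : g ∈ H := (le_sup_right : Subgroup.zpowers g ≤ H) (Subgroup.mem_zpowers g)
  set N' := N.subgroupOf H with hN'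
  haveI : N'.Normal := hN.subgroupOf H
  haveI := Fintype.ofFinite N'
  let e : N' ≃* N := Subgroup.subgroupOfEquivOfLe hNH
  have hθ' : Cfsg.IsIrrCharacter N' fun x => θ (e x) :=
    Characters.isIrr_comp e.toMonoidHom e.surjective hθ
  have hinv' : ∀ (x : H) (n : N'), (fun m : N' => θ (e m))
      ⟨x * n * x⁻¹, (inferInstance : N'.Normal).conj_mem n n.2 x⟩ = θ (e n) := fun x n => by
    refine Eq.trans ?_ (congrFun (hinv (x : G)) (e n))
    simp only [conjBy]
    exact congrArg θ (Subtype.ext rfl)
  have hcyc : IsCyclic (H ⧸ N') := by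
    refine ⟨⟨((⟨g, hgH⟩ : H) : H ⧸ N'), fun q => ?_⟩⟩
    obtain ⟨x, rfl⟩ := QuotientGroup.mk_surjective q
    obtain ⟨n, hn, z, ⟨k, rfl⟩, hx⟩ := Subgroup.mem_sup_of_normal_left.1 x.2
    refine ⟨k, ?_⟩
    have hxe : x = (⟨n, hNH hn⟩ : H) * (⟨g, hgH⟩ : H) ^ k := Subtype.ext (by simp [hx])
    show ((⟨g, hgH⟩ : H) : H ⧸ N') ^ k = (x : H ⧸ N')
    rw [hxe, QuotientGroup.mk_mul,
      (QuotientGroup.eq_one_iff (⟨n, hNH hn⟩ : H)).2 (Subgroup.mem_subgroupOf.2 hn), one_mul,
      QuotientGroup.mk_zpow]
  obtain ⟨φ, hφ, hφN⟩ := CharactersDeep.ExtensionCriteria.extends_of_cyclic N' hθ' hinv' hcyc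
  have hφN' : (fun n : N' => φ n) = fun n : N' => θ (e n) := funext hφN
  refine ⟨fun x => if h : x ∈ H then φ ⟨x, h⟩ else 0, fun χ hχ => ?_⟩
  obtain ⟨c, -, hres, -⟩ :=
    CharactersDeep.Clifford.restrict_eq_smul N χ.2 hθ hinv hχ
  obtain ⟨m, hm⟩ := Characters.exists_nat_coeff
    (Characters.isCharacter_restrict H (Characters.isCharacter_of_isIrr χ.2))
  have hl : ∀ (ψ : IrrCharacter H) (η : IrrCharacter N'), ∃ l : ℕ,
      Cfsg.classInner (fun n : N' => (ψ : H → ℂ) n) (η : N' → ℂ) = l := fun ψ η =>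
    Characters.classInner_character_irr
      (Characters.isCharacter_restrict N' (Characters.isCharacter_of_isIrr ψ.2)) η.2
  choose l hl using hl
  have hψ : ∀ ψ : IrrCharacter H, m ψ ≠ 0 →
      Cfsg.classInner (fun n : N' => (ψ : H → ℂ) n) (fun n : N' => φ n) ≠ 0 := by
    intro ψ hm0 h0
    rw [hφN'] at h0
    apply Characters.irr_one_ne_zero ψ.2
    have h1 : (fun n : N' => (ψ : H → ℂ) n) = fun _ => 0 := by
      obtain ⟨k, hk⟩ := Characters.exists_nat_coeff
        (Characters.isCharacter_restrict N' (Characters.isCharacter_of_isIrr ψ.2))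
      have hkl : ∀ η : IrrCharacter N', k η = l ψ η := fun η => by
        have h := hl ψ η
        rw [hk, Characters.classInner_irr_coeff] at h
        exact_mod_cast h
      have hk0 : ∀ η : IrrCharacter N', k η = 0 := by
        intro η
        by_cases hη : (η : N' → ℂ) = fun n => θ (e n)
        · have h := hl ψ η
          rw [hη, h0, eq_comm] at h
          rw [hkl]
          exact_mod_cast h
        have hsum : ∑ ξ : IrrCharacter H, m ξ * l ξ η = 0 := by
          apply Nat.cast_injective (R := ℂ)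
          push_cast
          have h2 : (fun n : N' => (χ : G → ℂ) (n : H)) =
              ∑ ξ : IrrCharacter H, (m ξ : ℂ) • fun n : N' => (ξ : H → ℂ) n := by
            funext n
            have := congrFun hm (n : H)
            simp only [Finset.sum_apply, Pi.smul_apply] at this ⊢
            exact this
          have h3 : (fun n : N' => (χ : G → ℂ) (n : H)) = (c : ℂ) • fun n : N' => θ (e n) :=
            funext fun n => congrFun hres (e n)
          have h4 := congrArg (fun F => Cfsg.classInner F (η : N' → ℂ)) (h2.symm.trans h3)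
          simp only [Characters.classInner_sum_left, Characters.classInner_smul_left, hl,
            Characters.classInner_isIrr_ne hθ' η.2 (Ne.symm hη), mul_zero] at h4
          exact h4
        rw [hkl]
        exact (mul_eq_zero.1 ((Finset.sum_eq_zero_iff.1 hsum) ψ (Finset.mem_univ _))).resolve_left
          hm0
      rw [hk]
      funext n
      simp [hk0]
    exact congrFun h1 1
  have hβ : ∀ ψ : IrrCharacter H, ∃ β : H ⧸ N' → ℂ, m ψ ≠ 0 →
      (ψ : H → ℂ) = CharactersDeep.Gallagher.prodInfl N' φ β := fun ψ => by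
    by_cases hm0 : m ψ = 0
    · exact ⟨0, fun h => absurd hm0 h⟩
    obtain ⟨β, -, hb⟩ := CharactersDeep.Gallagher.exists_eq_prodInfl N' hφ
      (by rw [hφN']; exact hθ') ψ.2 (hψ ψ hm0)
    exact ⟨β, fun _ => hb⟩
  choose β hβ using hβ
  refine ⟨∑ ψ : IrrCharacter H, (m ψ : ℂ) * β ψ ((⟨g, hgH⟩ : H) : H ⧸ N'), fun n => ?_⟩
  have hxH : (n : G) * g ∈ H := H.mul_mem (hNH n.2) hgH
  simp only [dif_pos hxH]
  have h := congrFun hm ⟨(n : G) * g, hxH⟩
  simp only [Finset.sum_apply, Pi.smul_apply, smul_eq_mul] at h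
  rw [h, Finset.sum_mul]
  refine Finset.sum_congr rfl fun ψ _ => ?_
  by_cases hm0 : m ψ = 0
  · simp [hm0]
  rw [congrFun (hβ ψ hm0) ⟨(n : G) * g, hxH⟩, CharactersDeep.Gallagher.prodInfl,
    show ((⟨(n : G) * g, hxH⟩ : H) : H ⧸ N') = ((⟨g, hgH⟩ : H) : H ⧸ N') from by
      rw [show (⟨(n : G) * g, hxH⟩ : H) = ⟨(n : G), hNH n.2⟩ * ⟨g, hgH⟩ from rfl,
        QuotientGroup.mk_mul,
        (QuotientGroup.eq_one_iff (⟨(n : G), hNH n.2⟩ : H)).2 (Subgroup.mem_subgroupOf.2 n.2),
        one_mul]]
  ring

/-- At most `k(G ⧸ N)` irreducible characters lie over an invariant character of `N`. -/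
theorem ncard_over_le {θ : N → ℂ} (hθ : Cfsg.IsIrrCharacter N θ)
    (hinv : ∀ g : G, conjBy N θ g = θ) :
    {χ : IrrCharacter G | Cfsg.classInner (fun n : N => (χ : G → ℂ) n) θ ≠ 0}.ncard ≤
      Nat.card (ConjClasses (G ⧸ N)) := by
  classical
  set S := {χ : IrrCharacter G | Cfsg.classInner (fun n : N => (χ : G → ℂ) n) θ ≠ 0}
  have hr : ∀ c : ConjClasses (G ⧸ N), ∃ g : G, ConjClasses.mk (g : G ⧸ N) = c := fun c => by
    obtain ⟨q, rfl⟩ := ConjClasses.mk_surjective c
    obtain ⟨g, rfl⟩ := QuotientGroup.mk_surjective q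
    exact ⟨g, rfl⟩
  choose r hr using hr
  choose f hf using fun c => exists_coset_eq N hθ hinv (r c)
  choose a ha using fun (χ : S) (c : ConjClasses (G ⧸ N)) => hf c χ.1 χ.2
  haveI : Fintype S := Fintype.ofFinite S
  haveI : Fintype (ConjClasses (G ⧸ N)) := Fintype.ofFinite _
  have hli : LinearIndependent ℂ (fun χ : S => a χ) := by
    rw [Fintype.linearIndependent_iff]
    intro lam hlam
    have hF : ∑ χ : S, lam χ • (χ.1 : G → ℂ) = 0 := by
      funext x
      set c := ConjClasses.mk (x : G ⧸ N) with hc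
      obtain ⟨y, hy⟩ := isConj_iff.1 (ConjClasses.mk_eq_mk_iff_isConj.1 (hc ▸ (hr c).symm))
      obtain ⟨y, rfl⟩ := QuotientGroup.mk_surjective y
      set n : N := ⟨y * x * y⁻¹ * (r c)⁻¹, by
        rw [← QuotientGroup.eq_one_iff, QuotientGroup.mk_mul, QuotientGroup.mk_inv,
          mul_inv_eq_one, QuotientGroup.mk_mul, QuotientGroup.mk_mul, QuotientGroup.mk_inv]
        exact hy⟩
      have hn : (n : G) * r c = y * x * y⁻¹ := by simp [n]
      have hx : ∀ χ : S, (χ.1 : G → ℂ) x = a χ c * f c ((n : G) * r c) := fun χ => by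
        rw [← ha χ c n, hn, Characters.isClassFunction_of_isIrr χ.1.2]
      have h0 := congrFun hlam c
      simp only [Finset.sum_apply, Pi.smul_apply, Pi.zero_apply, smul_eq_mul] at h0 ⊢
      rw [Finset.sum_congr rfl fun χ _ => by rw [hx χ, ← mul_assoc], ← Finset.sum_mul, h0,
        zero_mul]
    exact Fintype.linearIndependent_iff.1
      (Characters.irr_linearIndependent.comp (fun χ : S => χ.1) Subtype.val_injective) lam hF
  have h := hli.fintype_card_le_finrank
  rw [Module.finrank_fintype_fun_eq_card] at h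
  rw [Set.ncard_eq_toFinset_card' , Set.toFinset_card, Nat.card_eq_fintype_card]
  exact h

end Over

section Block

variable {G : Type u} [Group G] [Fintype G] {M : Ideal AlgInt} [M.IsPrime] {p : ℕ} [Fact p.Prime]

open Classical in
/-- The bound when the character of `O_{p'}` is invariant. -/
theorem ncard_le_of_invariant (hM : Cfsg.IsPModular p M) [Group.IsSolvable G]
    {N : Subgroup G} [hNn : N.Normal] [Fintype N] (hN : N = Cfsg.pPrimeCore p G)
    {θ : IrrCharacter N} (hθ : ConstrainedBlock.Invariant N θ) {B : Set (IrrCharacter G)}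
    (hB : Cfsg.IsPBlock M B) (hd : 0 < Cfsg.blockDefect p B)
    {χ : IrrCharacter G} (hχ : χ ∈ B) (hover : ConstrainedBlock.Over N θ χ) :
    B.ncard ≤ 3 ^ (Cfsg.blockDefect p B - 1) * p ^ Cfsg.blockDefect p B := by
  have hsolv : Cfsg.IsPSolvable p G := PLocal.isPSolvable_of_isSolvable
  set L := Cfsg.pPrimePCore p G with hL
  have hcard : ¬ p ∣ Nat.card N := hN ▸
    (Nat.Prime.coprime_iff_not_dvd (Fact.out : p.Prime)).1
      (PLocal.coprime_card_pPrimeCore p G).symm
  have hNL : N ≤ L := hN ▸ PLocal.pPrimeCore_le_pPrimePCore p G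
  have hq : ∃ k, N.relIndex L = p ^ k := hN ▸ PLocal.relIndex_pPrimeCore_pPrimePCore
  obtain ⟨S⟩ : Nonempty (Sylow p L) := inferInstance
  have hQ := Blocks.isSylowIn_map_subtype S
  have hCQ := PLocal.isPConstrained_of_isPSolvable hsolv S
  haveI : L.Normal := by rw [hL]; infer_instance
  have hs := ConstrainedBlock.setting_of_constrained hcard hNL hq hQ.1 hQ.2.1 hQ.2.2 hCQ
  have hB' := ConstrainedBlock.isPBlock_overSet hs hM hθ
  have hBeq : B = ConstrainedBlock.overSet (X := G) θ := isPBlock_eq_of_mem hB hB' hχ hover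
  obtain ⟨P₀⟩ : Nonempty (Sylow p G) := inferInstance
  have hdef := ConstrainedBlock.isDefectGroup_overSet hs hM hθ P₀
  rw [← hBeq] at hdef
  have hdG : Cfsg.blockDefect p B = (Nat.card (G ⧸ N)).factorization p := by
    rw [blockDefect_eq hM hB hdef]
    have h1 : (Nat.card G).factorization p = (Nat.card (P₀ : Subgroup G)).factorization p := by
      rw [← (P₀ : Subgroup G).card_mul_index, Nat.factorization_mul Nat.card_pos.ne'
        Subgroup.index_ne_zero_of_finite, Finsupp.add_apply,
        Nat.factorization_eq_zero_of_not_dvd P₀.not_dvd_index, add_zero]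
    rw [← h1, Subgroup.card_eq_card_quotient_mul_card_subgroup N,
      Nat.factorization_mul Nat.card_pos.ne' Nat.card_pos.ne', Finsupp.add_apply,
      Nat.factorization_eq_zero_of_not_dvd hcard, add_zero]
  have hinv : ∀ g : G, conjBy N (θ : N → ℂ) g = (θ : N → ℂ) := fun g => funext fun n => hθ g n
  calc B.ncard ≤ Nat.card (ConjClasses (G ⧸ N)) := by
        rw [hBeq]; exact ncard_over_le N θ.2 hinv
    _ ≤ _ := card_conjClasses_le (X := G ⧸ N) (p := p)
        (by subst hN; exact PLocal.pPrimeCore_quotient_pPrimeCore_eq_bot p G) hdG.symm hd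

open Classical in
/-- **The number of characters in a block of a solvable group.** -/
theorem ncard_le (hM : Cfsg.IsPModular p M) [Group.IsSolvable G]
    {B : Set (IrrCharacter G)} (hB : Cfsg.IsPBlock M B) (hd : 0 < Cfsg.blockDefect p B) :
    B.ncard ≤ 3 ^ (Cfsg.blockDefect p B - 1) * p ^ Cfsg.blockDefect p B := by
  induction hc : Nat.card G using Nat.strong_induction_on generalizing G with
  | _ k ih =>
    obtain ⟨χ₀, hχ₀⟩ : ∃ χ : IrrCharacter G, χ ∈ B := by
      obtain ⟨χ, rfl⟩ := hB
      exact ⟨χ, mem_blockOf_self χ⟩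
    set N := Cfsg.pPrimeCore p G with hNdef
    haveI := Fintype.ofFinite N
    obtain ⟨θ, hθ₀⟩ := BlocksLocal.exists_constituent N χ₀
    set T := BlocksLocal.Weighted.stabilizer θ with hTdef
    by_cases hT : T = ⊤
    · refine ncard_le_of_invariant hM hNdef (θ := θ) (fun x n => ?_) hB hd hχ₀ hθ₀
      refine Eq.trans (congrArg (θ : N → ℂ) (Subtype.ext (MulAut.conjNormal_apply x n).symm)) ?_
      exact (hT ▸ Subgroup.mem_top x : x ∈ T) n
    haveI := Fintype.ofFinite T
    have hNT : N ≤ T := BlocksLocal.Weighted.le_stabilizer θ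
    have hmem : ∀ g : G, g ∈ T ↔ ∀ n : N, (θ : N → ℂ) ⟨g * n * g⁻¹,
        Subgroup.Normal.conj_mem inferInstance (n : G) n.2 g⟩ = (θ : N → ℂ) n := fun g =>
      forall_congr' fun n => by
        rw [show MulAut.conjNormal g n = (⟨g * n * g⁻¹, _⟩ : N) from
          Subtype.ext (MulAut.conjNormal_apply g n)]
    -- the characters of `T` over `θ`
    set N' := N.subgroupOf T with hN'
    haveI := Fintype.ofFinite N'
    let e : N' ≃* N := Subgroup.subgroupOfEquivOfLe hNT
    let θ' : IrrCharacter N' := ⟨_, ConstrainedBlock.isIrr_comp_equiv e θ⟩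
    have hθ' : ConstrainedBlock.Invariant N' θ' := fun t n => by
      refine Eq.trans ?_ ((hmem (t : G)).1 t.2 (e n))
      exact congrArg (θ : N → ℂ) (Subtype.ext rfl)
    have hN'p : ¬ p ∣ Nat.card N' := by
      rw [Nat.card_congr e.toEquiv]
      exact (Nat.Prime.coprime_iff_not_dvd (Fact.out : p.Prime)).1
        (PLocal.coprime_card_pPrimeCore p G).symm
    set A : Set (IrrCharacter T) := {φ | ConstrainedBlock.Over N' θ' φ} with hA
    have hAu : IsBlockUnion M A := by
      intro φ hφ φ' hφ'
      have h := DFunLike.congr_fun ((sameBlock_iff φ φ').1 hφ')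
        (ConstrainedBlock.eCtr hM hN'p hθ')
      rw [ConstrainedBlock.omegaBar_eCtr, ConstrainedBlock.omegaBar_eCtr,
        if_pos (show ConstrainedBlock.Over N' θ' φ from hφ)] at h
      by_contra hn
      rw [if_neg (show ¬ ConstrainedBlock.Over N' θ' φ' from hn)] at h
      exact one_ne_zero h
    have htr : ∀ f : T → ℂ, Cfsg.classInner (fun n : N' => f n) (θ' : N' → ℂ) =
        Cfsg.classInner (fun n : N => f ⟨(n : G), hNT n.2⟩) (θ : N → ℂ) := fun f => by
      simp only [Cfsg.classInner]
      rw [Nat.card_congr e.toEquiv]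
      congr 1
      exact Fintype.sum_equiv e.toEquiv _ _ fun n => rfl
    choose m hm using fun χ : IrrCharacter G => Characters.exists_nat_coeff
      (Characters.isCharacter_restrict T (Characters.isCharacter_of_isIrr χ.2))
    have hmφ : ∀ (χ : IrrCharacter G) (φ : IrrCharacter T),
        Cfsg.classInner (fun t : T => (χ : G → ℂ) t) (φ : T → ℂ) = (m χ φ : ℂ) :=
      fun χ φ => by rw [hm χ, Characters.classInner_irr_coeff]
    choose l hl using fun φ : IrrCharacter T => (Characters.classInner_character_irr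
      (Characters.isCharacter_restrict N' (Characters.isCharacter_of_isIrr φ.2)) θ'.2 :
        ∃ l : ℕ, Cfsg.classInner (fun n : N' => (φ : T → ℂ) n) (θ' : N' → ℂ) = l)
    have hres : ∀ χ : IrrCharacter G,
        Cfsg.classInner (fun n : N => (χ : G → ℂ) n) (θ : N → ℂ) =
          ((∑ φ : IrrCharacter T, m χ φ * l φ : ℕ) : ℂ) := fun χ => by
      have h1 := htr fun t : T => (χ : G → ℂ) t
      have h2 : (fun n : N' => (χ : G → ℂ) (n : T)) =
          ∑ φ : IrrCharacter T, (m χ φ : ℂ) • fun n : N' => (φ : T → ℂ) n := by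
        funext n
        have := congrFun (hm χ) (n : T)
        simp only [Finset.sum_apply, Pi.smul_apply] at this ⊢
        exact this
      rw [h2, Characters.classInner_sum_left] at h1
      simp only [Characters.classInner_smul_left, hl] at h1
      rw [← h1]
      push_cast
      rfl
    have hlA : ∀ φ ∈ A, l φ ≠ 0 := fun φ hφ h => hφ (by rw [hl, h, Nat.cast_zero])
    -- the Clifford correspondent of a character over `θ`
    have hcorr : ∀ χ : IrrCharacter G,
        Cfsg.classInner (fun n : N => (χ : G → ℂ) n) (θ : N → ℂ) ≠ 0 →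
        ∃ ψ ∈ A, Cfsg.indFun T (ψ : T → ℂ) = (χ : G → ℂ) ∧
          ∀ φ ∈ A, φ ≠ ψ → m χ φ = 0 := by
      intro χ hθ
      obtain ⟨ψ₀, hψ₀, hind, hinner⟩ :=
        Cfsg.Agent.S0854.result N (θ : N → ℂ) θ.2 T hmem hNT (χ : G → ℂ) χ.2 hθ
      let ψ : IrrCharacter T := ⟨ψ₀, hψ₀⟩
      have hψA : ψ ∈ A := by
        show Cfsg.classInner (fun n : N' => ψ₀ n) (θ' : N' → ℂ) ≠ 0
        rw [htr, hinner]; exact hθ
      refine ⟨ψ, hψA, hind, fun φ hφ hne => ?_⟩
      have hmψ : m χ ψ = 1 := by
        have h : (m χ ψ : ℂ) = ((1 : ℕ) : ℂ) := by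
          rw [← hmφ, ← Characters.classInner_indFun_right T ψ₀
            (Characters.isClassFunction_of_isIrr χ.2), hind,
            Characters.classInner_isIrr_self χ.2, Nat.cast_one]
        exact_mod_cast h
      have hsum : ∑ φ : IrrCharacter T, m χ φ * l φ = l ψ := by
        apply Nat.cast_injective (R := ℂ)
        rw [← hres, ← hl ψ, htr, show (ψ : T → ℂ) = ψ₀ from rfl, hinner]
      have h1 : m χ φ * l φ + m χ ψ * l ψ ≤ l ψ := by
        rw [← Finset.sum_pair hne (f := fun φ => m χ φ * l φ)]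
        exact (Finset.sum_le_sum_of_subset (Finset.subset_univ _)).trans hsum.le
      have h2 : m χ φ * l φ = 0 := by rw [hmψ, one_mul] at h1; omega
      exact (mul_eq_zero.1 h2).resolve_right (hlA φ hφ)
    obtain ⟨ψ, hψA, hind, honly⟩ := hcorr χ₀ hθ₀
    set b := Cfsg.blockOf M (ψ : T → ℂ)
    have hb : Cfsg.IsPBlock M b := isPBlock_blockOf ψ
    have hbA : b ⊆ A := fun φ hφ => hAu ψ hψA hφ
    have hbu : IsBlockUnion M b := isBlockUnion_of_isPBlock hb
    -- the separating element
    haveI : Fintype (G ⧸ T) := Fintype.ofFinite _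
    set z : Ctr (localRing M) T := setIdemO M b (memLocalRing_blockCoeff hbu) with hz
    have hval : ∀ χ : IrrCharacter G, (omegaO M χ (BlocksLocal.Inertia.trCtr z) : ℂ) = (T.index : ℂ) *
        (∑ φ : IrrCharacter T, if φ ∈ b then (m χ φ : ℂ) * (φ : T → ℂ) 1 else 0) /
          (χ : G → ℂ) 1 := by
      intro χ
      rw [coe_omegaO, BlocksLocal.Inertia.omega_trCtr]
      congr 2
      have h1 : ∀ φ : IrrCharacter T, (if φ ∈ b then (φ : T → ℂ) 1 else 0) =
          ∑ t : T, ((z : MonoidAlgebra (localRing M) T).coeff t : ℂ) * (φ : T → ℂ) t := fun φ => by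
        have h := omega_setIdemC b φ
        rw [← toC_setIdemO (M := M) b (memLocalRing_blockCoeff hbu), ← hz, omega_apply,
          div_eq_iff (Characters.irr_one_ne_zero φ.2)] at h
        rw [ite_mul, one_mul, zero_mul] at h
        rw [← h]
        exact Finset.sum_congr rfl fun t _ => by simp [toC]
      calc ∑ t : T, ((z : MonoidAlgebra (localRing M) T).coeff t : ℂ) * (χ : G → ℂ) t
          = ∑ φ : IrrCharacter T, (m χ φ : ℂ) *
              ∑ t : T, ((z : MonoidAlgebra (localRing M) T).coeff t : ℂ) * (φ : T → ℂ) t := by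
            simp only [Finset.mul_sum]
            rw [Finset.sum_comm]
            refine Finset.sum_congr rfl fun t _ => ?_
            rw [show (χ : G → ℂ) t = (∑ φ : IrrCharacter T, (m χ φ : ℂ) • (φ : T → ℂ)) t from
              congrFun (hm χ) t, Finset.sum_apply, Finset.mul_sum]
            exact Finset.sum_congr rfl fun φ _ => by
              simp only [Pi.smul_apply, smul_eq_mul]; ring
        _ = _ := Finset.sum_congr rfl fun φ _ => by rw [← h1, mul_ite, mul_zero]
    have hone : omegaO M χ₀ (BlocksLocal.Inertia.trCtr z) = 1 := by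
      refine Subtype.ext ?_
      have hmψ : (m χ₀ ψ : ℂ) = 1 := by
        rw [← hmφ, ← Characters.classInner_indFun_right T (ψ : T → ℂ)
          (Characters.isClassFunction_of_isIrr χ₀.2), hind,
          Characters.classInner_isIrr_self χ₀.2]
      rw [hval, Finset.sum_eq_single ψ]
      · have hχ1 : (χ₀ : G → ℂ) 1 = (T.index : ℂ) * (ψ : T → ℂ) 1 := by
          rw [← hind, Characters.indFun_one]
        rw [if_pos (mem_blockOf_self ψ), hmψ, one_mul, ← hχ1,
          div_self (Characters.irr_one_ne_zero χ₀.2)]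
        rfl
      · intro φ _ hne
        by_cases hφ : φ ∈ b
        · rw [if_pos hφ, honly φ (hbA hφ) hne, Nat.cast_zero, zero_mul]
        · rw [if_neg hφ]
      · simp
    -- every character of `B` has a constituent in `b`
    have hex : ∀ χ ∈ B, ∃ φ ∈ b, Cfsg.indFun T (φ : T → ℂ) = (χ : G → ℂ) := by
      intro χ hχ
      have hbar : omegaBar M χ₀ = omegaBar M χ :=
        (sameBlock_iff χ₀ χ).1 (by rw [← mem_blockOf, ← eq_blockOf_of_mem hB hχ₀]; exact hχ)
      have h1 := DFunLike.congr_fun hbar (redCtr M (BlocksLocal.Inertia.trCtr z))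
      rw [omegaBar_redCtr, omegaBar_redCtr, hone, map_one] at h1
      obtain ⟨φ, hφb, hφm⟩ : ∃ φ ∈ b, m χ φ ≠ 0 := by
        by_contra hno
        simp only [not_exists, not_and, not_not] at hno
        refine one_ne_zero (h1.trans ?_)
        have h0 : omegaO M χ (BlocksLocal.Inertia.trCtr z) = 0 := by
          refine Subtype.ext ?_
          rw [hval, Finset.sum_eq_zero fun φ _ => ?_, mul_zero, zero_div]
          · rfl
          · by_cases hφ : φ ∈ b
            · rw [if_pos hφ, hno φ hφ, Nat.cast_zero, zero_mul]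
            · rw [if_neg hφ]
        rw [h0, map_zero]
      have hθ : Cfsg.classInner (fun n : N => (χ : G → ℂ) n) (θ : N → ℂ) ≠ 0 := by
        rw [hres, Nat.cast_ne_zero]
        intro h
        exact mul_ne_zero hφm (hlA φ (hbA hφb))
          (Finset.sum_eq_zero_iff.1 h φ (Finset.mem_univ _))
      obtain ⟨ψ', -, hind', honly'⟩ := hcorr χ hθ
      refine ⟨φ, hφb, ?_⟩
      rw [show φ = ψ' from by_contra fun hne => hφm (honly' φ (hbA hφb) hne)]
      exact hind'
    -- the defect is the same
    obtain ⟨P, hP⟩ := exists_isDefectGroup (p := p) hB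
    obtain ⟨D, hD⟩ := exists_isDefectGroup (p := p) hb
    obtain ⟨x, hx⟩ := BlocksLocal.Inertia.exists_cj_eq_of_separated hM (ψ := ψ) hind hAu hψA
      (fun φ hφ hne => by rw [hmφ, honly φ hφ hne, Nat.cast_zero]) hB hχ₀ hP hD
    have hdef : Cfsg.blockDefect p B = Cfsg.blockDefect p b := by
      rw [blockDefect_eq hM hB hP, blockDefect_eq hM hb hD, ← card_cj x P, hx,
        Subgroup.card_map_of_injective T.subtype_injective]
    have hlt : Nat.card T < Nat.card G :=
      lt_of_le_of_ne (Subgroup.card_le_card_group T) fun h => hT (Subgroup.eq_top_of_card_eq T h)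
    have hih := ih (Nat.card T) (hc ▸ hlt) (G := T) hb (hdef ▸ hd) rfl
    rw [hdef]
    refine le_trans ?_ hih
    choose F hFb hFind using hex
    refine Set.ncard_le_ncard_of_injOn (fun χ => if h : χ ∈ B then F χ h else ψ) ?_ ?_ (Set.toFinite _)
    · intro χ hχ
      simp only [dif_pos hχ]
      exact hFb χ hχ
    · intro χ hχ χ' hχ' he
      simp only [dif_pos hχ, dif_pos hχ'] at he
      refine Subtype.ext ?_
      rw [← hFind χ hχ, he, hFind χ' hχ']

end Block

end CfsgLib.SolvKGV
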