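import Cfsg.Agent.SolvKGV.Main
import Cfsg.Agent.PLocal.PSolvable
import Cfsg.Agent.PLocal.Cores
import Cfsg.Agent.Solvable.Hall
import Cfsg.Agent.Solvable.Frattini
import Cfsg.Agent.S4207

/-!
# Class numbers of solvable groups with trivial `p'`-core

A finite solvable group with trivial `p'`-core and Sylow `p`-order `p ^ d`, `d > 0`, has at most
`3 ^ (d - 1) * p ^ d` classes.
-/

set_option autoImplicit false
set_option linter.unusedSectionVars false
set_option linter.style.haveILetI false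

namespace CfsgLib.SolvKGV

open scoped commutatorElement Pointwise

universe u

/-- The class number and the index of a subgroup. -/
theorem card_conjClasses_le_index_mul {G : Type*} [Group G] [Finite G] (U : Subgroup G) :
    Nat.card (ConjClasses G) * Nat.card U ≤ U.index * (Nat.card (ConjClasses U) * Nat.card U) := by
  letI : MulAction G PUnit.{1} :=
    { smul := fun _ _ => PUnit.unit, one_smul := fun _ => rfl, mul_smul := fun _ _ _ => rfl }
  have hQ : ∀ (W : Type _) [Group W] [MulAction W PUnit.{1}], Q W PUnit.{1} = P2 W := fun W _ _ =>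
    Nat.card_congr
      { toFun := fun x => ⟨(x.1.1, x.1.2.1), x.2.1⟩
        invFun := fun x => ⟨(x.1.1, x.1.2, PUnit.unit), x.2, rfl, rfl⟩
        left_inv := fun x => rfl
        right_inv := fun x => rfl }
  have h := Q_le_index_sq_mul (H := G) (Ω := PUnit.{1}) U
  rw [hQ, hQ, P2_eq, P2_eq] at h
  have hc : Nat.card G = U.index * Nat.card U := by rw [mul_comm, U.card_mul_index]
  rw [hc] at h
  refine Nat.le_of_mul_le_mul_left (c := U.index) ?_
    (Nat.pos_of_ne_zero Subgroup.index_ne_zero_of_finite)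
  calc _ = Nat.card (ConjClasses G) * (U.index * Nat.card U) := by ring
    _ ≤ _ := h
    _ = _ := by ring

/-- The classes of a group with a complemented normal Sylow subgroup. -/
theorem card_conjClasses_mul_le_Q {K : Type u} [Group K] [Finite K] [Group.IsSolvable K] {p : ℕ}
    [Fact p.Prime] {P H : Subgroup K} [P.Normal] (hP : IsPGroup p P)
    (hH : ¬ p ∣ Nat.card H) (hcard : Nat.card K = Nat.card H * Nat.card P)
    [MulAction H P] (hact : ∀ (h : H) (x : P), ((h • x : P) : K) = (h : K) * x * (h : K)⁻¹) :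
    Nat.card (ConjClasses K) * Nat.card H ≤ Q H P := by
  classical
  obtain ⟨f, hf⟩ := IsPGroup.iff_card.1 hP
  have hcop : (Nat.card H).Coprime (Nat.card P) := by
    rw [hf]
    exact Nat.Coprime.pow_right f ((Nat.Prime.coprime_iff_not_dvd Fact.out).2 hH).symm
  let X := {x : H × P // x.1 • x.2 = x.2}
  letI act : MulAction H X :=
    { smul := fun g x => ⟨(g * x.1.1 * g⁻¹, g • x.1.2), by
        rw [mul_smul, mul_smul, inv_smul_smul, x.2]⟩
      one_smul := fun x => Subtype.ext (Prod.ext (show (1 : H) * x.1.1 * (1 : H)⁻¹ = x.1.1 by group)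
        (one_smul H x.1.2))
      mul_smul := fun g h x => Subtype.ext (Prod.ext
        (show g * h * x.1.1 * (g * h)⁻¹ = g * (h * x.1.1 * h⁻¹) * g⁻¹ by group)
        (mul_smul g h x.1.2)) }
  have hB := card_orbits_mul_eq_Q (H := H) (Ω := P) (fun g x => ⟨rfl, rfl⟩)
  rw [← hB]
  refine Nat.mul_le_mul_right _ ?_
  refine Nat.card_le_card_of_surjective
    (Quotient.lift (fun x : X => ConjClasses.mk ((x.1.1 : K) * (x.1.2 : K))) ?_) ?_
  · rintro x y ⟨g, hg⟩
    rw [← hg, ConjClasses.mk_eq_mk_iff_isConj, isConj_iff]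
    refine ⟨((g : H) : K)⁻¹, ?_⟩
    show (g : K)⁻¹ * ((g * y.1.1 * g⁻¹ : H) * ((g • y.1.2 : P) : K)) * (g : K)⁻¹⁻¹ = _
    rw [hact, Subgroup.coe_mul, Subgroup.coe_mul, Subgroup.coe_inv]
    group
  intro c
  obtain ⟨y, rfl⟩ := ConjClasses.mk_surjective c
  -- the two parts of `y`
  set n := Nat.card H
  set q := Nat.card P with hq
  obtain ⟨a, b, hab⟩ := (Nat.isCoprime_iff_coprime.2 hcop : IsCoprime (n : ℤ) q)
  set s := y ^ (b * q) with hs
  set w := y ^ (a * n) with hw
  have hy : y = s * w := by rw [hs, hw, ← zpow_add, add_comm, hab, zpow_one]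
  have hyK : ∀ z : K, z ^ ((n : ℤ) * q) = 1 := fun z => by
    rw [show (n : ℤ) * q = ((Nat.card K : ℕ) : ℤ) by rw [hcard]; push_cast; rfl, zpow_natCast,
      pow_card_eq_one']
  have hsn : s ^ (n : ℤ) = 1 := by
    rw [hs, ← zpow_mul, show b * q * n = (n : ℤ) * q * b by ring, zpow_mul, hyK, one_zpow]
  have hwq : w ^ (q : ℤ) = 1 := by
    rw [hw, ← zpow_mul, show a * n * q = (n : ℤ) * q * a by ring, zpow_mul, hyK, one_zpow]
  have hmemP : ∀ z : K, z ^ (q : ℤ) = 1 → z ∈ P := fun z hz => by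
    have h1 : orderOf (z : K ⧸ P) ∣ q := orderOf_dvd_of_pow_eq_one (by
      rw [← QuotientGroup.mk_pow, ← zpow_natCast z, hz, QuotientGroup.mk_one])
    have h2 : orderOf (z : K ⧸ P) ∣ n := (orderOf_dvd_natCard _).trans (dvd_of_eq (by
      refine Nat.eq_of_mul_eq_mul_right (Nat.card_pos (α := P)) ?_
      rw [← Subgroup.card_eq_card_quotient_mul_card_subgroup, hcard]))
    rw [← QuotientGroup.eq_one_iff, ← orderOf_eq_one_iff]
    exact Nat.eq_one_of_dvd_coprimes hcop h2 h1
  obtain ⟨g, hg⟩ := Solvable.exists_conj_le_of_card_coprime (m := n) (n := q)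
    (H := H) (U := Subgroup.zpowers s) hcard hcop rfl (by
      rw [Nat.card_zpowers]
      refine Nat.Coprime.coprime_dvd_left (orderOf_dvd_of_pow_eq_one ?_) hcop
      rw [← zpow_natCast]; exact hsn)
  have hsH : g * s * g⁻¹ ∈ H := hg ⟨s, Subgroup.mem_zpowers s, rfl⟩
  have hwP : g * w * g⁻¹ ∈ P := Subgroup.Normal.conj_mem inferInstance _ (hmemP w hwq) g
  refine ⟨Quotient.mk _ ⟨(⟨_, hsH⟩, ⟨_, hwP⟩), Subtype.ext ?_⟩, ?_⟩
  · rw [hact]
    show g * s * g⁻¹ * (g * w * g⁻¹) * (g * s * g⁻¹)⁻¹ = g * w * g⁻¹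
    have hc : s * w = w * s := ((Commute.refl y).zpow_zpow _ _).eq
    calc g * s * g⁻¹ * (g * w * g⁻¹) * (g * s * g⁻¹)⁻¹ = g * (s * w) * s⁻¹ * g⁻¹ := by group
      _ = _ := by rw [hc]; group
  · show ConjClasses.mk _ = _
    rw [ConjClasses.mk_eq_mk_iff_isConj, isConj_iff]
    refine ⟨g⁻¹, ?_⟩
    show g⁻¹ * (g * s * g⁻¹ * (g * w * g⁻¹)) * g⁻¹⁻¹ = y
    calc g⁻¹ * (g * s * g⁻¹ * (g * w * g⁻¹)) * g⁻¹⁻¹ = s * w := by group
      _ = y := hy.symm

/-- The bound for a faithful coprime action on a `p`-group. -/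
theorem three_mul_Q_pgroup_le {H P : Type u} [Group H] [Finite H] [Group.IsSolvable H] [Group P]
    [Finite P] [Nontrivial P] [MulDistribMulAction H P] {p : ℕ} [Fact p.Prime] (hP : IsPGroup p P)
    (hH : ¬ p ∣ Nat.card H) (hf : ∀ h : H, (∀ x : P, h • x = x) → h = 1) {f : ℕ}
    (hcard : Nat.card P = p ^ f) : 3 * Q H P ≤ 3 ^ f * p ^ f * Nat.card H := by
  classical
  set Φ := frattini P with hΦ
  haveI : Φ.Normal := inferInstance
  letI : CommGroup (P ⧸ Φ) :=
    { (inferInstance : Group (P ⧸ Φ)) with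
      mul_comm := fun a b => by
        induction a using QuotientGroup.induction_on with | H a => ?_
        induction b using QuotientGroup.induction_on with | H b => ?_
        rw [← QuotientGroup.mk_mul, ← QuotientGroup.mk_mul, QuotientGroup.eq]
        refine Solvable.commutator_le_frattini hP ?_
        rw [show (a * b)⁻¹ * (b * a) = ⁅b⁻¹, a⁻¹⁆ by rw [commutatorElement_def]; group]
        exact Subgroup.commutator_mem_commutator (Subgroup.mem_top _) (Subgroup.mem_top _) }
  have hchar : ∀ (h : H) (x : P), x ∈ Φ → h • x ∈ Φ := fun h x hx => by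
    have hc : Φ.map (MulDistribMulAction.toMulEquiv P h).toMonoidHom = Φ :=
      Subgroup.characteristic_iff_map_eq.1 inferInstance _
    rw [← hc]
    exact ⟨x, hx, rfl⟩
  let act1 : H → (P ⧸ Φ →* P ⧸ Φ) := fun h =>
    QuotientGroup.map Φ Φ (MulDistribMulAction.toMonoidHom P h) fun x hx => hchar h x hx
  letI : DistribMulAction H (Additive (P ⧸ Φ)) :=
    { smul := fun g x => Additive.ofMul (act1 g x.toMul)
      one_smul := fun x => by
        obtain ⟨b, hb⟩ := QuotientGroup.mk_surjective x.toMul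
        show Additive.ofMul (act1 1 x.toMul) = x
        rw [← hb]
        show Additive.ofMul (((1 : H) • b : P) : P ⧸ Φ) = x
        rw [one_smul, hb, ofMul_toMul]
      mul_smul := fun g h x => by
        obtain ⟨b, hb⟩ := QuotientGroup.mk_surjective x.toMul
        show Additive.ofMul (act1 (g * h) x.toMul) = Additive.ofMul (act1 g (act1 h x.toMul))
        rw [← hb]
        show Additive.ofMul (((g * h) • b : P) : P ⧸ Φ) = Additive.ofMul ((g • h • b : P) : P ⧸ Φ)
        rw [mul_smul]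
      smul_zero := fun g => congrArg Additive.ofMul (map_one (act1 g))
      smul_add := fun g x y => congrArg Additive.ofMul (map_mul (act1 g) x.toMul y.toMul) }
  set V := Additive (P ⧸ Φ) with hV
  let π : P → V := fun x => Additive.ofMul (x : P ⧸ Φ)
  have hπ : ∀ (h : H) (x : P), π (h • x) = h • π x := fun h x => rfl
  obtain ⟨n, hn⟩ := IsPGroup.iff_card.1 (hP.to_quotient Φ)
  have hnV : Nat.card V = p ^ n := hn
  have hn0 : 0 < n := by
    by_contra h0
    have h1 : Nat.card (P ⧸ Φ) = 1 := by rw [hn, show n = 0 by omega, pow_zero]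
    rw [← Subgroup.index_eq_card, Subgroup.index_eq_one] at h1
    have hbot : (⊥ : Subgroup P) = ⊤ :=
      Solvable.eq_top_of_sup_frattini (by rw [bot_sup_eq]; exact h1)
    exact (bot_ne_top : (⊥ : Subgroup P) ≠ ⊤) hbot
  have hp0 : ∀ v : V, p • v = 0 := fun v => by
    obtain ⟨b, hb⟩ := QuotientGroup.mk_surjective v.toMul
    show Additive.ofMul (v.toMul ^ p) = Additive.ofMul 1
    rw [← hb, ← QuotientGroup.mk_pow, (QuotientGroup.eq_one_iff _).2
      (Solvable.pow_mem_frattini hP b)]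
  have hfaith : Faith H V := by
    intro h hh
    obtain ⟨r, hr⟩ := hP.index Φ
    obtain ⟨m, hm⟩ := IsPGroup.iff_card.1 hP
    let ρ : H →* MulAut P := MulDistribMulAction.toMulAut H P
    have hA : ∀ β ∈ Subgroup.zpowers (ρ h), ∀ x : P, β x * x⁻¹ ∈ Φ := by
      rintro β ⟨k, rfl⟩ x
      show (ρ h ^ k) x * x⁻¹ ∈ Φ
      rw [← map_zpow]
      have hk : ∀ v : V, h ^ k • v = v := fun v => by
        have hst : h ∈ MulAction.stabilizer H v := hh v
        exact zpow_mem hst k
      have h2 : ((((h ^ k) • x : P) : P ⧸ Φ)) = (x : P ⧸ Φ) := congrArg Additive.toMul (hk (π x))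
      show (h ^ k) • x * x⁻¹ ∈ Φ
      rw [← QuotientGroup.eq_one_iff, QuotientGroup.mk_mul, QuotientGroup.mk_inv, h2, mul_inv_cancel]
    have hdvd := Cfsg.Agent.S4207.result hm hr (Subgroup.zpowers (ρ h)) hA
    rw [Nat.card_zpowers] at hdvd
    have hco : (orderOf (ρ h)).Coprime p :=
      Nat.Coprime.coprime_dvd_left ((orderOf_map_dvd ρ h).trans (orderOf_dvd_natCard h))
        ((Nat.Prime.coprime_iff_not_dvd Fact.out).2 hH).symm
    have h1 : ρ h = 1 := orderOf_eq_one_iff.1
      (Nat.eq_one_of_dvd_coprimes (hco.pow_right _) dvd_rfl hdvd)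
    exact hf h fun x => DFunLike.congr_fun h1 x
  have hmain := three_mul_Q_le (Nat.card V) p n rfl (Fact.out : p.Prime) hnV hn0
    (semi_of_coprime hH hp0) hfaith
  have hfib : Q H P ≤ Q H V * Nat.card Φ := by
    rw [Q, Q, ← Nat.card_prod]
    refine Nat.card_le_card_of_injective
      (fun t : Triples H P => ((⟨(t.1.1, t.1.2.1, π t.1.2.2), t.2.1,
        (hπ _ _).symm.trans (congrArg π t.2.2.1),
        (hπ _ _).symm.trans (congrArg π t.2.2.2)⟩ : Triples H V),
        (⟨((t.1.2.2 : P ⧸ Φ).out)⁻¹ * t.1.2.2, QuotientGroup.eq.1 (QuotientGroup.out_eq' _)⟩ : Φ)))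
      ?_
    rintro ⟨⟨g, h, x⟩, ht⟩ ⟨⟨g', h', x'⟩, ht'⟩ e
    obtain ⟨e1, e2⟩ := Prod.mk.inj e
    obtain rfl : g = g' := congrArg (fun t : Triples H V => t.1.1) e1
    obtain rfl : h = h' := congrArg (fun t : Triples H V => t.1.2.1) e1
    have e4 : (x : P ⧸ Φ) = (x' : P ⧸ Φ) :=
      congrArg Additive.toMul (congrArg (fun t : Triples H V => t.1.2.2) e1)
    have e2 := congrArg Subtype.val e2
    dsimp only at e2
    rw [e4] at e2
    have e5 := mul_left_cancel e2
    subst e5
    rfl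
  have hsplit : p ^ f = p ^ n * Nat.card Φ := by
    rw [← hcard, ← hn, ← Subgroup.card_eq_card_quotient_mul_card_subgroup]
  have hnf : n ≤ f := (Nat.pow_le_pow_iff_right (Fact.out : p.Prime).one_lt).1
    (hsplit ▸ Nat.le_mul_of_pos_right _ Nat.card_pos)
  calc 3 * Q H P ≤ 3 * Q H V * Nat.card Φ := by rw [mul_assoc]; exact Nat.mul_le_mul_left 3 hfib
    _ ≤ (3 * p) ^ n * Nat.card H * Nat.card Φ := Nat.mul_le_mul_right _ hmain
    _ = 3 ^ n * (p ^ n * Nat.card Φ) * Nat.card H := by rw [mul_pow]; ring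
    _ ≤ _ := by
      rw [← hsplit]
      exact Nat.mul_le_mul_right _ (Nat.mul_le_mul_right _ (Nat.pow_le_pow_right (by norm_num) hnf))

/-- **The class number of a solvable group with trivial `p'`-core.** -/
theorem card_conjClasses_le {X : Type u} [Group X] [Finite X] [Group.IsSolvable X] {p : ℕ}
    [Fact p.Prime] (hcore : Cfsg.pPrimeCore p X = ⊥) {d : ℕ}
    (hd : (Nat.card X).factorization p = d) (hd0 : 0 < d) :
    Nat.card (ConjClasses X) ≤ 3 ^ (d - 1) * p ^ d := by
  classical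
  have hp : p.Prime := Fact.out
  set P := Cfsg.pCore p X with hPdef
  have hP : IsPGroup p P := PLocal.isPGroup_pCore p X
  obtain ⟨f, hf⟩ := IsPGroup.iff_card.1 hP
  have hCP := PLocal.centralizer_pCore_le (p := p) PLocal.isPSolvable_of_isSolvable hcore
  haveI hPn : P.Normal := by rw [hPdef]; infer_instance
  haveI : Nontrivial P := by
    rw [Subgroup.nontrivial_iff_ne_bot]
    intro e
    have hX : (⊤ : Subgroup X) = ⊥ := eq_bot_iff.2 fun x _ => by
      rw [← e]
      exact hCP (Subgroup.mem_centralizer_iff.2 fun y hy => by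
        rw [SetLike.mem_coe, ← hPdef, e, Subgroup.mem_bot] at hy
        rw [hy, mul_one, one_mul])
    rw [← Subgroup.card_top, hX, Subgroup.card_bot, Nat.factorization_one, Finsupp.zero_apply] at hd
    omega
  have hdvd : p ^ d ∣ Nat.card X := hd ▸ Nat.ordProj_dvd _ p
  set n' := Nat.card X / p ^ d with hn'
  have hXc : Nat.card X = n' * p ^ d := (Nat.div_mul_cancel hdvd).symm
  have hn'p : ¬ p ∣ n' := by
    rw [hn', ← hd]; exact Nat.not_dvd_ordCompl hp Nat.card_pos.ne'
  obtain ⟨H, hH⟩ := Solvable.exists_card_eq_of_coprime hXc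
    (Nat.Coprime.pow_right d ((Nat.Prime.coprime_iff_not_dvd hp).2 hn'p).symm)
  have hHp : ¬ p ∣ Nat.card H := hH ▸ hn'p
  set K := P ⊔ H
  have hdisj : Disjoint P H := by
    rw [disjoint_iff]
    refine Subgroup.inf_eq_bot_of_coprime ?_
    rw [hf]
    exact Nat.Coprime.pow_left f ((Nat.Prime.coprime_iff_not_dvd hp).2 hHp)
  have hKc : Nat.card K = Nat.card H * Nat.card P := by
    have h : Nat.card ((P : Set X) * (H : Set X) : Set X) = Nat.card P * Nat.card H := by
      rw [← Nat.card_prod]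
      refine (Nat.card_eq_of_bijective
        (fun x : P × H => (⟨(x.1 : X) * x.2, Set.mul_mem_mul x.1.2 x.2.2⟩ :
          ((P : Set X) * (H : Set X) : Set X))) ⟨fun x y e => ?_, ?_⟩).symm
      · exact Subgroup.mul_injective_of_disjoint hdisj (congrArg Subtype.val e)
      · rintro ⟨_, a, ha, b, hb, rfl⟩
        exact ⟨(⟨a, ha⟩, ⟨b, hb⟩), rfl⟩
    rw [mul_comm, ← h]
    exact Nat.card_congr (Equiv.setCongr (Subgroup.normal_mul P H))
  set P' := P.subgroupOf K
  set H' := H.subgroupOf K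
  let eP := Subgroup.subgroupOfEquivOfLe (le_sup_left : P ≤ K)
  let eH := Subgroup.subgroupOfEquivOfLe (le_sup_right : H ≤ K)
  haveI : P'.Normal := hPn.subgroupOf K
  letI : MulDistribMulAction H' P' :=
    MulDistribMulAction.compHom P' ((MulAut.conjNormal (H := P')).comp H'.subtype)
  have hH' : ¬ p ∣ Nat.card H' := by rwa [Nat.card_congr eH.toEquiv]
  have hP' : IsPGroup p P' := IsPGroup.of_equiv hP eP.symm
  haveI : Nontrivial P' := eP.toEquiv.nontrivial
  have hact : ∀ (h : H') (x : P'), ((h • x : P') : K) = (h : K) * x * (h : K)⁻¹ := fun h x =>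
    MulAut.conjNormal_apply _ _
  have hfaith : ∀ h : H', (∀ x : P', h • x = x) → h = 1 := by
    intro h hh
    have hc : ((h : K) : X) ∈ Subgroup.centralizer (P : Set X) :=
      Subgroup.mem_centralizer_iff.2 fun y hy => by
        have e : (((h • eP.symm ⟨y, hy⟩ : P') : K) : X) = y := by rw [hh]; rfl
        rw [hact] at e
        exact (mul_inv_eq_iff_eq_mul.1 e).symm
    have h1 : ((h : K) : X) ∈ P ⊓ H := ⟨hCP hc, h.2⟩
    rw [disjoint_iff.1 hdisj, Subgroup.mem_bot] at h1
    exact Subtype.ext (Subtype.ext h1)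
  have h1 := card_conjClasses_mul_le_Q (P := P') (H := H') hP' hH'
    (by rw [Nat.card_congr eP.toEquiv, Nat.card_congr eH.toEquiv, hKc]) hact
  have h2 := three_mul_Q_pgroup_le (H := H') (P := P') hP' hH' hfaith (f := f)
    (by rw [Nat.card_congr eP.toEquiv, hf])
  have hkK : 3 * Nat.card (ConjClasses K) ≤ 3 ^ f * p ^ f := by
    refine Nat.le_of_mul_le_mul_right (c := Nat.card H') ?_ Nat.card_pos
    calc 3 * Nat.card (ConjClasses K) * Nat.card H' ≤ 3 * Q H' P' := by
          rw [mul_assoc]; exact Nat.mul_le_mul_left 3 h1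
      _ ≤ _ := h2
  have hfd : f ≤ d := by
    rw [← hd]
    refine (hp.pow_dvd_iff_le_factorization Nat.card_pos.ne').1 ?_
    rw [← hf]
    exact Subgroup.card_subgroup_dvd_card P
  have hidx : K.index = p ^ (d - f) := by
    have h := K.card_mul_index
    rw [hKc, hH, hf, hXc, mul_assoc] at h
    have h' := Nat.eq_of_mul_eq_mul_left (Nat.pos_of_ne_zero fun e => hn'p (by rw [e]; exact dvd_zero p)) h
    rw [show d = f + (d - f) by omega, pow_add] at h'
    exact Nat.eq_of_mul_eq_mul_left (pow_pos hp.pos _) h'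
  have hk := card_conjClasses_le_index_mul K
  rw [← mul_assoc] at hk
  have hk' := Nat.le_of_mul_le_mul_right hk Nat.card_pos
  refine Nat.le_of_mul_le_mul_left (c := 3) ?_ (by norm_num)
  calc 3 * Nat.card (ConjClasses X) ≤ 3 * (K.index * Nat.card (ConjClasses K)) :=
        Nat.mul_le_mul_left 3 hk'
    _ = K.index * (3 * Nat.card (ConjClasses K)) := by ring
    _ ≤ p ^ (d - f) * (3 ^ f * p ^ f) := hidx ▸ Nat.mul_le_mul_left _ hkK
    _ = 3 ^ f * (p ^ (d - f) * p ^ f) := by ring
    _ ≤ 3 ^ d * p ^ d := by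
        rw [← pow_add, Nat.sub_add_cancel hfd]
        exact Nat.mul_le_mul_right _ (Nat.pow_le_pow_right (by norm_num) hfd)
    _ = 3 * (3 ^ (d - 1) * p ^ d) := by
        rw [← mul_assoc, ← pow_succ', Nat.sub_add_cancel hd0]

end CfsgLib.SolvKGV
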