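import Cfsg.Agent.SolvKGV.Affine
import Cfsg.Agent.Solvable.Basic

/-!
# Lower bounds for class numbers

Elementary lower bounds for the number of commuting pairs and of classes.
-/

set_option autoImplicit false
set_option linter.unusedSectionVars false
set_option linter.style.haveILetI false

namespace CfsgLib.SolvKGV

universe u

/-- Commuting pairs of a subgroup. -/
theorem P2_le_of_injective {N G : Type*} [Group N] [Group G] [Finite G] (f : N →* G)
    (hf : Function.Injective f) : P2 N ≤ P2 G :=
  Nat.card_le_card_of_injective (fun x => ⟨(f x.1.1, f x.1.2), by rw [← map_mul, x.2, map_mul]⟩)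
    fun _ _ e => Subtype.ext (Prod.ext (hf (congrArg Prod.fst (congrArg Subtype.val e) :))
      (hf (congrArg Prod.snd (congrArg Subtype.val e) :)))

/-- The commuting probability does not increase when passing to an overgroup. -/
theorem P2_mul_sq_le {N G : Type*} [Group N] [Group G] [Finite G] [Finite N] (f : N →* G)
    (hf : Function.Injective f) : P2 G * Nat.card N ^ 2 ≤ P2 N * Nat.card G ^ 2 := by
  set U := f.range
  have hU : Nat.card N = Nat.card U :=
    Nat.card_congr (MonoidHom.ofInjective hf).toEquiv
  rw [P2_congr (MonoidHom.ofInjective hf : N ≃* U), hU, P2_eq, P2_eq, ← U.card_mul_index]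
  calc Nat.card (ConjClasses G) * (Nat.card U * U.index) * Nat.card U ^ 2
      = Nat.card (ConjClasses G) * Nat.card U * (U.index * Nat.card U ^ 2) := by ring
    _ ≤ U.index * (Nat.card (ConjClasses U) * Nat.card U) * (U.index * Nat.card U ^ 2) :=
        Nat.mul_le_mul_right _ (card_conjClasses_le_index_mul U)
    _ = _ := by ring

/-- Commuting pairs in a product. -/
theorem P2_pi {ι : Type*} [Fintype ι] (E : ι → Type*) [∀ i, Group (E i)] :
    P2 (∀ i, E i) = ∏ i, P2 (E i) := by
  rw [P2]
  simp only [P2]
  rw [← Nat.card_pi]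
  exact Nat.card_congr
    { toFun := fun x i => ⟨(x.1.1 i, x.1.2 i), congrFun x.2 i⟩
      invFun := fun y => ⟨(fun i => (y i).1.1, fun i => (y i).1.2), funext fun i => (y i).2⟩
      left_inv := fun x => rfl
      right_inv := fun y => rfl }

variable {G : Type u} [Group G] [Finite G] (N : Subgroup G) [N.Normal]

/-- The classes inside a normal subgroup. -/
abbrev ClassesIn : Type u :=
  {c : ConjClasses G // ConjClasses.map (QuotientGroup.mk' N) c = ConjClasses.mk 1}

theorem classesIn_rep (c : ClassesIn N) : ∃ n : N, ConjClasses.mk (n : G) = c.1 := by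
  obtain ⟨x, hx⟩ := ConjClasses.exists_rep c.1
  have h := c.2
  rw [← hx] at h
  have h' : IsConj ((x : G ⧸ N)) 1 := ConjClasses.mk_eq_mk_iff_isConj.1 h
  rw [isConj_one_left, QuotientGroup.eq_one_iff] at h'
  exact ⟨⟨x, h'⟩, hx⟩

/-- The class of an element of a normal subgroup. -/
def classIn (n : N) : ClassesIn N :=
  ⟨ConjClasses.mk (n : G), congrArg ConjClasses.mk ((QuotientGroup.eq_one_iff (n : G)).2 n.2)⟩

/-- The classes outside and inside a normal subgroup. -/
theorem quot_add_classesIn_le :
    Nat.card (ConjClasses (G ⧸ N)) + Nat.card (ClassesIn N) ≤ Nat.card (ConjClasses G) + 1 := by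
  classical
  haveI := Fintype.ofFinite (ConjClasses (G ⧸ N))
  choose s hs using ConjClasses.map_surjective (f := QuotientGroup.mk' N)
    (QuotientGroup.mk'_surjective N)
  let X := {c : ConjClasses (G ⧸ N) // c ≠ ConjClasses.mk 1}
  have h : Nat.card (X ⊕ ClassesIn N) ≤ Nat.card (ConjClasses G) := by
    refine Nat.card_le_card_of_injective (Sum.elim (fun c => s c.1) fun c => c.1) ?_
    refine Function.Injective.sumElim (fun a b e => ?_) Subtype.val_injective fun a b e => ?_
    · exact Subtype.ext (((hs a.1).symm.trans (congrArg _ e)).trans (hs b.1))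
    · exact a.2 ((hs a.1).symm.trans ((congrArg _ e).trans b.2))
  have hX : Nat.card X + 1 = Nat.card (ConjClasses (G ⧸ N)) := by
    rw [Nat.card_eq_fintype_card, Nat.card_eq_fintype_card, Fintype.card_subtype_compl,
      Fintype.card_subtype_eq]
    exact Nat.sub_add_cancel Fintype.card_pos
  rw [Nat.card_sum] at h
  omega

/-- The classes of non-identity elements of an abelian normal subgroup are small. -/
theorem card_le_classesIn (hab : ∀ a ∈ N, ∀ b ∈ N, a * b = b * a) :
    Nat.card N ≤ 1 + (Nat.card (ClassesIn N) - 1) * N.index := by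
  classical
  haveI := Fintype.ofFinite (ClassesIn N)
  rw [← Nat.card_congr (Equiv.sigmaFiberEquiv (classIn N)), Nat.card_sigma]
  set c₀ := classIn N 1 with hc₀
  rw [← Finset.add_sum_erase _ _ (Finset.mem_univ c₀)]
  refine Nat.add_le_add ?_ ((Finset.sum_le_card_nsmul _ _ N.index fun c _ => ?_).trans
    (le_of_eq ?_))
  · rw [Finite.card_le_one_iff_subsingleton, subsingleton_iff]
    have key : ∀ x : {n : N // classIn N n = c₀}, (x.1 : N) = 1 := fun x => by
      have h : IsConj ((x.1 : N) : G) 1 :=
        ConjClasses.mk_eq_mk_iff_isConj.1 (congrArg Subtype.val x.2)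
      exact Subtype.ext (isConj_one_left.1 h)
    exact fun x y => Subtype.ext ((key x).trans (key y).symm)
  · obtain ⟨n, hn⟩ := classesIn_rep N c
    rw [Subgroup.index_eq_card]
    have hg : ∀ x : {m : N // classIn N m = c}, ∃ g : G, g * (n : G) * g⁻¹ = ((x.1 : N) : G) :=
      fun x => isConj_iff.1 (ConjClasses.mk_eq_mk_iff_isConj.1
        (hn.trans (congrArg Subtype.val x.2).symm))
    choose g hg using hg
    refine Nat.card_le_card_of_injective (fun x => (g x : G ⧸ N)) fun x y e => ?_
    obtain ⟨u, hu, hgu⟩ : ∃ u ∈ N, g y = g x * u :=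
      ⟨(g x)⁻¹ * g y, QuotientGroup.eq.1 e, by group⟩
    refine Subtype.ext (Subtype.ext ?_)
    rw [← hg x, ← hg y, hgu]
    calc g x * (n : G) * (g x)⁻¹ = g x * ((n : G) * u * u⁻¹) * (g x)⁻¹ := by group
      _ = g x * (u * (n : G) * u⁻¹) * (g x)⁻¹ := by rw [hab _ n.2 _ hu]
      _ = _ := by group
  · rw [Finset.card_erase_of_mem (Finset.mem_univ _), Finset.card_univ, smul_eq_mul,
      Nat.card_eq_fintype_card]

/-- A central subgroup contributes its order. -/
theorem card_le_classesIn_of_central (hc : ∀ a ∈ N, ∀ g : G, g * a = a * g) :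
    Nat.card N ≤ Nat.card (ClassesIn N) := by
  refine Nat.card_le_card_of_injective (classIn N) fun a b e => ?_
  obtain ⟨g, hg⟩ := isConj_iff.1 (ConjClasses.mk_eq_mk_iff_isConj.1 (congrArg Subtype.val e))
  rw [hc a a.2 g, mul_inv_cancel_right] at hg
  exact Subtype.ext hg

/-- Few classes force a small solvable group. -/
theorem card_le_of_classes : ∀ (n : ℕ) (G : Type u) [Group G] [Finite G] [Group.IsSolvable G],
    Nat.card G = n → (Nat.card (ConjClasses G) ≤ 1 → n ≤ 1) ∧
      (Nat.card (ConjClasses G) ≤ 2 → n ≤ 2) ∧ (Nat.card (ConjClasses G) ≤ 3 → n ≤ 6) ∧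
      (Nat.card (ConjClasses G) ≤ 4 → n ≤ 42) := by
  intro n
  induction n using Nat.strong_induction_on with
  | _ n ih =>
    intro G _ _ _ hn
    rcases subsingleton_or_nontrivial G with hG | hG
    · have : n = 1 := hn ▸ Nat.card_of_subsingleton (1 : G)
      omega
    obtain ⟨N, hN, hne, hmin⟩ := Solvable.exists_minimal_normal (G := G)
    haveI := hN
    have hab := Solvable.mul_comm_of_minimal_normal hne hmin
    have h1 := quot_add_classesIn_le N
    have h2 := card_le_classesIn N hab
    have hq : n = Nat.card (G ⧸ N) * Nat.card N :=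
      hn ▸ Subgroup.card_eq_card_quotient_mul_card_subgroup N
    have hN2 : 2 ≤ Nat.card N := by
      rw [Nat.succ_le_iff, Finite.one_lt_card_iff_nontrivial, Subgroup.nontrivial_iff_ne_bot]
      exact hne
    rw [Subgroup.index_eq_card] at h2
    have hlt : Nat.card (G ⧸ N) < n := by
      rw [hq]; exact lt_mul_of_one_lt_right Nat.card_pos hN2
    obtain ⟨i1, i2, i3, -⟩ := ih _ hlt (G ⧸ N) rfl
    have hj : 1 ≤ Nat.card (ConjClasses (G ⧸ N)) := Nat.card_pos
    generalize Nat.card (ConjClasses G) = k at h1 ⊢
    generalize Nat.card (ConjClasses (G ⧸ N)) = j at i1 i2 i3 h1 hj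
    generalize Nat.card (ClassesIn N) = m at h1 h2
    generalize Nat.card (G ⧸ N) = q at i1 i2 i3 h2 hq
    generalize Nat.card N = a at h2 hq hN2
    have hm : 2 ≤ m := by
      by_contra hm
      rw [show m - 1 = 0 by omega, zero_mul] at h2
      omega
    refine ⟨fun hk => by omega, fun hk => ?_, fun hk => ?_, fun hk => ?_⟩
    · have := i1 (by omega)
      interval_cases q <;> omega
    · have := i2 (by omega)
      interval_cases q <;> omega
    · have := i3 (by omega)
      rcases (by omega : j ≤ 2 ∨ j = 3) with h | h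
      · have := i2 h
        interval_cases q <;> omega
      · have hm2 : m = 2 := by omega
        subst hm2
        interval_cases q <;> omega

end CfsgLib.SolvKGV
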