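import Mathlib.GroupTheory.GroupAction.Quotient
import Mathlib.GroupTheory.CommutingProbability
import Mathlib.GroupTheory.SpecificGroups.Cyclic
import Mathlib.GroupTheory.Index

/-!
# Counting commuting pairs with a common fixed point

For a finite group `H` acting on a finite set `Ω` the number `Q H Ω` of triples `(g, h, v)` with
`g`, `h` commuting and both fixing `v` is `|H|` times the sum of the class numbers of the
stabilisers of representatives of the orbits.
-/

set_option autoImplicit false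
set_option linter.unusedSectionVars false
set_option linter.style.haveILetI false

namespace CfsgLib.SolvKGV

open MulAction

/-- The triples of two commuting elements and a common fixed point. -/
def Triples (H Ω : Type*) [Group H] [MulAction H Ω] : Set (H × H × Ω) :=
  {x | x.1 * x.2.1 = x.2.1 * x.1 ∧ x.1 • x.2.2 = x.2.2 ∧ x.2.1 • x.2.2 = x.2.2}

/-- The number of triples of two commuting elements and a common fixed point. -/
noncomputable def Q (H Ω : Type*) [Group H] [MulAction H Ω] : ℕ :=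
  Nat.card (Triples H Ω)

/-- The number of commuting pairs. -/
noncomputable def P2 (H : Type*) [Group H] : ℕ :=
  Nat.card {x : H × H // x.1 * x.2 = x.2 * x.1}

theorem P2_eq (H : Type*) [Group H] : P2 H = Nat.card (ConjClasses H) * Nat.card H :=
  card_comm_eq_card_conjClasses_mul_card H

variable {H : Type*} [Group H] [Finite H]

section steps

variable {H' : Type*} [Group H'] (f : H →* H') (S : Subgroup H)

/-- Moving one element of a commuting pair from a fibre of `f` into the kernel. -/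
theorem card_pairs_fibre_le (X : Set H) (b : H') :
    Nat.card {x : H × H // x.1 ∈ X ∧ x.1 ∈ S ∧ x.2 ∈ S ∧ f x.2 = b ∧ x.1 * x.2 = x.2 * x.1} ≤
      Nat.card {x : H × H // x.1 ∈ X ∧ x.1 ∈ S ∧ x.2 ∈ S ∧ f x.2 = 1 ∧
        x.1 * x.2 = x.2 * x.1} := by
  classical
  let c : H → H := fun g =>
    if h : ∃ h, h ∈ S ∧ f h = b ∧ g * h = h * g then h.choose else 1
  have hc : ∀ g h, h ∈ S → f h = b → g * h = h * g →
      c g ∈ S ∧ f (c g) = b ∧ g * c g = c g * g := fun g h h1 h2 h3 => by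
    have he : ∃ h, h ∈ S ∧ f h = b ∧ g * h = h * g := ⟨h, h1, h2, h3⟩
    simp only [c, dif_pos he]
    exact he.choose_spec
  refine Nat.card_le_card_of_injective (fun x => ⟨(x.1.1, (c x.1.1)⁻¹ * x.1.2), ?_⟩) ?_
  · obtain ⟨⟨g, h⟩, hX, hg, hh, hb, hcomm⟩ := x
    obtain ⟨h1, h2, h3⟩ := hc g h hh hb hcomm
    refine ⟨hX, hg, S.mul_mem (S.inv_mem h1) hh, ?_, ?_⟩
    · rw [map_mul, map_inv, h2, hb, inv_mul_cancel]
    · exact ((Commute.inv_right h3).mul_right hcomm).eq
  · rintro ⟨⟨g, h⟩, _⟩ ⟨⟨g', h'⟩, _⟩ e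
    simp only [Subtype.mk.injEq, Prod.mk.injEq] at e ⊢
    obtain ⟨rfl, e⟩ := e
    exact ⟨rfl, mul_left_cancel e⟩

/-- Commuting pairs in two given fibres of `f` are at most as many as those in the kernel. -/
theorem card_pairs_fibres_le (a b : H') :
    Nat.card {x : H × H // x.1 ∈ S ∧ x.2 ∈ S ∧ f x.1 = a ∧ f x.2 = b ∧
        x.1 * x.2 = x.2 * x.1} ≤
      P2 (↥(S ⊓ f.ker)) := by
  refine le_trans (le_of_eq (Nat.card_congr ?_))
    (le_trans (card_pairs_fibre_le f S {g | f g = a} b)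
      (le_trans (le_of_eq (Nat.card_congr ?_))
        (le_trans (card_pairs_fibre_le f S {g | f g = 1} a) (le_of_eq (Nat.card_congr ?_)))))
  · exact Equiv.subtypeEquivRight fun x => by simp only [Set.mem_ofPred_eq]; tauto
  · exact (Equiv.prodComm H H).subtypeEquiv fun x => by
      simp only [Set.mem_ofPred_eq, Equiv.prodComm_apply, Prod.fst_swap, Prod.snd_swap]
      constructor
      · rintro ⟨h1, h2, h3, h4, h5⟩; exact ⟨h4, h3, h2, h1, h5.symm⟩
      · rintro ⟨h1, h2, h3, h4, h5⟩; exact ⟨h4, h3, h2, h1, h5.symm⟩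
  · exact
    { toFun := fun x => ⟨(⟨x.1.1, x.2.2.1, x.2.1⟩, ⟨x.1.2, x.2.2.2.1, x.2.2.2.2.1⟩),
        Subtype.ext x.2.2.2.2.2⟩
      invFun := fun x => ⟨(x.1.1, x.1.2), ⟨x.1.1.2.2, x.1.1.2.1, x.1.2.2.1, x.1.2.2.2,
        congrArg Subtype.val x.2⟩⟩
      left_inv := fun x => rfl
      right_inv := fun x => rfl }

end steps

/-- Commuting pairs split along a homomorphism. -/
theorem P2_le_mul {H' : Type*} [Group H'] [Finite H'] (f : H →* H') :
    P2 H ≤ P2 H' * P2 f.ker := by
  classical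
  let F : {x : H × H // x.1 * x.2 = x.2 * x.1} → {x : H' × H' // x.1 * x.2 = x.2 * x.1} :=
    fun x => ⟨(f x.1.1, f x.1.2), by rw [← map_mul, ← map_mul, x.2]⟩
  haveI := Fintype.ofFinite {x : H' × H' // x.1 * x.2 = x.2 * x.1}
  rw [P2, ← Nat.card_congr (Equiv.sigmaFiberEquiv F), Nat.card_sigma, P2, P2,
    Nat.card_eq_fintype_card (α := {x : H' × H' // x.1 * x.2 = x.2 * x.1}), ← Finset.card_univ]
  refine (Finset.sum_le_card_nsmul _ _ _ fun y _ => ?_).trans (smul_eq_mul _ _).le
  have h := card_pairs_fibres_le f ⊤ y.1.1 y.1.2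
  rw [top_inf_eq] at h
  refine le_trans ?_ h
  refine Nat.card_le_card_of_injective (fun x => ⟨x.1.1, Subgroup.mem_top _, Subgroup.mem_top _,
    congrArg (fun z => z.1.1) x.2, congrArg (fun z => z.1.2) x.2, x.1.2⟩) ?_
  intro x x' e
  exact Subtype.ext (Subtype.ext (congrArg (fun z => z.1) e :))

/-- The class number splits along a surjective homomorphism. -/
theorem card_conjClasses_le_mul {H' : Type*} [Group H'] [Finite H'] {f : H →* H'}
    (hf : Function.Surjective f) :
    Nat.card (ConjClasses H) ≤ Nat.card (ConjClasses H') * Nat.card (ConjClasses f.ker) := by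
  have h := P2_le_mul f
  have hcard : Nat.card H = Nat.card H' * Nat.card f.ker := by
    rw [Subgroup.card_eq_card_quotient_mul_card_subgroup f.ker,
      Nat.card_congr (QuotientGroup.quotientKerEquivOfSurjective f hf).toEquiv]
  rw [P2_eq, P2_eq, P2_eq, hcard] at h
  refine Nat.le_of_mul_le_mul_right (c := Nat.card H' * Nat.card f.ker) ?_
    (Nat.mul_pos Nat.card_pos Nat.card_pos)
  calc _ ≤ _ := h
    _ = _ := by ring

/-- Twice the class number is at most the order plus the order of the centre. -/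
theorem two_mul_card_conjClasses_le :
    2 * Nat.card (ConjClasses H) ≤ Nat.card H + Nat.card (Subgroup.center H) := by
  classical
  haveI := Fintype.ofFinite H
  haveI := Fintype.ofFinite (ConjClasses H)
  have hle : ∀ g : H, (Finset.univ.filter fun h : H => g * h = h * g).card * 2 ≤
      Fintype.card H + if g ∈ Subgroup.center H then Fintype.card H else 0 := by
    intro g
    by_cases hg : g ∈ Subgroup.center H
    · rw [if_pos hg]
      have := (Finset.univ.filter fun h : H => g * h = h * g).card_le_univ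
      omega
    · rw [if_neg hg, add_zero]
      set C := Subgroup.centralizer ({g} : Set H)
      have hC : C ≠ ⊤ := fun e => hg (Subgroup.mem_center_iff.2 fun h =>
        Subgroup.mem_centralizer_singleton_iff.1 (show h ∈ C by rw [e]; exact Subgroup.mem_top h))
      have h2 : 2 ≤ C.index := by
        have h0 : C.index ≠ 0 := Subgroup.index_ne_zero_of_finite
        have h1 : C.index ≠ 1 := fun e => hC (Subgroup.index_eq_one.1 e)
        omega
      have hc : (Finset.univ.filter fun h : H => g * h = h * g).card = Nat.card C := by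
        rw [← Fintype.card_subtype, ← Nat.card_eq_fintype_card]
        refine Nat.card_congr (Equiv.subtypeEquivRight fun h => ?_)
        rw [Subgroup.mem_centralizer_singleton_iff]
        exact ⟨Eq.symm, Eq.symm⟩
      rw [hc]
      calc Nat.card C * 2 ≤ Nat.card C * C.index := Nat.mul_le_mul_left _ h2
        _ = _ := by rw [C.card_mul_index, Nat.card_eq_fintype_card]
  have hsum : P2 H = ∑ g : H, (Finset.univ.filter fun h : H => g * h = h * g).card := by
    rw [P2, Nat.card_congr (Equiv.subtypeProdEquivSigmaSubtype fun g h : H => g * h = h * g),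
      Nat.card_sigma]
    exact Finset.sum_congr rfl fun g _ => by rw [Nat.card_eq_fintype_card, Fintype.card_subtype]
  have h := Finset.sum_le_sum (s := Finset.univ) fun g (_ : g ∈ (Finset.univ : Finset H)) => hle g
  rw [← Finset.sum_mul, ← hsum, Finset.sum_add_distrib, Finset.sum_const, Finset.card_univ,
    ← Finset.sum_filter, Finset.sum_const, P2_eq, smul_eq_mul, smul_eq_mul] at h
  have hZ : (Finset.univ.filter fun g : H => g ∈ Subgroup.center H).card =
      Nat.card (Subgroup.center H) := by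
    rw [← Fintype.card_subtype, ← Nat.card_eq_fintype_card]
  rw [hZ] at h
  simp only [Nat.card_eq_fintype_card (α := H)] at h ⊢
  refine Nat.le_of_mul_le_mul_right (c := Fintype.card H) ?_ Fintype.card_pos
  calc _ = Nat.card (ConjClasses H) * Fintype.card H * 2 := by ring
    _ ≤ _ := h
    _ = _ := by ring

variable {Ω : Type*} [MulAction H Ω] [Finite Ω]

theorem Q_eq_sum [Fintype Ω] : Q H Ω = ∑ v : Ω, P2 (stabilizer H v) := by
  let e : Triples H Ω ≃ Σ v : Ω, {x : stabilizer H v × stabilizer H v // x.1 * x.2 = x.2 * x.1} :=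
    { toFun := fun x =>
        ⟨x.1.2.2, ⟨(⟨x.1.1, x.2.2.1⟩, ⟨x.1.2.1, x.2.2.2⟩), Subtype.ext x.2.1⟩⟩
      invFun := fun y => ⟨(y.2.1.1, y.2.1.2, y.1),
        congrArg Subtype.val y.2.2, y.2.1.1.2, y.2.1.2.2⟩
      left_inv := fun x => rfl
      right_inv := fun y => rfl }
  rw [Q, Nat.card_congr e, Nat.card_sigma]
  rfl

/-- Splitting the triples along a homomorphism and a product decomposition of the point set. -/
theorem Q_le_mul {H' Ω₁ Ω₂ : Type*} [Group H'] [Finite H'] [MulAction H' Ω₁] [Finite Ω₁]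
    (f : H →* H') [MulAction H Ω₂] [Finite Ω₂] (i : Ω → Ω₁) (j : Ω → Ω₂)
    (hij : Function.Injective fun v => (i v, j v))
    (hi : ∀ (h : H) v, i (h • v) = f h • i v) (hj : ∀ (h : H) v, j (h • v) = h • j v) :
    Q H Ω ≤ Q H' Ω₁ * Q f.ker Ω₂ := by
  classical
  let F : Triples H Ω → Triples H' Ω₁ := fun x =>
    ⟨(f x.1.1, f x.1.2.1, i x.1.2.2), by
      show f x.1.1 * f x.1.2.1 = f x.1.2.1 * f x.1.1
      rw [← map_mul, ← map_mul, x.2.1],
      (hi _ _).symm.trans (congrArg i x.2.2.1), (hi _ _).symm.trans (congrArg i x.2.2.2)⟩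
  haveI := Fintype.ofFinite (Triples H' Ω₁)
  haveI := Fintype.ofFinite Ω₂
  rw [Q, ← Nat.card_congr (Equiv.sigmaFiberEquiv F), Nat.card_sigma, Q,
    Nat.card_eq_fintype_card (α := Triples H' Ω₁), ← Finset.card_univ]
  refine (Finset.sum_le_card_nsmul _ _ _ fun y _ => ?_).trans (smul_eq_mul _ _).le
  obtain ⟨⟨a, b, w⟩, hy⟩ := y
  -- the pairs over `(a, b)` fixing a given point of `Ω₂`
  let Fib : Ω₂ → Type _ := fun u => {x : H × H // x.1 ∈ stabilizer H u ∧ x.2 ∈ stabilizer H u ∧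
    f x.1 = a ∧ f x.2 = b ∧ x.1 * x.2 = x.2 * x.1}
  have h1 : ∀ u : Ω₂, Nat.card (Fib u) ≤ P2 (stabilizer f.ker u) := fun u => by
    refine (card_pairs_fibres_le f (stabilizer H u) a b).trans (le_of_eq (Nat.card_congr ?_))
    exact
    { toFun := fun x => ⟨(⟨⟨x.1.1, x.1.1.2.2⟩, x.1.1.2.1⟩, ⟨⟨x.1.2, x.1.2.2.2⟩, x.1.2.2.1⟩),
        Subtype.ext (Subtype.ext
          (congrArg (fun z : ↥(stabilizer H u ⊓ f.ker) => (z : H)) x.2))⟩
      invFun := fun x => ⟨(⟨x.1.1.1.1, x.1.1.2, x.1.1.1.2⟩, ⟨x.1.2.1.1, x.1.2.2, x.1.2.1.2⟩),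
        Subtype.ext (congrArg (fun z : stabilizer f.ker u => (z : f.ker).1) x.2)⟩
      left_inv := fun x => rfl
      right_inv := fun x => rfl }
  refine le_trans ?_ (le_trans (Finset.sum_le_sum fun u _ => h1 u) (le_of_eq Q_eq_sum.symm))
  rw [← Nat.card_sigma]
  refine Nat.card_le_card_of_injective (fun x => ⟨j x.1.1.2.2, ⟨(x.1.1.1, x.1.1.2.1),
    (hj _ _).symm.trans (congrArg j x.1.2.2.1), (hj _ _).symm.trans (congrArg j x.1.2.2.2),
    congrArg (fun z => z.1.1) x.2, congrArg (fun z => z.1.2.1) x.2, x.1.2.1⟩⟩) ?_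
  rintro ⟨⟨⟨g, h, v⟩, hx⟩, hF⟩ ⟨⟨⟨g', h', v'⟩, hx'⟩, hF'⟩ e
  obtain ⟨e1, e2⟩ := Sigma.mk.inj_iff.1 e
  simp only at e1
  have ei : i v = i v' := (congrArg (fun z => z.1.2.2) hF).trans (congrArg (fun z => z.1.2.2) hF').symm
  obtain rfl : v = v' := hij (Prod.ext ei e1)
  have e3 := congrArg Subtype.val (eq_of_heq e2)
  simp only [Prod.mk.injEq] at e3
  obtain ⟨rfl, rfl⟩ := e3
  rfl

theorem Q_le_P2_mul {H' : Type*} [Group H'] [Finite H'] (f : H →* H') :
    Q H Ω ≤ P2 H' * Q f.ker Ω := by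
  letI : MulAction H' PUnit.{1} :=
    { smul := fun _ _ => PUnit.unit, one_smul := fun _ => rfl, mul_smul := fun _ _ _ => rfl }
  refine (Q_le_mul (H' := H') (Ω₁ := PUnit.{1}) f (fun _ => PUnit.unit) id
    (fun v w e => congrArg Prod.snd e) (fun _ _ => rfl) (fun _ _ => rfl)).trans
    (le_of_eq ?_)
  congr 1
  exact Nat.card_congr
    { toFun := fun x => ⟨(x.1.1, x.1.2.1), x.2.1⟩
      invFun := fun x => ⟨(x.1.1, x.1.2, PUnit.unit), x.2, rfl, rfl⟩
      left_inv := fun x => rfl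
      right_inv := fun x => rfl }

/-- The triples with a subgroup. -/
theorem Q_le_index_sq_mul (U : Subgroup H) : Q H Ω ≤ U.index ^ 2 * Q U Ω := by
  classical
  let F : Triples H Ω → (H ⧸ U) × (H ⧸ U) × Ω := fun x => ((x.1.1 : H ⧸ U), (x.1.2.1 : H ⧸ U), x.1.2.2)
  haveI := Fintype.ofFinite Ω
  haveI := Fintype.ofFinite (H ⧸ U)
  rw [Q, ← Nat.card_congr (Equiv.sigmaFiberEquiv F), Nat.card_sigma, Q_eq_sum,
    Fintype.sum_prod_type]
  have hkey : ∀ (a b : H ⧸ U) (v : Ω), Nat.card {x // F x = (a, b, v)} ≤ P2 (stabilizer U v) := by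
    intro a b v
    have step : ∀ (X : H → Prop) (c : H ⧸ U),
        Nat.card {x : H × H // X x.1 ∧ x.1 ∈ stabilizer H v ∧ x.2 ∈ stabilizer H v ∧
          (x.2 : H ⧸ U) = c ∧ x.1 * x.2 = x.2 * x.1} ≤
        Nat.card {x : H × H // X x.1 ∧ x.1 ∈ stabilizer H v ∧ x.2 ∈ stabilizer H v ∧
          x.2 ∈ U ∧ x.1 * x.2 = x.2 * x.1} := by
      intro X c
      let ch : H → H := fun g =>
        if h : ∃ h, h ∈ stabilizer H v ∧ (h : H ⧸ U) = c ∧ g * h = h * g then h.choose else 1
      refine Nat.card_le_card_of_injective (fun x => ⟨(x.1.1, (ch x.1.1)⁻¹ * x.1.2), ?_⟩) ?_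
      · obtain ⟨⟨g, h⟩, hX, hg, hh, hb, hcomm⟩ := x
        have he : ∃ h, h ∈ stabilizer H v ∧ (h : H ⧸ U) = c ∧ g * h = h * g := ⟨h, hh, hb, hcomm⟩
        obtain ⟨h1, h2, h3⟩ := he.choose_spec
        simp only [ch, dif_pos he]
        refine ⟨hX, hg, Subgroup.mul_mem _ (Subgroup.inv_mem _ h1) hh, ?_, ?_⟩
        · exact QuotientGroup.eq.1 (h2.trans hb.symm)
        · exact ((Commute.inv_right h3).mul_right hcomm).eq
      · rintro ⟨⟨g, h⟩, _⟩ ⟨⟨g', h'⟩, _⟩ e
        simp only [Subtype.mk.injEq, Prod.mk.injEq] at e ⊢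
        obtain ⟨rfl, e⟩ := e
        exact ⟨rfl, mul_left_cancel e⟩
    refine le_trans ?_ (le_trans (le_trans (step (fun g => (g : H ⧸ U) = a) b)
      (le_trans (le_of_eq (Nat.card_congr ?_)) (step (fun g => g ∈ U) a)))
      (le_of_eq (Nat.card_congr ?_)))
    · refine Nat.card_le_card_of_injective (fun x => ⟨(x.1.1.1, x.1.1.2.1),
        congrArg (fun z => z.1) x.2, ?_, ?_, congrArg (fun z => z.2.1) x.2, x.1.2.1⟩) ?_
      · have e : x.1.1.2.2 = v := congrArg (fun z => z.2.2) x.2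
        have h := x.1.2.2.1; rw [e] at h; exact h
      · have e : x.1.1.2.2 = v := congrArg (fun z => z.2.2) x.2
        have h := x.1.2.2.2; rw [e] at h; exact h
      · rintro ⟨⟨⟨g, h, w⟩, hx⟩, hF⟩ ⟨⟨⟨g', h', w'⟩, hx'⟩, hF'⟩ e
        simp only [Subtype.mk.injEq, Prod.mk.injEq] at e
        obtain ⟨rfl, rfl⟩ := e
        obtain rfl : w = w' := (congrArg (fun z => z.2.2) hF).trans
          (congrArg (fun z => z.2.2) hF').symm
        rfl
    · exact (Equiv.prodComm H H).subtypeEquiv fun x => by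
        simp only [Equiv.prodComm_apply, Prod.fst_swap, Prod.snd_swap]
        constructor
        · rintro ⟨h1, h2, h3, h4, h5⟩; exact ⟨h4, h3, h2, h1, h5.symm⟩
        · rintro ⟨h1, h2, h3, h4, h5⟩; exact ⟨h4, h3, h2, h1, h5.symm⟩
    · exact
      { toFun := fun x => ⟨(⟨⟨x.1.1, x.2.1⟩, x.2.2.1⟩, ⟨⟨x.1.2, x.2.2.2.2.1⟩, x.2.2.2.1⟩),
          Subtype.ext (Subtype.ext x.2.2.2.2.2)⟩
        invFun := fun x => ⟨(x.1.1.1.1, x.1.2.1.1), x.1.1.1.2, x.1.1.2, x.1.2.2, x.1.2.1.2,
          congrArg (fun z : stabilizer U v => (z : U).1) x.2⟩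
        left_inv := fun x => rfl
        right_inv := fun x => rfl }
  refine (Finset.sum_le_sum fun a _ => le_trans
    (le_of_eq (Fintype.sum_prod_type _))
    (Finset.sum_le_sum fun b _ => Finset.sum_le_sum fun v _ => hkey a b v)).trans ?_
  simp only [Finset.sum_const, Finset.card_univ, smul_eq_mul]
  rw [Subgroup.index_eq_card, Nat.card_eq_fintype_card, sq, mul_assoc]

/-- The orbits of the pairs of an element and a fixed point. -/
theorem card_orbits_mul_eq_Q :
    let X := {x : H × Ω // x.1 • x.2 = x.2}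
    ∀ [MulAction H X], (∀ (g : H) (x : X), (g • x).1.1 = g * x.1.1 * g⁻¹ ∧ (g • x).1.2 = g • x.1.2) →
      Nat.card (Quotient (orbitRel H X)) * Nat.card H = Q H Ω := by
  intro X _ hX
  classical
  haveI := Fintype.ofFinite H
  haveI := Fintype.ofFinite X
  haveI := Fintype.ofFinite (Quotient (orbitRel H X))
  haveI : ∀ g : H, Fintype (fixedBy X g) := fun g => Fintype.ofFinite _
  have hb := MulAction.sum_card_fixedBy_eq_card_orbits_mul_card_group H X
  rw [Nat.card_eq_fintype_card, Nat.card_eq_fintype_card, ← hb, ← Fintype.card_sigma,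
    ← Nat.card_eq_fintype_card]
  refine Nat.card_congr
    { toFun := fun s => ⟨(s.1, s.2.1.1.1, s.2.1.1.2), ?_, ?_, s.2.1.2⟩
      invFun := fun t => ⟨t.1.1, ⟨⟨(t.1.2.1, t.1.2.2), t.2.2.2⟩, ?_⟩⟩
      left_inv := fun s => rfl
      right_inv := fun t => rfl }
  · have h := (hX s.1 s.2.1).1
    rw [s.2.2] at h
    exact (eq_mul_inv_iff_mul_eq.1 h).symm
  · have h := (hX s.1 s.2.1).2
    rw [s.2.2] at h
    exact h.symm
  · refine Subtype.ext (Prod.ext ?_ ?_)
    · rw [(hX t.1.1 _).1]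
      show t.1.1 * t.1.2.1 * t.1.1⁻¹ = t.1.2.1
      rw [t.2.1, mul_inv_cancel_right]
    · rw [(hX t.1.1 _).2]
      exact t.2.2.1

end CfsgLib.SolvKGV
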