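import Cfsg.Agent.SolvKGV.Semi
import Cfsg.Agent.ClassBound.PermClassNumber
import Mathlib.Algebra.BigOperators.Fin

/-!
# Bounds along a permuted decomposition

A group permuting the summands of a direct decomposition: the counting bounds follow from those
for the images on the summands and the bound for the class number of a permutation group.
-/

set_option autoImplicit false
set_option linter.unusedSectionVars false
set_option linter.style.haveILetI false

namespace CfsgLib.SolvKGV

universe u v w

/-- Transport of the triples along an isomorphism. -/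
theorem Q_congr {H H' : Type*} [Group H] [Group H'] {Ω : Type*} [MulAction H Ω] [MulAction H' Ω]
    (e : H ≃* H') (he : ∀ (h : H) (x : Ω), e h • x = h • x) : Q H Ω = Q H' Ω := by
  refine Nat.card_congr
    ((Equiv.prodCongr e.toEquiv (Equiv.prodCongr e.toEquiv (Equiv.refl Ω))).subtypeEquiv ?_)
  rintro ⟨g, h, x⟩
  simp [Triples, he, ← map_mul]

theorem P2_congr {H H' : Type*} [Group H] [Group H'] (e : H ≃* H') : P2 H = P2 H' :=
  Nat.card_congr ((Equiv.prodCongr e.toEquiv e.toEquiv).subtypeEquiv fun x => by simp [← map_mul])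

section pi

variable {N : Type u} [Group N] [Finite N]

/-- The coordinatewise action. -/
abbrev piAct {r : ℕ} {E : Fin r → Type w} [∀ i, Group (E i)] {Ω : Fin r → Type v}
    [∀ i, MulAction (E i) (Ω i)] (g : ∀ i, N →* E i) : MulAction N (∀ i, Ω i) where
  smul n x i := g i n • x i
  one_smul x := funext fun i => by
    show g i 1 • x i = x i
    rw [map_one, one_smul]
  mul_smul m n x := funext fun i => by
    show g i (m * n) • x i = g i m • g i n • x i
    rw [map_mul, mul_smul]

/-- Bounds for the triples multiply over a product. -/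
theorem Q_pi_le (c : ℕ) : ∀ (r : ℕ) {E : Fin r → Type w} [∀ i, Group (E i)] [∀ i, Finite (E i)]
    {Ω : Fin r → Type v} [∀ i, Finite (Ω i)] [∀ i, MulAction (E i) (Ω i)] (G : Fin r → ℕ)
    (g : ∀ i, N →* E i) (M : Subgroup N) [M.Normal],
    (∀ m ∈ M, (∀ i, g i m = 1) → m = 1) →
    (∀ L : Subgroup N, L.Normal → ∀ i,
      c * Q (L.map (g i)) (Ω i) ≤ G i * Nat.card (L.map (g i))) →
    letI := piAct (Ω := Ω) g
    c ^ r * Q M (∀ i, Ω i) ≤ (∏ i, G i) * Nat.card M := by
  intro r
  induction r with
  | zero =>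
    intro E _ _ Ω _ _ G g M _ hfaith _
    letI := piAct (Ω := Ω) g
    have hM : M = ⊥ := (Subgroup.eq_bot_iff_forall M).2 fun m hm => hfaith m hm fun i => i.elim0
    haveI : Subsingleton M := by rw [hM]; infer_instance
    rw [pow_zero, one_mul, Finset.univ_eq_empty, Finset.prod_empty, one_mul]
    haveI : Subsingleton (Triples M (∀ i, Ω i)) := by infer_instance
    calc Q M (∀ i, Ω i) ≤ 1 := Finite.card_le_one_iff_subsingleton.2 this
      _ ≤ _ := Nat.card_pos
  | succ r ih =>
    intro E _ _ Ω _ _ G g M _ hfaith hyp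
    letI := piAct (Ω := Ω) g
    let g' : ∀ i : Fin r, N →* E i.succ := fun i => g i.succ
    letI := piAct (Ω := fun i : Fin r => Ω i.succ) g'
    set f := (g 0).subgroupMap M with hf
    set M' := M ⊓ (g 0).ker with hM'
    have h1 := Q_le_mul (H' := M.map (g 0)) (Ω₁ := Ω 0) (Ω₂ := ∀ i : Fin r, Ω i.succ) f
      (fun x : ∀ i, Ω i => x 0) (fun x i => x i.succ)
      (fun x y e => funext fun i => Fin.cases (congrArg Prod.fst e)
        (fun j => congrFun (congrArg Prod.snd e) j) i)
      (fun m x => rfl) (fun m x => rfl)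
    have hmem : ∀ m : M, m ∈ f.ker ↔ (m : N) ∈ (g 0).ker := fun m => by
      rw [MonoidHom.mem_ker, MonoidHom.mem_ker]
      exact ⟨fun e => congrArg Subtype.val e, fun e => Subtype.ext e⟩
    let e : f.ker ≃* M' :=
      { toFun := fun m => ⟨(m : M), (m : M).2, (hmem _).1 m.2⟩
        invFun := fun m => ⟨⟨m, m.2.1⟩, (hmem _).2 m.2.2⟩
        left_inv := fun m => rfl
        right_inv := fun m => rfl
        map_mul' := fun m n => rfl }
    rw [Q_congr e (fun m x => rfl)] at h1
    have h2 := ih (fun i => G i.succ) g' M' (fun m hm hi => hfaith m hm.1 fun i =>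
      Fin.cases hm.2 hi i) (fun L hL i => hyp L hL i.succ)
    have h3 := hyp M inferInstance 0
    have hcard : Nat.card M = Nat.card (M.map (g 0)) * Nat.card M' := by
      rw [← Nat.card_congr e.toEquiv, Subgroup.card_eq_card_quotient_mul_card_subgroup f.ker,
        Nat.card_congr (QuotientGroup.quotientKerEquivOfSurjective f
          ((g 0).subgroupMap_surjective M)).toEquiv]
    calc c ^ (r + 1) * Q M (∀ i, Ω i)
        ≤ c ^ (r + 1) * (Q (M.map (g 0)) (Ω 0) * Q M' (∀ i : Fin r, Ω i.succ)) :=
          Nat.mul_le_mul_left _ h1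
      _ = (c * Q (M.map (g 0)) (Ω 0)) * (c ^ r * Q M' (∀ i : Fin r, Ω i.succ)) := by ring
      _ ≤ (G 0 * Nat.card (M.map (g 0))) * ((∏ i : Fin r, G i.succ) * Nat.card M') :=
          Nat.mul_le_mul h3 h2
      _ = _ := by rw [Fin.prod_univ_succ, hcard]; ring

/-- Bounds for commuting pairs multiply over a product. -/
theorem P2_pi_le (c : ℕ) : ∀ (r : ℕ) {E : Fin r → Type w} [∀ i, Group (E i)] [∀ i, Finite (E i)]
    (G : Fin r → ℕ) (g : ∀ i, N →* E i) (M : Subgroup N) [M.Normal],
    (∀ m ∈ M, (∀ i, g i m = 1) → m = 1) →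
    (∀ L : Subgroup N, L.Normal → ∀ i, c * P2 (L.map (g i)) ≤ G i * Nat.card (L.map (g i))) →
    c ^ r * P2 M ≤ (∏ i, G i) * Nat.card M := by
  intro r
  induction r with
  | zero =>
    intro E _ _ G g M _ hfaith _
    have hM : M = ⊥ := (Subgroup.eq_bot_iff_forall M).2 fun m hm => hfaith m hm fun i => i.elim0
    haveI : Subsingleton M := by rw [hM]; infer_instance
    rw [pow_zero, one_mul, Finset.univ_eq_empty, Finset.prod_empty, one_mul]
    haveI : Subsingleton {x : M × M // x.1 * x.2 = x.2 * x.1} := by infer_instance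
    calc P2 M ≤ 1 := Finite.card_le_one_iff_subsingleton.2 this
      _ ≤ _ := Nat.card_pos
  | succ r ih =>
    intro E _ _ G g M _ hfaith hyp
    set f := (g 0).subgroupMap M with hf
    set M' := M ⊓ (g 0).ker with hM'
    have h1 := P2_le_mul f
    have hmem : ∀ m : M, m ∈ f.ker ↔ (m : N) ∈ (g 0).ker := fun m => by
      rw [MonoidHom.mem_ker, MonoidHom.mem_ker]
      exact ⟨fun e => congrArg Subtype.val e, fun e => Subtype.ext e⟩
    let e : f.ker ≃* M' :=
      { toFun := fun m => ⟨(m : M), (m : M).2, (hmem _).1 m.2⟩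
        invFun := fun m => ⟨⟨m, m.2.1⟩, (hmem _).2 m.2.2⟩
        left_inv := fun m => rfl
        right_inv := fun m => rfl
        map_mul' := fun m n => rfl }
    rw [P2_congr e] at h1
    have h2 := ih (fun i => G i.succ) (fun i => g i.succ) M' (fun m hm hi => hfaith m hm.1 fun i =>
      Fin.cases hm.2 hi i) (fun L hL i => hyp L hL i.succ)
    have h3 := hyp M inferInstance 0
    have hcard : Nat.card M = Nat.card (M.map (g 0)) * Nat.card M' := by
      rw [← Nat.card_congr e.toEquiv, Subgroup.card_eq_card_quotient_mul_card_subgroup f.ker,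
        Nat.card_congr (QuotientGroup.quotientKerEquivOfSurjective f
          ((g 0).subgroupMap_surjective M)).toEquiv]
    calc c ^ (r + 1) * P2 M
        ≤ c ^ (r + 1) * (P2 (M.map (g 0)) * P2 M') := Nat.mul_le_mul_left _ h1
      _ = (c * P2 (M.map (g 0))) * (c ^ r * P2 M') := by ring
      _ ≤ (G 0 * Nat.card (M.map (g 0))) * ((∏ i : Fin r, G i.succ) * Nat.card M') :=
          Nat.mul_le_mul h3 h2
      _ = _ := by rw [Fin.prod_univ_succ, hcard]; ring

end pi

/-- A decomposition of `V` into at least two summands permuted by `H`. -/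
structure Decomp (H : Type u) (V : Type v) [Group H] [AddCommGroup V] [DistribMulAction H V]
    (r : ℕ) where
  /-- at least two summands -/
  two : 2 ≤ r
  /-- the permutation action -/
  perm : H →* Equiv.Perm (Fin r)
  /-- the projections -/
  proj : Fin r → V →+ V
  ne : ∀ i, proj i ≠ 0
  orth : ∀ i j v, proj i (proj j v) = if i = j then proj j v else 0
  sum : ∀ v, ∑ i, proj i v = v
  equi : ∀ (h : H) i v, proj (perm h i) (h • v) = h • proj i v

namespace Decomp

variable {H : Type u} {V : Type v} [Group H] [Finite H] [AddCommGroup V] [DistribMulAction H V]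
  [Finite V] {r : ℕ} (D : Decomp H V r)

/-- The summands. -/
def part (i : Fin r) : AddSubgroup V := (D.proj i).range

theorem proj_eq_self {i : Fin r} {v : V} (hv : v ∈ D.part i) : D.proj i v = v := by
  obtain ⟨w, rfl⟩ := hv
  rw [D.orth, if_pos rfl]

theorem isInv_part (i : Fin r) : IsInv D.perm.ker (D.part i) := by
  rintro ⟨n, hn⟩ _ ⟨w, rfl⟩
  refine ⟨n • w, ?_⟩
  have h := D.equi n i w
  rw [MonoidHom.mem_ker.1 hn] at h
  exact h

/-- The coordinates. -/
def equiv : V ≃ ∀ i, D.part i where
  toFun v i := ⟨D.proj i v, v, rfl⟩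
  invFun x := ∑ i, (x i : V)
  left_inv v := D.sum v
  right_inv x := funext fun i => Subtype.ext (by
    show D.proj i (∑ j, (x j : V)) = x i
    rw [map_sum, Finset.sum_eq_single i]
    · exact D.proj_eq_self (x i).2
    · intro j _ hj
      rw [← D.proj_eq_self (x j).2, D.orth, if_neg (Ne.symm hj)]
    · simp)

theorem one_lt_card_part (i : Fin r) : 1 < Nat.card (D.part i) := by
  rw [Finite.one_lt_card_iff_nontrivial, AddSubgroup.nontrivial_iff_ne_bot]
  intro e
  exact D.ne i (AddMonoidHom.range_eq_bot_iff.1 e)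

theorem card_eq : Nat.card V = ∏ i, Nat.card (D.part i) := by
  rw [Nat.card_congr D.equiv, Nat.card_pi]

theorem card_part_lt (i : Fin r) : Nat.card (D.part i) < Nat.card V := by
  obtain ⟨j, hj⟩ : ∃ j : Fin r, j ≠ i := by
    haveI : Nontrivial (Fin r) := Fin.nontrivial_iff_two_le.2 D.two
    exact exists_ne i
  rw [D.card_eq, ← Finset.prod_sdiff (Finset.subset_univ {i}), Finset.prod_singleton]
  refine lt_mul_of_one_lt_left (by have := D.one_lt_card_part i; omega) ?_
  refine lt_of_lt_of_le (D.one_lt_card_part j) ?_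
  exact Finset.single_le_prod' (fun k _ => (D.one_lt_card_part k).le)
    (Finset.mem_sdiff.2 ⟨Finset.mem_univ j, fun h => hj (Finset.mem_singleton.1 h)⟩)

/-- The image of a group acting trivially on the labels on one summand. -/
noncomputable def rep (i : Fin r) : D.perm.ker →* (AddMonoid.End (D.part i))ˣ :=
  letI := subAction (D.isInv_part i)
  repHom D.perm.ker (D.part i)

theorem coe_rep_smul (i : Fin r) (n : D.perm.ker) (x : D.part i) :
    ((D.rep i n • x : D.part i) : V) = (n : H) • (x : V) := rfl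

theorem rep_faith (hf : Faith H V) (n : D.perm.ker) (h : ∀ i, D.rep i n = 1) : n = 1 := by
  refine Subtype.ext (hf _ fun v => ?_)
  conv_lhs => rw [← D.sum v]
  conv_rhs => rw [← D.sum v]
  rw [Finset.smul_sum]
  refine Finset.sum_congr rfl fun i _ => ?_
  have h1 := D.coe_rep_smul i n ⟨D.proj i v, v, rfl⟩
  rw [h i, one_smul] at h1
  exact h1.symm

theorem semi_rep (hs : Semi H V) (i : Fin r) (L : Subgroup D.perm.ker) [L.Normal] :
    Semi (L.map (D.rep i)) (D.part i) := by
  have h1 : Semi L V := semi_normal (semi_normal hs D.perm.ker) L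
  have hinv : IsInv L (D.part i) := fun l u hu => D.isInv_part i (l : D.perm.ker) u hu
  letI := subAction hinv
  exact semi_congr ((D.rep i).subgroupMap L) ((D.rep i).subgroupMap_surjective L)
    (fun l x => rfl) (semi_restrict h1 hinv)

include D in
/-- The class number of the group permuting the summands. -/
theorem P2_perm_le : P2 D.perm.range ≤ 2 ^ (r - 1) * Nat.card D.perm.range := by
  rw [P2_eq]
  refine Nat.mul_le_mul_right _ ?_
  have h := ClassBound.card_conjClasses_le_two_pow (G := D.perm.range) (α := Fin r)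
  rwa [Fintype.card_fin] at h

theorem card_eq_mul : Nat.card H = Nat.card D.perm.range * Nat.card D.perm.ker := by
  rw [Subgroup.card_eq_card_quotient_mul_card_subgroup D.perm.ker,
    Nat.card_congr (QuotientGroup.quotientKerEquivRange D.perm).toEquiv]

/-- The counting bound along a decomposition. -/
theorem Q_bound (hs : Semi H V) (hf : Faith H V) (c : ℕ) (G : Fin r → ℕ)
    (hyp : ∀ i, ∀ E : Subgroup (AddMonoid.End (D.part i))ˣ, Semi E (D.part i) →
      (∃ L : Subgroup D.perm.ker, E = L.map (D.rep i)) →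
      c * Q E (D.part i) ≤ G i * Nat.card E) :
    c ^ r * Q H V ≤ 2 ^ (r - 1) * (∏ i, G i) * Nat.card H := by
  letI := piAct (Ω := fun i => D.part i) fun i => D.rep i
  have h1 := Q_pi_le (N := D.perm.ker) c r (Ω := fun i => D.part i) G (fun i => D.rep i) ⊤
    (fun m _ h => D.rep_faith hf m h)
    (fun L hL i => hyp i _ (D.semi_rep hs i L) ⟨L, rfl⟩)
  rw [Subgroup.card_top] at h1
  have h2 : Q D.perm.ker V = Q (⊤ : Subgroup D.perm.ker) (∀ i, D.part i) := by
    refine Nat.card_congr ((Equiv.prodCongr Subgroup.topEquiv.symm.toEquiv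
      (Equiv.prodCongr Subgroup.topEquiv.symm.toEquiv D.equiv)).subtypeEquiv ?_)
    rintro ⟨a, b, v⟩
    have hkey : ∀ n : D.perm.ker, D.equiv (n • v) = fun i => D.rep i n • D.equiv v i := fun n => by
      funext i
      refine Subtype.ext ?_
      rw [D.coe_rep_smul]
      show D.proj i ((n : H) • v) = (n : H) • D.proj i v
      have := D.equi n i v
      rwa [MonoidHom.mem_ker.1 n.2] at this
    have hfix : ∀ n : D.perm.ker, n • v = v ↔ (fun i => D.rep i n • D.equiv v i) = D.equiv v :=
      fun n => by rw [← hkey]; exact D.equiv.injective.eq_iff.symm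
    exact and_congr (by simp [Subtype.ext_iff]) (and_congr (hfix a) (hfix b))
  have h3 := Q_le_P2_mul (H := H) (Ω := V) D.perm.rangeRestrict
  rw [MonoidHom.ker_rangeRestrict] at h3
  rw [h2] at h3
  calc c ^ r * Q H V ≤ c ^ r * (P2 D.perm.range * Q (⊤ : Subgroup D.perm.ker) (∀ i, D.part i)) :=
        Nat.mul_le_mul_left _ h3
    _ = P2 D.perm.range * (c ^ r * Q (⊤ : Subgroup D.perm.ker) (∀ i, D.part i)) := by ring
    _ ≤ (2 ^ (r - 1) * Nat.card D.perm.range) * ((∏ i, G i) * Nat.card D.perm.ker) :=
        Nat.mul_le_mul D.P2_perm_le h1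
    _ = _ := by rw [D.card_eq_mul]; ring

/-- The class number bound along a decomposition, with a given bound for the permutations. -/
theorem P2_bound' (hs : Semi H V) (hf : Faith H V) (c : ℕ) (G : Fin r → ℕ) (K : ℕ)
    (hK : P2 D.perm.range ≤ K * Nat.card D.perm.range)
    (hyp : ∀ i, ∀ E : Subgroup (AddMonoid.End (D.part i))ˣ, Semi E (D.part i) →
      (∃ L : Subgroup D.perm.ker, E = L.map (D.rep i)) →
      c * P2 E ≤ G i * Nat.card E) :
    c ^ r * P2 H ≤ K * (∏ i, G i) * Nat.card H := by
  have h1 := P2_pi_le (N := D.perm.ker) c r G (fun i => D.rep i) ⊤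
    (fun m _ h => D.rep_faith hf m h)
    (fun L hL i => hyp i _ (D.semi_rep hs i L) ⟨L, rfl⟩)
  rw [Subgroup.card_top, P2_congr Subgroup.topEquiv] at h1
  have h3 := P2_le_mul D.perm.rangeRestrict
  rw [MonoidHom.ker_rangeRestrict] at h3
  calc c ^ r * P2 H ≤ c ^ r * (P2 D.perm.range * P2 D.perm.ker) := Nat.mul_le_mul_left _ h3
    _ = P2 D.perm.range * (c ^ r * P2 D.perm.ker) := by ring
    _ ≤ (K * Nat.card D.perm.range) * ((∏ i, G i) * Nat.card D.perm.ker) :=
        Nat.mul_le_mul hK h1
    _ = _ := by rw [D.card_eq_mul]; ring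

/-- The class number bound along a decomposition. -/
theorem P2_bound (hs : Semi H V) (hf : Faith H V) (c : ℕ) (G : Fin r → ℕ)
    (hyp : ∀ i, ∀ E : Subgroup (AddMonoid.End (D.part i))ˣ, Semi E (D.part i) →
      (∃ L : Subgroup D.perm.ker, E = L.map (D.rep i)) →
      c * P2 E ≤ G i * Nat.card E) :
    c ^ r * P2 H ≤ 2 ^ (r - 1) * (∏ i, G i) * Nat.card H :=
  D.P2_bound' hs hf c G _ D.P2_perm_le hyp

/-- The permutation preserves the sizes of the summands. -/
theorem card_part_perm (h : H) (i : Fin r) :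
    Nat.card (D.part (D.perm h i)) = Nat.card (D.part i) := by
  refine (Nat.card_congr (Equiv.subtypeEquiv (MulAction.toPerm h) fun v => ?_)).symm
  constructor
  · rintro ⟨w, rfl⟩
    exact ⟨h • w, D.equi h i w⟩
  · rintro ⟨w, hw⟩
    refine ⟨h⁻¹ • w, ?_⟩
    have e := D.equi h i (h⁻¹ • w)
    rw [smul_inv_smul, hw] at e
    exact (MulAction.injective h e).symm

theorem isSolvable_map [Group.IsSolvable H] (i : Fin r) (L : Subgroup D.perm.ker) :
    Group.IsSolvable (L.map (D.rep i)) :=
  Group.isSolvable_of_surjective ((D.rep i).subgroupMap_surjective L)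

end Decomp

end CfsgLib.SolvKGV
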