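import Cfsg.Agent.SolvKGV.Primitive
import Mathlib.FieldTheory.Fixed
import Mathlib.FieldTheory.Finiteness
import Mathlib.RingTheory.IntegralDomain
import Mathlib.LinearAlgebra.FreeModule.Finite.Matrix

/-!
# The field of a maximal normal abelian subgroup

The numerical data of a linear group without permuted decomposition attached to a maximal normal
abelian subgroup.
-/

set_option autoImplicit false
set_option linter.unusedSectionVars false
set_option linter.style.haveILetI false

namespace CfsgLib.SolvKGV

universe u v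

/-- The data of a maximal normal abelian subgroup. -/
structure Prim (H : Type u) [Group H] (V : Type v) [AddCommGroup V] [DistribMulAction H V] where
  /-- the characteristic -/
  p : ℕ
  /-- the degree of the field -/
  e : ℕ
  /-- the dimension over the field -/
  m : ℕ
  prime : p.Prime
  e_pos : 1 ≤ e
  m_pos : 1 ≤ m
  elem : ∀ v : V, p • v = 0
  card_eq : Nat.card V = p ^ (e * m)
  /-- the maximal normal abelian subgroup -/
  A : Subgroup H
  normalA : A.Normal
  comm : ∀ a ∈ A, ∀ b ∈ A, a * b = b * a
  maxA : ∀ L : Subgroup H, L.Normal → (∀ a ∈ L, ∀ b ∈ L, a * b = b * a) → A ≤ L → L = A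
  cyclic : IsCyclic A
  free : ∀ a ∈ A, ∀ v : V, v ≠ 0 → a • v = v → a = 1
  card_lt : Nat.card A < p ^ e
  card_dvd : Nat.card A ∣ p ^ e - 1
  not_dvd : ¬ p ∣ Nat.card A
  index_le : (Subgroup.centralizer (A : Set H)).index ≤ e
  card_le_sq : ∀ B : Subgroup H, A ≤ B → B ≤ Subgroup.centralizer (A : Set H) →
    (∀ x ∈ B, ∀ y ∈ B, x * y * x⁻¹ * y⁻¹ ∈ A) → B ⊓ Subgroup.centralizer (B : Set H) ≤ A →
    Nat.card B ≤ Nat.card A * m ^ 2
  index_mul_le : ∀ a ∈ A, (∀ h : H, h * a = a * h) → ∀ e₀ : ℕ,
    (∀ i, 0 < i → i < e₀ → ¬ orderOf a ∣ p ^ i - 1) →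
      (Subgroup.centralizer (A : Set H)).index * e₀ ≤ e

variable {H : Type u} [Group H] [Finite H] {V : Type v} [AddCommGroup V] [DistribMulAction H V]
  [Finite V] [Nontrivial V]

theorem prim_of_field (hf : Faith H V) {p : ℕ} [Fact p.Prime]
    (hp : ∀ v : V, p • v = 0) {A : Subgroup H} [hAn : A.Normal] (hnp : ¬ p ∣ Nat.card A)
    (hcomm : ∀ a ∈ A, ∀ b ∈ A, a * b = b * a)
    (hmax : ∀ L : Subgroup H, L.Normal → (∀ a ∈ L, ∀ b ∈ L, a * b = b * a) → A ≤ L → L = A)
    {K : Type v} [Field K] [Finite K] (ι : K →+* AddMonoid.End V) (hι : Function.Injective ι)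
    (hran : ∀ x, x ∈ kring V A ↔ ∃ z, ι z = x) : Nonempty (Prim H V) := by
  classical
  have hp' : p.Prime := Fact.out
  letI : Module K V := Module.compHom V ι
  letI : Fintype K := Fintype.ofFinite K
  letI : Fintype V := Fintype.ofFinite V
  haveI : CharP K p := CharP.charP_iff_prime_eq_zero hp' |>.2 (hι (by
    rw [map_natCast, map_zero]
    exact DFunLike.ext _ _ fun v => (AddMonoid.End.natCast_apply p v).trans (hp v)))
  have hsmulK : ∀ (x : K) (v : V), x • v = ι x v := fun _ _ => rfl
  letI : Algebra (ZMod p) K := ZMod.algebra K p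
  have hKV : Fintype.card V = Fintype.card K ^ Module.finrank K V := Module.card_eq_pow_finrank
  have hKp : Fintype.card K = p ^ Module.finrank (ZMod p) K := by
    rw [Module.card_eq_pow_finrank (K := ZMod p), ZMod.card]
  set e := Module.finrank (ZMod p) K
  set m := Module.finrank K V
  have he : 1 ≤ e := Module.finrank_pos
  have hm : 1 ≤ m := Module.finrank_pos
  -- the elements of `A` in the field
  choose σ hσ using fun a : A => (hran _).1 (rho_mem_kring (V := V) a.2)
  let ψ : A →* K :=
    { toFun := σ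
      map_one' := hι (by rw [hσ, map_one]; exact rho_one)
      map_mul' := fun a b => hι (by rw [hσ, map_mul, hσ, hσ]; exact rho_mul _ _) }
  have hψ : Function.Injective ψ := fun a b h =>
    Subtype.ext (rho_injective hf ((hσ a).symm.trans ((congrArg ι h).trans (hσ b))))
  have hιψ : ∀ a : A, ι (ψ a) = rho (V := V) (a : H) := hσ
  have hsmul : ∀ (a : A) (v : V), ψ a • v = (a : H) • v := fun a v => by
    rw [hsmulK, hιψ]; rfl
  have hfree : ∀ a ∈ A, ∀ v : V, v ≠ 0 → a • v = v → a = 1 := by
    intro a ha v hv hfix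
    by_contra hne
    have h1 : (ψ ⟨a, ha⟩ - 1) • v = 0 := by rw [sub_smul, one_smul, hsmul, hfix, sub_self]
    rcases smul_eq_zero.1 h1 with h2 | h2
    · exact hne (congrArg Subtype.val (hψ ((sub_eq_zero.1 h2).trans ψ.map_one.symm)))
    · exact hv h2
  have hcardA : Nat.card A < p ^ e := by
    letI : Fintype A := Fintype.ofFinite A
    rw [← hKp, Nat.card_eq_fintype_card]
    refine Fintype.card_lt_of_injective_of_notMem ψ hψ (b := 0) ?_
    rintro ⟨a, ha⟩
    have h1 : ψ (a * a⁻¹) = 0 := by rw [map_mul, ha, zero_mul]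
    rw [mul_inv_cancel, map_one] at h1
    exact one_ne_zero h1
  have hcardA' : Nat.card A ∣ p ^ e - 1 := by
    rw [← hKp, ← Fintype.card_units, ← Nat.card_eq_fintype_card (α := Kˣ)]
    exact Subgroup.card_dvd_of_injective ψ.toHomUnits fun a b h =>
      hψ (congrArg Units.val h :)
  set C := Subgroup.centralizer (A : Set H) with hC
  -- elements of `C` commute with the field
  have hCK : ∀ c ∈ C, ∀ x : K, rho (V := V) c * ι x = ι x * rho c := by
    intro c hc z
    have hx : ι z ∈ kring V A := (hran _).2 ⟨z, rfl⟩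
    generalize ι z = x at hx
    unfold kring at hx
    induction hx using Subring.closure_induction with
    | mem x hx =>
      obtain ⟨a, ha, rfl⟩ := hx
      show rho c * rho a = rho a * rho c
      rw [← rho_mul, ← rho_mul, Subgroup.mem_centralizer_iff.1 hc a ha]
    | zero => show rho c * 0 = 0 * rho c; rw [mul_zero, zero_mul]
    | one => show rho c * 1 = 1 * rho c; rw [mul_one, one_mul]
    | add x y _ _ hx hy =>
      show rho c * (x + y) = (x + y) * rho c
      rw [mul_add, add_mul, hx, hy]
    | neg x _ hx => show rho c * (-x) = (-x) * rho c; rw [mul_neg, neg_mul, hx]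
    | mul x y _ _ hx hy =>
      show rho c * (x * y) = (x * y) * rho c
      rw [← mul_assoc, hx, mul_assoc, hy, ← mul_assoc]
  -- the index of the centraliser
  choose c hc using fun (h : H) (z : K) =>
    (hran _).1 (conj_mem_kring h ((hran (ι z)).2 ⟨z, rfl⟩))
  have hci : ∀ g : H, Function.Injective (c g) := fun g z w e => hι (by
    have h := congrArg (fun t => rho (V := V) g⁻¹ * ι t * rho g) e
    have e' : ∀ t : AddMonoid.End V, rho g⁻¹ * (rho g * t * rho g⁻¹) * rho g = t := fun t => by
      rw [← mul_assoc, ← mul_assoc, ← rho_mul, inv_mul_cancel, rho_one, one_mul, mul_assoc,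
        ← rho_mul, inv_mul_cancel, rho_one, mul_one]
    simpa only [hc, e'] using h)
  let f : H → (K →+* K) := fun h =>
    { toFun := c h
      map_one' := hι (by rw [hc, map_one, mul_one, ← rho_mul, mul_inv_cancel, rho_one])
      map_zero' := hι (by rw [hc, map_zero, mul_zero, zero_mul])
      map_add' := fun z w => hι (by rw [hc, map_add, map_add, hc, hc, mul_add, add_mul])
      map_mul' := fun z w => hι (by
        rw [hc, map_mul, map_mul, hc, hc]
        simp only [mul_assoc]
        rw [← mul_assoc (rho h⁻¹) (rho h), ← rho_mul, inv_mul_cancel, rho_one, one_mul]) }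
  let φ : H → (K ≃ₐ[ZMod p] K) := fun h =>
    AlgEquiv.ofRingEquiv (f := RingEquiv.ofBijective (f h)
      ((Fintype.bijective_iff_injective_and_card (f h)).2 ⟨hci h, rfl⟩)) fun r =>
      RingHom.congr_fun (RingHom.ext_zmod ((f h).comp (algebraMap (ZMod p) K))
        (algebraMap (ZMod p) K)) r
  let φ' : H ⧸ C → (K ≃ₐ[ZMod p] K) := fun x => φ x.out
  have hφ' : Function.Injective φ' := by
    intro x y hxy
    have hxy' : ∀ z : K, rho (V := V) x.out * ι z * rho x.out⁻¹ =
        rho y.out * ι z * rho y.out⁻¹ := fun z => by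
      rw [← hc, ← hc]
      exact congrArg ι (DFunLike.congr_fun hxy z)
    rw [← x.out_eq', ← y.out_eq', QuotientGroup.eq]
    refine Subgroup.mem_centralizer_iff.2 fun a ha => ?_
    have h1 := hxy' (ψ ⟨a, ha⟩)
    simp only [hιψ, ← rho_mul] at h1
    have h2 := rho_injective hf h1
    calc a * (x.out⁻¹ * y.out) = x.out⁻¹ * (x.out * a * x.out⁻¹) * y.out := by group
      _ = x.out⁻¹ * (y.out * a * y.out⁻¹) * y.out := by rw [h2]
      _ = x.out⁻¹ * y.out * a := by group
  have hidx : C.index ≤ e := by
    rw [Subgroup.index_eq_card]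
    refine (Nat.card_le_card_of_injective φ' hφ').trans ?_
    rw [Nat.card_eq_fintype_card]
    exact AlgEquiv.card_le
  have hidx' : ∀ a ∈ A, (∀ h : H, h * a = a * h) → ∀ e₀ : ℕ,
      (∀ i, 0 < i → i < e₀ → ¬ orderOf a ∣ p ^ i - 1) → C.index * e₀ ≤ e := by
    intro a ha hcen e₀ he₀
    set z : K := ψ ⟨a, ha⟩ with hz
    have hzo : orderOf z = orderOf a := by
      rw [hz, orderOf_injective ψ hψ, Subgroup.orderOf_mk]
    have hz0 : z ≠ 0 := fun e0 => by
      have h1 : ψ (⟨a, ha⟩ * ⟨a, ha⟩⁻¹) = 0 := by rw [map_mul, ← hz, e0, zero_mul]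
      rw [mul_inv_cancel, map_one] at h1
      exact one_ne_zero h1
    have hfix : ∀ x : H ⧸ C, φ' x z = z := fun x => hι (by
      show ι (c x.out z) = ι z
      rw [hc, hιψ, ← rho_mul, ← rho_mul]
      show rho (V := V) (x.out * a * x.out⁻¹) = rho a
      rw [hcen x.out, mul_inv_cancel_right])
    have hFb := FiniteField.bijective_frobeniusAlgEquivOfAlgebraic_pow (ZMod p) K
    choose idx hidxs using fun x : H ⧸ C => hFb.2 (φ' x)
    have hpow : ∀ (i : ℕ) (w : K),
        (FiniteField.frobeniusAlgEquivOfAlgebraic (ZMod p) K ^ i) w = w ^ p ^ i := by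
      intro i w
      induction i generalizing w with
      | zero => simp
      | succ i ih =>
        rw [pow_succ', AlgEquiv.mul_apply, ih, FiniteField.coe_frobeniusAlgEquivOfAlgebraic,
          ZMod.card]
        simp only [← pow_mul, pow_succ]
    have hone : ∀ i : ℕ, z ^ p ^ i = z → orderOf a ∣ p ^ i - 1 := fun i hi => by
      rw [← hzo]
      refine orderOf_dvd_of_pow_eq_one (mul_right_cancel₀ hz0 ?_)
      rw [← pow_succ, Nat.sub_add_cancel (Nat.one_le_pow _ _ hp'.pos), hi, one_mul]
    have hzidx : ∀ x, z ^ p ^ (idx x : ℕ) = z := fun x => by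
      rw [← hpow, show FiniteField.frobeniusAlgEquivOfAlgebraic (ZMod p) K ^ (idx x : ℕ) = φ' x
        from hidxs x]
      exact hfix x
    -- two exponents fixing `z` are `e₀` apart
    have hgap : ∀ i j : ℕ, i < j → z ^ p ^ i = z → z ^ p ^ j = z → i + e₀ ≤ j := by
      intro i j hij hi hj
      by_contra hlt
      refine he₀ (j - i) (by omega) (by omega) (hone _ ?_)
      conv_lhs => rw [← hi]
      rw [← pow_mul, ← pow_add, show i + (j - i) = j by omega, hj]
    have hzK : z ^ p ^ e = z := by rw [← hKp]; exact FiniteField.pow_card z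
    let ν : (H ⧸ C) × Fin e₀ → Fin e := fun y => ⟨(idx y.1 : ℕ) + y.2, by
      have := hgap _ e (idx y.1).2 (hzidx y.1) hzK
      omega⟩
    have hν : Function.Injective ν := by
      rintro ⟨x, i⟩ ⟨y, j⟩ h
      have h' : (idx x : ℕ) + i = (idx y : ℕ) + j := congrArg Fin.val h
      have hxy : (idx x : ℕ) = idx y := by
        rcases lt_trichotomy (idx x : ℕ) (idx y) with hh | hh | hh
        · have := hgap _ _ hh (hzidx x) (hzidx y)
          omega
        · exact hh
        · have := hgap _ _ hh (hzidx y) (hzidx x)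
          omega
      have hij : (i : ℕ) = j := by omega
      refine Prod.ext (hφ' ?_) (Fin.ext hij)
      rw [← hidxs x, ← hidxs y]
      show FiniteField.frobeniusAlgEquivOfAlgebraic (ZMod p) K ^ (idx x : ℕ) = _
      rw [hxy]
    rw [Subgroup.index_eq_card, ← Nat.card_fin e₀, ← Nat.card_prod]
    exact (Nat.card_le_card_of_injective ν hν).trans_eq (Nat.card_fin e)
  refine ⟨⟨p, e, m, hp', he, hm, hp, ?_, A, hAn, hcomm, hmax,
    isCyclic_of_injective_ringHom ψ hψ, hfree, hcardA, hcardA', hnp, hidx, ?_, hidx'⟩⟩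
  · rw [Nat.card_eq_fintype_card, hKV, hKp, ← pow_mul]
  · -- independence
    intro B hAB hBC hcom hcen
    set A' := A.subgroupOf B
    letI : Fintype (B ⧸ A') := Fintype.ofFinite _
    let L : H → C → (V →ₗ[K] V) := fun _ c =>
      { toFun := fun v => (c : H) • v
        map_add' := fun v w => smul_add _ v w
        map_smul' := fun x v => DFunLike.congr_fun (hCK c c.2 x) v }
    let b : B ⧸ A' → B := fun z => z.out
    let Lz : B ⧸ A' → (V →ₗ[K] V) := fun z => L 1 ⟨b z, hBC (b z).2⟩
    have hLz : ∀ z v, Lz z v = (b z : H) • v := fun z v => rfl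
    have hind : LinearIndependent K Lz := by
      rw [linearIndependent_iff']
      intro s
      induction hs' : s.card using Nat.strong_induction_on generalizing s with
      | _ k ih =>
        intro g hg z₀ hz₀
        have hgv : ∀ v : V, ∑ z ∈ s, g z • ((b z : H) • v) = 0 := fun v => by
          have := LinearMap.congr_fun hg v
          simpa [hLz] using this
        have hrest : ∀ z ∈ s, z ≠ z₀ → g z = 0 := by
          intro z hz hne
          obtain ⟨y, hy⟩ : ∃ y : B, (y : H) * b z * (y : H)⁻¹ * (b z : H)⁻¹ ≠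
              (y : H) * b z₀ * (y : H)⁻¹ * (b z₀ : H)⁻¹ := by
            by_contra hall
            push Not at hall
            refine hne ?_
            rw [show z = ((b z : B) : B ⧸ A') from z.out_eq'.symm,
              show z₀ = ((b z₀ : B) : B ⧸ A') from z₀.out_eq'.symm]
            refine (QuotientGroup.eq.2 ?_).symm
            rw [Subgroup.mem_subgroupOf]
            refine hcen ⟨((b z₀)⁻¹ * b z).2, Subgroup.mem_centralizer_iff.2 fun y hy => ?_⟩
            have h := hall ⟨y, hy⟩
            simp only [Subgroup.coe_mul, Subgroup.coe_inv] at h ⊢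
            set c := y * (b z₀ : H) * y⁻¹ * (b z₀ : H)⁻¹ with hcdef
            have e1 : y * (b z : H) * y⁻¹ = c * b z := by rw [← h]; group
            have e2 : y * (b z₀ : H)⁻¹ * y⁻¹ = (b z₀ : H)⁻¹ * c⁻¹ := by rw [hcdef]; group
            calc y * ((b z₀ : H)⁻¹ * b z)
                = (y * (b z₀ : H)⁻¹ * y⁻¹) * (y * (b z : H) * y⁻¹) * y := by group
              _ = (b z₀ : H)⁻¹ * b z * y := by rw [e1, e2]; group
          -- the eigenvalues of the conjugation by `y`
          let χ : B ⧸ A' → K := fun z => ψ ⟨_, hcom y y.2 (b z) (b z).2⟩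
          have hχ : χ z ≠ χ z₀ := fun h => hy (congrArg Subtype.val (hψ h))
          have hconj : ∀ (z : B ⧸ A') (x : K) (v : V),
              (y : H) • x • ((b z : H) • ((y : H)⁻¹ • v)) = (x * χ z) • ((b z : H) • v) := by
            intro z x v
            have h1 : (y : H) • x • ((b z : H) • ((y : H)⁻¹ • v)) =
                x • ((y : H) • ((b z : H) • ((y : H)⁻¹ • v))) :=
              DFunLike.congr_fun (hCK y (hBC y.2) x) _
            rw [h1, mul_smul x (χ z), hsmul]
            congr 1
            simp only [smul_smul]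
            congr 1
            group
          have hlin : ∀ v : V, ∑ z ∈ s.erase z₀, (g z * (χ z - χ z₀)) • ((b z : H) • v) = 0 := by
            intro v
            have h1 : ∑ z ∈ s, (g z * χ z) • ((b z : H) • v) = 0 := by
              have h := congrArg ((y : H) • ·) (hgv ((y : H)⁻¹ • v))
              simp only [Finset.smul_sum, smul_zero] at h
              rwa [Finset.sum_congr rfl fun z _ => hconj z (g z) v] at h
            have h2 : ∑ z ∈ s, (g z * χ z₀) • ((b z : H) • v) = 0 := by
              have h := congrArg (χ z₀ • ·) (hgv v)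
              simp only [Finset.smul_sum, smul_zero, smul_smul] at h
              refine Eq.trans (Finset.sum_congr rfl fun z _ => ?_) h
              rw [mul_comm]
            rw [Finset.sum_erase _ (by simp)]
            simp only [mul_sub, sub_smul, Finset.sum_sub_distrib, h1, h2, sub_self]
          have h3 := ih (s.erase z₀).card
            (hs' ▸ Finset.card_erase_lt_of_mem hz₀) (s.erase z₀) rfl
            (fun z => g z * (χ z - χ z₀)) (LinearMap.ext fun v => by
              simpa [hLz] using hlin v) z (Finset.mem_erase.2 ⟨hne, hz⟩)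
          exact (mul_eq_zero.1 h3).resolve_right (sub_ne_zero.2 hχ)
        obtain ⟨v, hv⟩ := exists_ne (0 : V)
        have h := hgv v
        rw [Finset.sum_eq_single z₀ (fun z hz hne => by rw [hrest z hz hne, zero_smul])
          (fun h => absurd hz₀ h)] at h
        exact (smul_eq_zero.1 h).resolve_right (fun h' => hv (by
          have := congrArg ((b z₀ : H)⁻¹ • ·) h'
          simpa using this))
    have hw : Fintype.card (B ⧸ A') ≤ m ^ 2 := by
      refine hind.fintype_card_le_finrank.trans (le_of_eq ?_)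
      rw [Module.finrank_linearMap, sq]
    have hcardA' : Nat.card A' = Nat.card A :=
      Nat.card_congr (Subgroup.subgroupOfEquivOfLe hAB).toEquiv
    rw [Subgroup.card_eq_card_quotient_mul_card_subgroup A', hcardA', Nat.card_eq_fintype_card,
      mul_comm]
    exact Nat.mul_le_mul_left _ hw

theorem exists_prim (hnd : NoDecomp H V) (hs : Semi H V) (hf : Faith H V) :
    Nonempty (Prim H V) := by
  classical
  obtain ⟨p, hp', hp, hV⟩ := exists_prime hnd hs
  haveI := Fact.mk hp'
  obtain ⟨A, hA⟩ := (Set.toFinite {A : Subgroup H | A.Normal ∧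
    ∀ a ∈ A, ∀ b ∈ A, a * b = b * a}).exists_maximal ⟨⊥, inferInstance, fun a ha b hb => by
      rw [Subgroup.mem_bot] at ha hb; rw [ha, hb]⟩
  haveI hAn : A.Normal := hA.1.1
  have hcomm : ∀ a ∈ A, ∀ b ∈ A, a * b = b * a := hA.1.2
  have hK := isField_kring hnd hs hf hp hV A hcomm
  letI := hK.toField
  exact prim_of_field hf hp (not_dvd_card hs hf hV A hcomm) hcomm (fun L h1 h2 h3 => le_antisymm (hA.2 ⟨h1, h2⟩ h3) h3)
    (K := kring V A)
    { toFun := fun x => (x : AddMonoid.End V)
      map_one' := rfl
      map_mul' := fun _ _ => rfl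
      map_zero' := rfl
      map_add' := fun _ _ => rfl }
    Subtype.val_injective (fun x => ⟨fun h => ⟨⟨x, h⟩, rfl⟩, fun ⟨z, hz⟩ => hz ▸ z.2⟩)

end CfsgLib.SolvKGV
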