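import Cfsg.Agent.SolvKGV.Field
import Mathlib.GroupTheory.FiniteAbelian.Duality
import Mathlib.RingTheory.RootsOfUnity.Complex
import Mathlib.GroupTheory.Solvable

/-!
# The inner part of a linear group without permuted decomposition

Above a maximal normal abelian subgroup `A` with centraliser `C ≠ A` lies a subgroup `B` with
`B/A` of square order carrying a faithful completely reducible action of `C/B`.
-/

set_option autoImplicit false
set_option linter.unusedSectionVars false
set_option linter.style.haveILetI false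

namespace CfsgLib.SolvKGV

universe u v

/-- Homomorphisms into a finite cyclic group. -/
theorem card_hom_le {X Y : Type*} [CommGroup X] [Finite X] [CommGroup Y] [Finite Y] [IsCyclic Y] :
    Nat.card (X →* Y) ≤ Nat.card X := by
  haveI : NeZero (Nat.card Y) := ⟨Nat.card_pos.ne'⟩
  haveI := rootsOfUnity.isCyclic ℂ (Nat.card Y)
  let e : Y ≃* rootsOfUnity (Nat.card Y) ℂ :=
    mulEquivOfCyclicCardEq (Complex.card_rootsOfUnity (Nat.card Y)).symm
  refine le_trans ?_ (CommGroup.card_monoidHom_of_hasEnoughRootsOfUnity X ℂ).le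
  haveI : Finite (X →* ℂˣ) :=
    Nat.finite_of_card_ne_zero (by
      rw [CommGroup.card_monoidHom_of_hasEnoughRootsOfUnity X ℂ]; exact Nat.card_pos.ne')
  exact Nat.card_le_card_of_injective
    (fun f => (rootsOfUnity (Nat.card Y) ℂ).subtype.comp (e.toMonoidHom.comp f))
    fun f g h => MonoidHom.ext fun x =>
      e.injective (Subtype.ext (DFunLike.congr_fun h x))

variable {H : Type u} [Group H] [Finite H]

/-- The commutator pairing bound. -/
theorem card_pairing_le {A : Subgroup H} (hAc : IsCyclic A) (X Y Z : Subgroup H) (hZY : Z ≤ Y)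
    (hcom : ∀ x ∈ X, ∀ y ∈ Y, x * y * x⁻¹ * y⁻¹ ∈ A)
    (hXA : ∀ x ∈ X, ∀ a ∈ A, x * a = a * x) (hYA : ∀ y ∈ Y, ∀ a ∈ A, y * a = a * y)
    (hAA : ∀ b ∈ A, ∀ a ∈ A, b * a = a * b)
    (hXZ : ∀ x ∈ X, ∀ z ∈ Z, x * z = z * x)
    (hYY : ∀ y ∈ Y, ∀ y' ∈ Y, y * y' * y⁻¹ * y'⁻¹ ∈ Z) :
    Nat.card X * Nat.card Z ≤ Nat.card Y * Nat.card (X ⊓ Subgroup.centralizer (Y : Set H) : Subgroup H) := by
  classical
  set Z' := Z.subgroupOf Y with hZ'
  haveI : Z'.Normal := ⟨fun z hz y => by
    rw [hZ', Subgroup.mem_subgroupOf] at hz ⊢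
    have h := Z.mul_mem (hYY y y.2 z z.2) hz
    simpa using h⟩
  let W := Y ⧸ Z'
  letI : CommGroup W :=
    { (inferInstance : Group W) with
      mul_comm := fun a b => by
        induction a using QuotientGroup.induction_on with | H a => ?_
        induction b using QuotientGroup.induction_on with | H b => ?_
        rw [← QuotientGroup.mk_mul, ← QuotientGroup.mk_mul, QuotientGroup.eq, hZ',
          Subgroup.mem_subgroupOf]
        have h := hYY _ (Y.inv_mem b.2) _ (Y.inv_mem a.2)
        simpa [mul_assoc] using h }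
  letI : CommGroup A :=
    { (inferInstance : Group A) with mul_comm := fun a b => Subtype.ext (hAA a a.2 b b.2) }
  -- the commutator with a fixed element
  let ψ : X → Y →* A := fun x =>
    { toFun := fun y => ⟨(x : H) * y * (x : H)⁻¹ * (y : H)⁻¹, hcom x x.2 y y.2⟩
      map_one' := Subtype.ext (by simp)
      map_mul' := fun y y' => Subtype.ext (by
        set c := (x : H) * y' * (x : H)⁻¹ * (y' : H)⁻¹ with hc
        have h := hYA y y.2 c (hcom x x.2 y' y'.2)
        show (x : H) * ((y : H) * y') * (x : H)⁻¹ * ((y : H) * y')⁻¹ =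
          ((x : H) * y * (x : H)⁻¹ * (y : H)⁻¹) * c
        calc (x : H) * ((y : H) * y') * (x : H)⁻¹ * ((y : H) * y')⁻¹
            = ((x : H) * y * (x : H)⁻¹) * c * (y : H)⁻¹ := by rw [hc]; group
          _ = ((x : H) * y * (x : H)⁻¹) * ((y : H)⁻¹ * ((y : H) * c)) * (y : H)⁻¹ := by group
          _ = _ := by rw [h]; group) }
  have hker : ∀ x : X, Z' ≤ (ψ x).ker := fun x z hz => by
    rw [hZ', Subgroup.mem_subgroupOf] at hz
    exact Subtype.ext (by
      show (x : H) * z * (x : H)⁻¹ * (z : H)⁻¹ = 1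
      rw [hXZ x x.2 z hz]; group)
  let Φ : X →* (W →* A) :=
    { toFun := fun x => QuotientGroup.lift Z' (ψ x) (hker x)
      map_one' := QuotientGroup.monoidHom_ext Z' (MonoidHom.ext fun y => Subtype.ext (by
        show (1 : H) * y * (1 : H)⁻¹ * (y : H)⁻¹ = 1
        group))
      map_mul' := fun x x' => QuotientGroup.monoidHom_ext Z' (MonoidHom.ext fun y => Subtype.ext (by
        set c := (x' : H) * y * (x' : H)⁻¹ * (y : H)⁻¹ with hc
        show (x : H) * x' * y * ((x : H) * x')⁻¹ * (y : H)⁻¹ =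
          ((x : H) * y * (x : H)⁻¹ * (y : H)⁻¹) * c
        have h1 := hXA x x.2 c (hcom x' x'.2 y y.2)
        have h2 := hAA _ (hcom x x.2 y y.2) c (hcom x' x'.2 y y.2)
        calc (x : H) * x' * y * ((x : H) * x')⁻¹ * (y : H)⁻¹
            = ((x : H) * c) * (y * (x : H)⁻¹ * (y : H)⁻¹) := by rw [hc]; group
          _ = c * ((x : H) * y * (x : H)⁻¹ * (y : H)⁻¹) := by rw [h1]; group
          _ = _ := h2.symm)) }
  haveI : Finite (W →* A) := Finite.of_injective (fun f => (f : W → A)) DFunLike.coe_injective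
  have hk : Nat.card Φ.ker ≤ Nat.card (X ⊓ Subgroup.centralizer (Y : Set H) : Subgroup H) := by
    refine Nat.card_le_card_of_injective (fun x => ⟨(x : X), (x : X).2,
      Subgroup.mem_centralizer_iff.2 fun y hy => ?_⟩) ?_
    · have h := congrArg (fun f : W →* A => ((f ((⟨y, hy⟩ : Y) : W) : A) : H))
        (MonoidHom.mem_ker.1 x.2)
      change ((x : X) : H) * y * ((x : X) : H)⁻¹ * y⁻¹ = 1 at h
      have := mul_inv_eq_iff_eq_mul.1 (mul_inv_eq_one.1 h)
      exact this.symm
    · intro a b e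
      exact Subtype.ext (Subtype.ext (congrArg Subtype.val e :))
  have hq : Nat.card (X ⧸ Φ.ker) ≤ Nat.card W := by
    rw [Nat.card_congr (QuotientGroup.quotientKerEquivRange Φ).toEquiv]
    exact (Subgroup.card_le_card_group _).trans card_hom_le
  have hWc : Nat.card W * Nat.card Z = Nat.card Y := by
    rw [← Nat.card_congr (Subgroup.subgroupOfEquivOfLe hZY).toEquiv,
      ← Subgroup.card_eq_card_quotient_mul_card_subgroup]
  calc Nat.card X * Nat.card Z
      = Nat.card (X ⧸ Φ.ker) * Nat.card Φ.ker * Nat.card Z := by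
        rw [← Subgroup.card_eq_card_quotient_mul_card_subgroup]
    _ ≤ Nat.card W * Nat.card (X ⊓ Subgroup.centralizer (Y : Set H) : Subgroup H) * Nat.card Z :=
        Nat.mul_le_mul_right _ (Nat.mul_le_mul hq hk)
    _ = _ := by rw [← hWc]; ring

/-- The inner part. -/
structure Inner {V : Type v} [AddCommGroup V] [DistribMulAction H V] (P : Prim H V) where
  /-- the square root of the index -/
  M : ℕ
  two_le : 2 ≤ M
  le_m : M ≤ P.m
  prime_dvd : ∀ r : ℕ, r.Prime → r ∣ M → r ∣ Nat.card P.A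
  /-- the inner subgroup -/
  B : Subgroup H
  normalB : B.Normal
  AB : P.A ≤ B
  BC : B ≤ Subgroup.centralizer (P.A : Set H)
  com : ∀ x ∈ B, ∀ y ∈ B, x * y * x⁻¹ * y⁻¹ ∈ P.A
  cenB : Subgroup.centralizer (P.A : Set H) ⊓ Subgroup.centralizer (B : Set H) = P.A
  card_B : Nat.card B = Nat.card P.A * M ^ 2
  class_B : 2 * Nat.card (ConjClasses B) ≤ Nat.card P.A * (M ^ 2 + 1)
  stab : ∀ v : V, v ≠ 0 → Nat.card (MulAction.stabilizer B v) ^ 2 ≤ M ^ 2
  /-- the module of the outer action -/
  W : Type u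
  [addW : AddCommGroup W]
  [finW : Finite W]
  card_W : Nat.card W = M ^ 2
  /-- the outer action -/
  f : Subgroup.centralizer (P.A : Set H) →* (AddMonoid.End W)ˣ
  ker_f : f.ker = B.subgroupOf (Subgroup.centralizer (P.A : Set H))
  semi : Semi f.range W

attribute [instance] Inner.addW Inner.finW

variable {V : Type v} [AddCommGroup V] [DistribMulAction H V] [Finite V] [Nontrivial V]

theorem exists_inner [Group.IsSolvable H] (P : Prim H V)
    (hne : Subgroup.centralizer (P.A : Set H) ≠ P.A) : Nonempty (Inner P) := by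
  classical
  haveI := P.normalA
  set A := P.A with hAdef
  set C := Subgroup.centralizer (A : Set H) with hC
  haveI hCn : C.Normal := by rw [hC]; infer_instance
  have hAC : A ≤ C := fun a ha => Subgroup.mem_centralizer_iff.2 fun b hb => P.comm b hb a ha
  have hCA : ∀ c ∈ C, ∀ a ∈ A, c * a = a * c := fun c hc a ha =>
    (Subgroup.mem_centralizer_iff.1 hc a ha).symm
  let ℒ : Set (Subgroup H) := {L | L.Normal ∧ A < L ∧ L ≤ C ∧
    ∀ L' : Subgroup H, L'.Normal → A ≤ L' → L' ≤ L → L' = A ∨ L' = L}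
  have hbelow : ∀ D : Subgroup H, D.Normal → A < D → D ≤ C → ∃ L ∈ ℒ, L ≤ D := by
    intro D hDn hAD hDC
    obtain ⟨L, hL⟩ := (Set.toFinite {L : Subgroup H | L.Normal ∧ A < L ∧ L ≤ D}).exists_minimal
      ⟨D, hDn, hAD, le_rfl⟩
    refine ⟨L, ⟨hL.1.1, hL.1.2.1, hL.1.2.2.trans hDC, fun L' h1 h2 h3 => ?_⟩, hL.1.2.2⟩
    rcases eq_or_lt_of_le h2 with h | h
    · exact Or.inl h.symm
    · exact Or.inr (le_antisymm h3 (hL.2 ⟨h1, h, h3.trans hL.1.2.2⟩ h3))
  have hcomA : ∀ L ∈ ℒ, ∀ L' ∈ ℒ, ⁅L, L'⁆ ≤ A := by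
    intro L hL L' hL'
    haveI := hL.1
    haveI := hL'.1
    by_cases h : L = L'
    · subst h
      rcases hL.2.2.2 (A ⊔ ⁅L, L⁆) inferInstance le_sup_left
        (sup_le hL.2.1.le (Subgroup.commutator_le_left L L)) with h | h
      · exact h ▸ le_sup_right
      · exfalso
        set q := QuotientGroup.mk' A
        have h1 : (⁅L, L⁆).map q = L.map q := by
          conv_rhs => rw [← h, Subgroup.map_sup]
          rw [(Subgroup.map_eq_bot_iff A).2 (by rw [QuotientGroup.ker_mk']), bot_sup_eq]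
        rw [Subgroup.map_commutator] at h1
        have hne' : L.map q ≠ ⊥ := fun e => not_le_of_gt hL.2.1
          (by rwa [Subgroup.map_eq_bot_iff, QuotientGroup.ker_mk'] at e)
        haveI : Nontrivial (L.map q) := (Subgroup.nontrivial_iff_ne_bot _).2 hne'
        have h2 := (Group.IsSolvable.commutator_lt_top_of_nontrivial (L.map q))
        rw [commutator_def] at h2
        have h3 : Subgroup.map (L.map q).subtype ⁅(⊤ : Subgroup (L.map q)), (⊤ : Subgroup (L.map q))⁆ =
            L.map q := by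
          rw [Subgroup.map_commutator, ← MonoidHom.range_eq_map, Subgroup.range_subtype, h1]
        refine h2.ne (Subgroup.map_injective (L.map q).subtype_injective ?_)
        rw [h3, ← MonoidHom.range_eq_map, Subgroup.range_subtype]
    · refine (le_inf (Subgroup.commutator_le_left L L') (Subgroup.commutator_le_right L L')).trans ?_
      rcases hL.2.2.2 (L ⊓ L') inferInstance (le_inf hL.2.1.le hL'.2.1.le) inf_le_left with h1 | h1
      · exact h1.le
      · rcases hL'.2.2.2 (L ⊓ L') inferInstance (le_inf hL.2.1.le hL'.2.1.le) inf_le_right with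
          h2 | h2
        · exact h2.le
        · exact absurd (h1.symm.trans h2) h
  set B := A ⊔ sSup ℒ with hBdef
  have hBn : B.Normal := by
    haveI : (sSup ℒ).Normal := ⟨fun x hx g => by
      have h : (sSup ℒ).map (MulAut.conj g).toMonoidHom ≤ sSup ℒ :=
        Subgroup.map_le_iff_le_comap.2 (sSup_le fun L hL y hy =>
          le_sSup hL (hL.1.conj_mem y hy g))
      exact h ⟨x, hx, rfl⟩⟩
    rw [hBdef]; infer_instance
  haveI := hBn
  have hAB : A ≤ B := le_sup_left
  have hBC : B ≤ C := sup_le hAC (sSup_le fun L hL => hL.2.2.1)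
  have hLB : ∀ L ∈ ℒ, L ≤ B := fun L hL => (le_sSup hL).trans le_sup_right
  have hcom : ∀ x ∈ B, ∀ y ∈ B, x * y * x⁻¹ * y⁻¹ ∈ A := by
    have h0 : ⁅B, B⁆ ≤ A := by
      set q := QuotientGroup.mk' A
      have hq : ∀ X Y : Subgroup H, ⁅X, Y⁆ ≤ A ↔
          X.map q ≤ Subgroup.centralizer ((Y.map q : Subgroup (H ⧸ A)) : Set (H ⧸ A)) := by
        intro X Y
        rw [← Subgroup.commutator_eq_bot_iff_le_centralizer, ← Subgroup.map_commutator,
          Subgroup.map_eq_bot_iff, QuotientGroup.ker_mk']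
      rw [hq]
      have hgen : B.map q = ⨆ L : ℒ, (L : Subgroup H).map q := by
        rw [hBdef, Subgroup.map_sup, (Subgroup.map_eq_bot_iff A).2 (by rw [QuotientGroup.ker_mk']),
          bot_sup_eq, sSup_eq_iSup', Subgroup.map_iSup]
      rw [hgen]
      refine iSup_le fun L => ?_
      rw [Subgroup.le_centralizer_iff]
      refine iSup_le fun L' => ?_
      exact (hq _ _).1 (hcomA L' L'.2 L L.2)
    intro x hx y hy
    exact h0 (Subgroup.commutator_mem_commutator hx hy)
  have hBA : ∀ x ∈ B, ∀ a ∈ A, x * a = a * x := fun x hx => hCA x (hBC hx)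
  have hAcom : ∀ b ∈ A, ∀ a ∈ A, b * a = a * b := P.comm
  have hcenB : C ⊓ Subgroup.centralizer (B : Set H) = A := by
    refine le_antisymm ?_ (le_inf hAC fun a ha =>
      Subgroup.mem_centralizer_iff.2 fun b hb => hBA b hb a ha)
    by_contra hcon
    set D := C ⊓ Subgroup.centralizer (B : Set H)
    have hAD : A < D := lt_of_le_not_ge (le_inf hAC fun a ha =>
      Subgroup.mem_centralizer_iff.2 fun b hb => hBA b hb a ha) hcon
    obtain ⟨L, hL, hLD⟩ := hbelow D inferInstance hAD inf_le_left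
    have h := P.maxA L hL.1 (fun a ha b hb =>
      (Subgroup.mem_centralizer_iff.1 (hLD hb).2 a (hLB L hL ha))) hL.2.1.le
    exact hL.2.1.ne' h
  have hBcB : B ⊓ Subgroup.centralizer (B : Set H) ≤ A :=
    fun x hx => hcenB.le ⟨hBC hx.1, hx.2⟩
  have hAB' : A < B := by
    obtain ⟨L, hL, -⟩ := hbelow C hCn (lt_of_le_of_ne hAC (Ne.symm hne)) le_rfl
    exact lt_of_lt_of_le hL.2.1 (hLB L hL)
  -- orthogonal subgroups
  have hperp : ∀ L : Subgroup H, A ≤ L → L ≤ B →
      Nat.card L * Nat.card (B ⊓ Subgroup.centralizer (L : Set H) : Subgroup H) ≤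
        Nat.card B * Nat.card A ∧
      Nat.card B * Nat.card A ≤
        Nat.card L * Nat.card (B ⊓ Subgroup.centralizer (L : Set H) : Subgroup H) := by
    intro L hAL hLB'
    constructor
    · refine (card_pairing_le P.cyclic L B (B ⊓ Subgroup.centralizer (L : Set H)) inf_le_left
        (fun x hx y hy => hcom x (hLB' hx) y hy) (fun x hx => hBA x (hLB' hx)) hBA hAcom
        (fun x hx z hz => Subgroup.mem_centralizer_iff.1 hz.2 x hx)
        (fun y hy y' hy' => ⟨hAB.trans le_rfl (hcom y hy y' hy'),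
          Subgroup.mem_centralizer_iff.2 fun l hl =>
            hBA l (hLB' hl) _ (hcom y hy y' hy')⟩)).trans (Nat.mul_le_mul_left _ ?_)
      exact Subgroup.card_le_of_le fun x hx => hBcB ⟨hLB' hx.1, hx.2⟩
    · exact card_pairing_le P.cyclic B L A hAL (fun x hx y hy => hcom x hx y (hLB' hy)) hBA
        (fun y hy => hBA y (hLB' hy)) hAcom hBA (fun y hy y' hy' => hcom y (hLB' hy) y' (hLB' hy'))
  -- a maximal abelian subgroup
  obtain ⟨L, hL⟩ := (Set.toFinite {L : Subgroup H | A ≤ L ∧ L ≤ B ∧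
    ∀ a ∈ L, ∀ b ∈ L, a * b = b * a}).exists_maximal ⟨A, le_rfl, hAB, P.comm⟩
  obtain ⟨hAL, hLB', hLcomm⟩ := hL.1
  have hLperp : B ⊓ Subgroup.centralizer (L : Set H) = L := by
    refine le_antisymm (fun x hx => ?_) (le_inf hLB' fun x hx =>
      Subgroup.mem_centralizer_iff.2 fun y hy => hLcomm y hy x hx)
    set S := Subgroup.closure ((L : Set H) ∪ {x})
    haveI : IsMulCommutative S := by
      refine Subgroup.isMulCommutative_closure ?_
      rintro a (ha | rfl) b (hb | rfl)
      · exact hLcomm a ha b hb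
      · exact Subgroup.mem_centralizer_iff.1 hx.2 a ha
      · exact (Subgroup.mem_centralizer_iff.1 hx.2 b hb).symm
      · rfl
    have hS : S ≤ L := hL.2 ⟨hAL.trans fun y hy => Subgroup.subset_closure (Or.inl hy),
      (Subgroup.closure_le B).2 (Set.union_subset hLB' (by simpa using hx.1)),
      fun a ha b hb => congrArg Subtype.val (mul_comm' (⟨a, ha⟩ : S) ⟨b, hb⟩)⟩
      (fun y hy => Subgroup.subset_closure (Or.inl hy))
    exact hS (Subgroup.subset_closure (Or.inr rfl))
  obtain ⟨M, hM⟩ : Nat.card A ∣ Nat.card L := Subgroup.card_dvd_of_le hAL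
  have hcardB : Nat.card B = Nat.card A * M ^ 2 := by
    have h := hperp L hAL hLB'
    rw [hLperp, hM] at h
    refine Nat.eq_of_mul_eq_mul_right (Nat.card_pos (α := A)) ?_
    calc Nat.card B * Nat.card A = Nat.card A * M * (Nat.card A * M) :=
          le_antisymm h.2 h.1
      _ = _ := by ring
  have hM2 : 2 ≤ M := by
    by_contra hlt
    have h1 : Nat.card B ≤ Nat.card A := by
      rw [hcardB]
      exact (Nat.mul_le_mul_left _ (pow_le_one₀ (Nat.zero_le _) (by omega))).trans (mul_one _).le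
    exact hAB'.ne (Subgroup.eq_of_le_of_card_ge hAB h1)
  have hMm : M ≤ P.m := by
    have h := P.card_le_sq B hAB hBC hcom hBcB
    rw [hcardB] at h
    exact Nat.pow_le_pow_iff_left (by norm_num : (2 : ℕ) ≠ 0) |>.1
      (Nat.le_of_mul_le_mul_left h Nat.card_pos)
  have hprime : ∀ r : ℕ, r.Prime → r ∣ M → r ∣ Nat.card A := by
    intro r hr hrM
    haveI := Fact.mk hr
    haveI : (A.subgroupOf L).Normal := P.normalA.subgroupOf L
    have hidx : Nat.card (L ⧸ A.subgroupOf L) = M := by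
      have h := Subgroup.card_eq_card_quotient_mul_card_subgroup (A.subgroupOf L)
      rw [Nat.card_congr (Subgroup.subgroupOfEquivOfLe hAL).toEquiv, hM, mul_comm] at h
      exact (Nat.eq_of_mul_eq_mul_right Nat.card_pos h).symm
    obtain ⟨z, hz⟩ := exists_prime_orderOf_dvd_card' r (hidx.symm ▸ hrM : r ∣ Nat.card (L ⧸ A.subgroupOf L))
    obtain ⟨⟨x, hx⟩, rfl⟩ := QuotientGroup.mk_surjective z
    have hxA : x ∉ A := fun h => by
      rw [(QuotientGroup.eq_one_iff _).2 (show (⟨x, hx⟩ : L) ∈ A.subgroupOf L from h),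
        orderOf_one] at hz
      exact hr.one_lt.ne hz
    have hxr : x ^ r ∈ A := by
      have h := pow_orderOf_eq_one ((⟨x, hx⟩ : L) : L ⧸ A.subgroupOf L)
      rw [hz, ← QuotientGroup.mk_pow, QuotientGroup.eq_one_iff] at h
      exact h
    obtain ⟨y, hy, hxy⟩ : ∃ y ∈ B, x * y * x⁻¹ * y⁻¹ ≠ 1 := by
      by_contra hall
      push Not at hall
      exact hxA (hBcB ⟨hLB' hx, Subgroup.mem_centralizer_iff.2 fun y hy =>
        (mul_inv_eq_iff_eq_mul.1 (mul_inv_eq_one.1 (hall y hy))).symm⟩)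
    have hcA := hcom x (hLB' hx) y hy
    have key : ∀ k : ℕ, x ^ k * y * (x ^ k)⁻¹ * y⁻¹ = (x * y * x⁻¹ * y⁻¹) ^ k := by
      intro k
      induction k with
      | zero => simp
      | succ k ih =>
        set c := x * y * x⁻¹ * y⁻¹ with hc
        calc x ^ (k + 1) * y * (x ^ (k + 1))⁻¹ * y⁻¹
            = (x * (x ^ k * y * (x ^ k)⁻¹ * y⁻¹)) * (y * x⁻¹ * y⁻¹) := by group
          _ = (x * c ^ k) * (y * x⁻¹ * y⁻¹) := by rw [ih]
          _ = c ^ k * c := by rw [hBA x (hLB' hx) _ (pow_mem hcA k), hc]; group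
          _ = _ := (pow_succ c k).symm
    have h1 : (⟨_, hcA⟩ : A) ^ r = 1 := Subtype.ext (by
      show (x * y * x⁻¹ * y⁻¹) ^ r = 1
      rw [← key, ← hBA y hy _ hxr, mul_inv_cancel_right, mul_inv_cancel])
    have h2 : orderOf (⟨_, hcA⟩ : A) = r :=
      orderOf_eq_prime h1 fun e => hxy (congrArg Subtype.val e)
    rw [← h2]
    exact orderOf_dvd_natCard _
  -- the class number of `B`
  have hclass : 2 * Nat.card (ConjClasses B) ≤ Nat.card A * (M ^ 2 + 1) := by
    refine two_mul_card_conjClasses_le.trans ?_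
    have hZ : Nat.card (Subgroup.center B) ≤ Nat.card A := by
      refine Nat.card_le_card_of_injective (fun z => ⟨((z : B) : H), hBcB ⟨(z : B).2,
        Subgroup.mem_centralizer_iff.2 fun y hy =>
          congrArg Subtype.val (Subgroup.mem_center_iff.1 z.2 ⟨y, hy⟩)⟩⟩) fun a b e => ?_
      exact Subtype.ext (Subtype.ext (congrArg Subtype.val e :))
    rw [hcardB]
    calc _ ≤ Nat.card A * M ^ 2 + Nat.card A := Nat.add_le_add_left hZ _
      _ = _ := by ring
  -- stabilisers
  have hstab : ∀ v : V, v ≠ 0 → Nat.card (MulAction.stabilizer B v) ^ 2 ≤ M ^ 2 := by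
    intro v hv
    set S := (MulAction.stabilizer B v).map B.subtype with hS
    have hSB : S ≤ B := Subgroup.map_subtype_le _
    have hfix : ∀ s ∈ S, s • v = v := by
      rintro _ ⟨s, hs, rfl⟩
      exact hs
    have hSA : ∀ s ∈ S, s ∈ A → s = 1 := fun s hs ha => P.free s ha v hv (hfix s hs)
    have hScomm : ∀ s ∈ S, ∀ t ∈ S, s * t = t * s := fun s hs t ht => by
      have h := hSA _ (S.mul_mem (S.mul_mem (S.mul_mem hs ht) (S.inv_mem hs)) (S.inv_mem ht))
        (hcom s (hSB hs) t (hSB ht))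
      exact mul_inv_eq_iff_eq_mul.1 (mul_inv_eq_one.1 h)
    set L₁ := Subgroup.closure ((A : Set H) ∪ S) with hL₁
    haveI : IsMulCommutative L₁ := by
      refine Subgroup.isMulCommutative_closure ?_
      rintro a (ha | ha) b (hb | hb)
      · exact P.comm a ha b hb
      · exact (hBA b (hSB hb) a ha).symm
      · exact hBA a (hSB ha) b hb
      · exact hScomm a ha b hb
    have hAL₁ : A ≤ L₁ := fun a ha => Subgroup.subset_closure (Or.inl ha)
    have hSL₁ : S ≤ L₁ := fun a ha => Subgroup.subset_closure (Or.inr ha)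
    have hL₁B : L₁ ≤ B := (Subgroup.closure_le B).2 (Set.union_subset hAB hSB)
    have hsub : Nat.card L₁ ≤
        Nat.card (B ⊓ Subgroup.centralizer (L₁ : Set H) : Subgroup H) :=
      Subgroup.card_le_of_le (le_inf hL₁B fun a ha => Subgroup.mem_centralizer_iff.2 fun b hb =>
        congrArg Subtype.val (mul_comm' (⟨b, hb⟩ : L₁) ⟨a, ha⟩))
    have hAS : Nat.card A * Nat.card S ≤ Nat.card L₁ := by
      rw [← Nat.card_prod]
      refine Nat.card_le_card_of_injective
        (fun x : A × S => (⟨(x.1 : H) * x.2, L₁.mul_mem (hAL₁ x.1.2) (hSL₁ x.2.2)⟩ : L₁)) ?_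
      rintro ⟨a, s⟩ ⟨a', s'⟩ e
      have e' : (a : H) * s = (a' : H) * s' := congrArg Subtype.val e
      have h1 : (a' : H)⁻¹ * a = (s' : H) * (s : H)⁻¹ := by
        rw [eq_mul_inv_iff_mul_eq, mul_assoc, e', inv_mul_cancel_left]
      have h2 : (s' : H) * (s : H)⁻¹ = 1 := hSA _ (S.mul_mem s'.2 (S.inv_mem s.2))
        (h1 ▸ A.mul_mem (A.inv_mem a'.2) a.2)
      rw [h2, inv_mul_eq_one] at h1
      exact Prod.ext (Subtype.ext h1.symm) (Subtype.ext (mul_inv_eq_one.1 h2).symm)
    have hcS : Nat.card (MulAction.stabilizer B v) = Nat.card S :=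
      (Subgroup.card_map_of_injective B.subtype_injective).symm
    rw [hcS]
    refine Nat.le_of_mul_le_mul_left (c := Nat.card A * Nat.card A) ?_
      (Nat.mul_pos Nat.card_pos Nat.card_pos)
    calc Nat.card A * Nat.card A * Nat.card S ^ 2
        = (Nat.card A * Nat.card S) * (Nat.card A * Nat.card S) := by ring
      _ ≤ Nat.card L₁ * Nat.card (B ⊓ Subgroup.centralizer (L₁ : Set H) : Subgroup H) :=
          Nat.mul_le_mul hAS (hAS.trans hsub)
      _ ≤ Nat.card B * Nat.card A := (hperp L₁ hAL₁ hL₁B).1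
      _ = _ := by rw [hcardB]; ring
  -- the module `B/A`
  set A' := A.subgroupOf B with hA'
  letI : CommGroup (B ⧸ A') :=
    { (inferInstance : Group (B ⧸ A')) with
      mul_comm := fun a b => by
        induction a using QuotientGroup.induction_on with | H a => ?_
        induction b using QuotientGroup.induction_on with | H b => ?_
        rw [← QuotientGroup.mk_mul, ← QuotientGroup.mk_mul, QuotientGroup.eq, hA',
          Subgroup.mem_subgroupOf]
        have h := hcom _ (B.inv_mem b.2) _ (B.inv_mem a.2)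
        simpa [mul_assoc] using h }
  let cj : H → (B ⧸ A' →* B ⧸ A') := fun g =>
    QuotientGroup.map A' A' (MulAut.conjNormal g : B ≃* B).toMonoidHom fun x hx => by
      rw [Subgroup.mem_comap, hA', Subgroup.mem_subgroupOf] at *
      show ((MulAut.conjNormal g x : B) : H) ∈ A
      rw [MulAut.conjNormal_apply]
      exact P.normalA.conj_mem _ hx g
  letI act : DistribMulAction H (Additive (B ⧸ A')) :=
    { smul := fun g x => Additive.ofMul (cj g x.toMul)
      one_smul := fun x => by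
        obtain ⟨b, hb⟩ := QuotientGroup.mk_surjective x.toMul
        show Additive.ofMul (cj 1 x.toMul) = x
        rw [← hb, show cj 1 (b : B ⧸ A') = ((MulAut.conjNormal (1 : H) b : B) : B ⧸ A') from rfl,
          map_one, MulAut.one_apply, hb, ofMul_toMul]
      mul_smul := fun g h x => by
        obtain ⟨b, hb⟩ := QuotientGroup.mk_surjective x.toMul
        show Additive.ofMul (cj (g * h) x.toMul) = Additive.ofMul (cj g (cj h x.toMul))
        rw [← hb]
        show Additive.ofMul (((MulAut.conjNormal (g * h) b : B) : B ⧸ A')) =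
          Additive.ofMul (((MulAut.conjNormal g (MulAut.conjNormal h b) : B) : B ⧸ A'))
        rw [map_mul, MulAut.mul_apply]
      smul_zero := fun g => congrArg Additive.ofMul (map_one (cj g))
      smul_add := fun g x y => congrArg Additive.ofMul (map_mul (cj g) x.toMul y.toMul) }
  let w : B → Additive (B ⧸ A') := fun b => Additive.ofMul (b : B ⧸ A')
  have hw : ∀ x, ∃ b, w b = x := fun x => by
    obtain ⟨b, hb⟩ := QuotientGroup.mk_surjective x.toMul
    exact ⟨b, by show Additive.ofMul (b : B ⧸ A') = x; rw [hb, ofMul_toMul]⟩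
  have hwsmul : ∀ (g : H) (b : B), g • w b = w (MulAut.conjNormal g b) := fun g b => rfl
  have hwzero : ∀ b : B, w b = 0 ↔ (b : H) ∈ A := fun b => by
    show (b : B ⧸ A') = 1 ↔ _
    rw [QuotientGroup.eq_one_iff, hA', Subgroup.mem_subgroupOf]
  have hwadd : ∀ a b : B, w (a * b) = w a + w b := fun a b => rfl
  have hwneg : ∀ a : B, w a⁻¹ = -w a := fun a => rfl
  have hcardW : Nat.card (Additive (B ⧸ A')) = M ^ 2 := by
    have h := Subgroup.card_eq_card_quotient_mul_card_subgroup A'
    rw [hA', Nat.card_congr (Subgroup.subgroupOfEquivOfLe hAB).toEquiv, hcardB, mul_comm,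
      ← hA'] at h
    exact (Nat.eq_of_mul_eq_mul_right Nat.card_pos h).symm
  -- complete reducibility
  have hsemiH : Semi H (Additive (B ⧸ A')) := by
    refine semi_of_sSup_minimal fun U hU hUtop => ?_
    obtain ⟨preU, hpreU⟩ : ∃ preU : AddSubgroup (Additive (B ⧸ A')) → Subgroup H,
        ∀ U h, h ∈ preU U ↔ ∃ hB : h ∈ B, w ⟨h, hB⟩ ∈ U := by
      refine ⟨fun U =>
        { carrier := {h | ∃ hB : h ∈ B, w ⟨h, hB⟩ ∈ U}
          one_mem' := ?_
          mul_mem' := ?_
          inv_mem' := ?_ }, fun U h => Iff.rfl⟩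
      · rintro a b ⟨ha, ha'⟩ ⟨hb, hb'⟩
        refine ⟨B.mul_mem ha hb, ?_⟩
        rw [show (⟨a * b, B.mul_mem ha hb⟩ : B) = ⟨a, ha⟩ * ⟨b, hb⟩ from rfl, hwadd]
        exact U.add_mem ha' hb'
      · refine ⟨B.one_mem, ?_⟩
        rw [(hwzero ⟨1, B.one_mem⟩).2 A.one_mem]
        exact U.zero_mem
      · rintro a ⟨ha, ha'⟩
        refine ⟨B.inv_mem ha, ?_⟩
        rw [show (⟨a⁻¹, B.inv_mem ha⟩ : B) = (⟨a, ha⟩ : B)⁻¹ from rfl, hwneg]
        exact U.neg_mem ha'
    have hpre : ∀ U, IsInv H U → (preU U).Normal ∧ A ≤ preU U := by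
      intro U hU
      refine ⟨⟨fun x hx g => ?_⟩, fun a ha => ?_⟩
      · obtain ⟨hx, hx'⟩ := (hpreU U x).1 hx
        refine (hpreU U _).2 ⟨hBn.conj_mem x hx g, ?_⟩
        have h := hU g _ hx'
        rw [hwsmul] at h
        convert h using 2
        exact Subtype.ext (MulAut.conjNormal_apply g ⟨x, hx⟩).symm
      · refine (hpreU U a).2 ⟨hAB ha, ?_⟩
        rw [(hwzero ⟨a, hAB ha⟩).2 ha]
        exact U.zero_mem
    obtain ⟨L, hL, hLU⟩ : ∃ L ∈ ℒ, ¬ L ≤ preU U := by
      by_contra hall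
      push Not at hall
      refine hUtop (eq_top_iff.2 fun x _ => ?_)
      obtain ⟨b, rfl⟩ := hw x
      obtain ⟨hb, hb'⟩ :=
        (hpreU U _).1 ((sup_le (hpre U hU).2 (sSup_le hall) : B ≤ preU U) b.2)
      exact hb'
    haveI := hL.1
    let X : AddSubgroup (Additive (B ⧸ A')) :=
      { carrier := {x | ∃ b : B, (b : H) ∈ L ∧ w b = x}
        zero_mem' := ⟨1, L.one_mem, rfl⟩
        add_mem' := by
          rintro _ _ ⟨a, ha, rfl⟩ ⟨b, hb, rfl⟩
          exact ⟨a * b, L.mul_mem ha hb, hwadd a b⟩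
        neg_mem' := by
          rintro _ ⟨a, ha, rfl⟩
          exact ⟨a⁻¹, L.inv_mem ha, hwneg a⟩ }
    have hXpre : ∀ l ∈ L, ∀ hl : l ∈ B, w ⟨l, hl⟩ ∈ X := fun l hl hlB => ⟨⟨l, hlB⟩, hl, rfl⟩
    refine ⟨X, ?_, fun e => ?_, fun Y hY hYX hY0 => le_antisymm hYX ?_, fun hXU => ?_⟩
    · rintro g _ ⟨b, hb, rfl⟩
      refine ⟨MulAut.conjNormal g b, ?_, (hwsmul g b).symm⟩
      rw [MulAut.conjNormal_apply]
      exact hL.1.conj_mem _ hb g
    · refine hL.2.1.not_ge fun l hl => ?_
      have h : w ⟨l, hLB L hL hl⟩ ∈ X := hXpre l hl _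
      rw [e, AddSubgroup.mem_bot] at h
      exact (hwzero _).1 h
    · obtain ⟨hn, hle⟩ := hpre Y hY
      haveI := hn
      have hsubL : preU Y ≤ L := fun l hl₀ => by
        obtain ⟨hl, hl'⟩ := (hpreU Y l).1 hl₀
        obtain ⟨b, hb, e⟩ := hYX hl'
        have h0 : w (b⁻¹ * ⟨l, hl⟩) = 0 := by rw [hwadd, hwneg, e, neg_add_cancel]
        have h2 := L.mul_mem hb (hL.2.1.le ((hwzero _).1 h0))
        rwa [Subgroup.coe_mul, Subgroup.coe_inv, mul_inv_cancel_left] at h2
      rcases hL.2.2.2 _ hn hle hsubL with h | h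
      · refine absurd ?_ hY0
        rw [AddSubgroup.eq_bot_iff_forall]
        intro y hy
        obtain ⟨b, hb⟩ := hw y
        rw [← hb] at hy ⊢
        exact (hwzero b).2 (h ▸ (hpreU Y b).2 ⟨b.2, hy⟩)
      · rintro _ ⟨b, hb, rfl⟩
        obtain ⟨_, hy⟩ := (hpreU Y _).1 (h.ge hb)
        exact hy
    · exact hLU fun l hl => (hpreU U l).2 ⟨hLB L hL hl, hXU (hXpre l hl _)⟩
  let f := repHom C (Additive (B ⧸ A'))
  have hsemi : Semi f.range (Additive (B ⧸ A')) :=
    semi_congr f.rangeRestrict f.rangeRestrict_surjective (fun c x => rfl) (semi_normal hsemiH C)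
  -- the kernel
  have hker : f.ker = B.subgroupOf C := by
    set C₀ := f.ker.map C.subtype with hC₀
    have hmem : ∀ c ∈ C₀, c ∈ C ∧ ∀ b ∈ B, c * b * c⁻¹ * b⁻¹ ∈ A := by
      rintro _ ⟨c, hc, rfl⟩
      refine ⟨c.2, fun b hb => ?_⟩
      have h1 : (c : H) • w ⟨b, hb⟩ = w ⟨b, hb⟩ := (repHom_eq_one_iff c).1 (MonoidHom.mem_ker.1 hc) _
      rw [hwsmul] at h1
      have h2 : w (MulAut.conjNormal (c : H) ⟨b, hb⟩ * (⟨b, hb⟩ : B)⁻¹) = 0 := by
        rw [hwadd, hwneg, h1, add_neg_cancel]
      have h3 := (hwzero _).1 h2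
      rwa [Subgroup.coe_mul, Subgroup.coe_inv, MulAut.conjNormal_apply] at h3
    have hBle : B ≤ C₀ := fun b hb => by
      refine ⟨⟨b, hBC hb⟩, MonoidHom.mem_ker.2 ((repHom_eq_one_iff _).2 fun x => ?_), rfl⟩
      obtain ⟨y, rfl⟩ := hw x
      show b • w y = w y
      rw [hwsmul, ← sub_eq_zero, sub_eq_add_neg, ← hwneg, ← hwadd, hwzero, Subgroup.coe_mul,
        Subgroup.coe_inv, MulAut.conjNormal_apply]
      exact hcom b hb y y.2
    have hcard : Nat.card C₀ * Nat.card A ≤ Nat.card B * Nat.card A := by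
      refine (card_pairing_le P.cyclic C₀ B A hAB (fun x hx y hy => (hmem x hx).2 y hy)
        (fun x hx => hCA x (hmem x hx).1) hBA hAcom (fun x hx => hCA x (hmem x hx).1)
        hcom).trans (Nat.mul_le_mul_left _ (Subgroup.card_le_of_le fun x hx => ?_))
      exact hcenB.le ⟨(hmem x hx.1).1, hx.2⟩
    have hEq : B = C₀ := Subgroup.eq_of_le_of_card_ge hBle
      (Nat.le_of_mul_le_mul_right hcard Nat.card_pos)
    have h : f.ker = C₀.subgroupOf C :=
      (Subgroup.comap_map_eq_self_of_injective C.subtype_injective f.ker).symm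
    exact h.trans (congrArg (fun X : Subgroup H => X.subgroupOf C) hEq.symm)
  exact ⟨{
    M := M
    two_le := hM2
    le_m := hMm
    prime_dvd := hprime
    B := B
    normalB := hBn
    AB := hAB
    BC := hBC
    com := hcom
    cenB := hcenB
    card_B := hcardB
    class_B := hclass
    stab := hstab
    W := Additive (B ⧸ A')
    card_W := hcardW
    f := f
    ker_f := hker
    semi := hsemi }⟩

end CfsgLib.SolvKGV
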