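import Mathlib.Tactic.Linarith
import Mathlib.Tactic.Ring
import Mathlib.Data.Nat.Prime.Basic
import Mathlib.Tactic.NormNum.Prime

/-!
# The numerical inequalities
-/

set_option autoImplicit false

namespace CfsgLib.SolvKGV.Numeric

theorem two_mul_le {q p e : ℕ} (hp : 2 ≤ p) (hq : q = p ^ e) (he : 1 ≤ e) : 2 * e ≤ q := by
  subst hq
  induction e, he using Nat.le_induction with
  | base => simpa using hp
  | succ e he ih =>
    rw [pow_succ]
    have : 2 ≤ p ^ e := le_trans (by omega) ih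
    nlinarith

/-- The class number bound in the semilinear case. -/
theorem abelian_class {p e m a : ℕ} (hp : 2 ≤ p) (he : 1 ≤ e) (hm : 1 ≤ m) (ha : a < p ^ e) :
    2 * e * a ≤ (p ^ (e * m)) ^ 2 := by
  have h1 := two_mul_le hp rfl he
  have h2 : p ^ e ≤ p ^ (e * m) := Nat.pow_le_pow_right (by omega) (Nat.le_mul_of_pos_right e hm)
  calc 2 * e * a ≤ p ^ e * p ^ e := Nat.mul_le_mul h1 ha.le
    _ ≤ p ^ (e * m) * p ^ (e * m) := Nat.mul_le_mul h2 h2
    _ = _ := (sq _).symm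

theorem four_pow_le {M : ℕ} (hM : 5 ≤ M) : M ^ 4 * (M ^ 2 + 1) ≤ 4 * 9 ^ (M - 1) := by
  induction M, hM using Nat.le_induction with
  | base => norm_num
  | succ M hM ih =>
    obtain ⟨j, rfl⟩ : ∃ j, M = j + 1 := ⟨M - 1, by omega⟩
    simp only [add_tsub_cancel_right] at ih ⊢
    rw [pow_succ 9]
    have h4 : (j + 1 + 1) ^ 4 ≤ 3 * (j + 1) ^ 4 := by
      have h : 5 * (j + 1 + 1) ≤ 6 * (j + 1) := by omega
      have := Nat.pow_le_pow_left h 4
      rw [mul_pow, mul_pow] at this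
      omega
    have h2 : (j + 1 + 1) ^ 2 + 1 ≤ 3 * ((j + 1) ^ 2 + 1) := by nlinarith
    calc (j + 1 + 1) ^ 4 * ((j + 1 + 1) ^ 2 + 1)
        ≤ (3 * (j + 1) ^ 4) * (3 * ((j + 1) ^ 2 + 1)) := Nat.mul_le_mul h4 h2
      _ = 9 * ((j + 1) ^ 4 * ((j + 1) ^ 2 + 1)) := by ring
      _ ≤ 9 * (4 * 9 ^ j) := Nat.mul_le_mul_left _ ih
      _ = _ := by ring

/-- The class number bound in the inner case. -/
theorem inner_class {p e m a M : ℕ} (hp : p.Prime) (he : 1 ≤ e) (hM : 2 ≤ M) (hm : M ≤ m)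
    (ha : a < p ^ e) (hdiv : ∀ r : ℕ, r.Prime → r ∣ M → r ∣ a) (ha0 : 0 < a) :
    e * M ^ 4 * (a * (M ^ 2 + 1)) ≤ 2 * (p ^ (e * m)) ^ 2 := by
  set q := p ^ e with hq
  have hN : q ^ M ≤ p ^ (e * m) := by
    rw [hq, ← pow_mul]; exact Nat.pow_le_pow_right hp.pos (Nat.mul_le_mul_left e hm)
  have h2e := two_mul_le hp.two_le hq he
  refine le_trans ?_ (Nat.mul_le_mul_left 2 (Nat.pow_le_pow_left hN 2))
  rw [← pow_mul]
  have hle : ∀ r : ℕ, r.Prime → r ∣ M → r + 1 ≤ q := fun r hr h => by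
    have := Nat.le_of_dvd ha0 (hdiv r hr h); omega
  rcases (by omega : M = 2 ∨ M = 3 ∨ M = 4 ∨ 5 ≤ M) with rfl | rfl | rfl | hM5
  · have h3 := hle 2 Nat.prime_two dvd_rfl
    rcases (by omega : q = 3 ∨ 4 ≤ q) with h | h
    · have h4 : e = 1 := by omega
      subst h4
      rw [h] at ha ⊢
      omega
    · norm_num
      nlinarith [Nat.mul_le_mul h h, Nat.mul_le_mul h2e ha.le,
        Nat.mul_le_mul (Nat.mul_le_mul h h) (Nat.le_refl (q * q))]
  · have h3 := hle 3 Nat.prime_three dvd_rfl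
    norm_num
    nlinarith [Nat.mul_le_mul h3 h3, Nat.mul_le_mul h2e ha.le,
      Nat.mul_le_mul (Nat.mul_le_mul h3 h3) (Nat.mul_le_mul h3 h3),
      Nat.mul_le_mul (Nat.mul_le_mul (Nat.mul_le_mul h3 h3) (Nat.mul_le_mul h3 h3))
        (Nat.le_refl (q * q))]
  · have h3 := hle 2 Nat.prime_two (by norm_num)
    rcases (by omega : q = 3 ∨ 4 ≤ q) with h | h
    · have h4 : e = 1 := by omega
      subst h4
      rw [h] at ha ⊢
      norm_num
      omega
    · norm_num
      nlinarith [Nat.mul_le_mul h2e ha.le,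
        Nat.mul_le_mul (Nat.pow_le_pow_left h 6) (Nat.le_refl (q * q))]
  · obtain ⟨r, hr, hrM⟩ := Nat.exists_prime_and_dvd (show M ≠ 1 by omega)
    have h3 := hle r hr hrM
    have := hr.two_le
    have h9 : 9 ^ (M - 1) ≤ (q * q) ^ (M - 1) :=
      Nat.pow_le_pow_left (Nat.mul_le_mul (show 3 ≤ q by omega) (show 3 ≤ q by omega)) _
    have h10 : (q * q) ^ (M - 1) * (q * q) = q ^ (M * 2) := by
      rw [← sq, ← pow_mul, ← pow_add]; congr 1; omega
    calc e * M ^ 4 * (a * (M ^ 2 + 1)) = e * a * (M ^ 4 * (M ^ 2 + 1)) := by ring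
      _ ≤ e * q * (4 * (q * q) ^ (M - 1)) := Nat.mul_le_mul (Nat.mul_le_mul_left e ha.le)
          ((four_pow_le hM5).trans (Nat.mul_le_mul_left 4 h9))
      _ = 2 * ((2 * e) * q * (q * q) ^ (M - 1)) := by ring
      _ ≤ 2 * (q * q * (q * q) ^ (M - 1)) :=
          Nat.mul_le_mul_left 2 (Nat.mul_le_mul_right _ (Nat.mul_le_mul_right _ h2e))
      _ = _ := by rw [← h10]; ring

/-- The counting bound in the semilinear case. -/
theorem abelian_count {p e m a : ℕ} (hm : 1 ≤ m) (ha : a < p ^ (e * m)) (ha0 : 1 ≤ a) :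
    3 * e * (a ^ 2 + (p ^ (e * m) - 1)) ≤ (3 * p) ^ (e * m) * a := by
  have h3 : 3 * e ≤ 3 ^ (e * m) := by
    refine le_trans ?_ (Nat.pow_le_pow_right (by norm_num) (Nat.le_mul_of_pos_right e hm))
    clear ha hm
    induction e with
    | zero => simp
    | succ e ih =>
      rw [pow_succ]
      have : 1 ≤ 3 ^ e := Nat.one_le_pow _ _ (by norm_num)
      omega
  rw [mul_pow, mul_assoc (3 ^ (e * m))]
  refine Nat.mul_le_mul h3 ?_
  obtain ⟨N, hN⟩ : ∃ N, p ^ (e * m) = a + 1 + N := ⟨p ^ (e * m) - (a + 1), by omega⟩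
  rw [hN, show a + 1 + N - 1 = a + N by omega]
  nlinarith

theorem nine_le {e : ℕ} (he : 2 ≤ e) : 27 * e ≤ 2 * 9 ^ e := by
  induction e, he using Nat.le_induction with
  | base => norm_num
  | succ e he ih => rw [pow_succ]; omega

theorem pow_four_le {M : ℕ} (hM : 8 ≤ M) : 14 * M ^ 4 ≤ 15 * 3 ^ M := by
  induction M, hM using Nat.le_induction with
  | base => norm_num
  | succ M hM ih =>
    rw [pow_succ 3]
    have h : 8 * (M + 1) ≤ 9 * M := by omega
    have h' := Nat.pow_le_pow_left h 4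
    rw [mul_pow, mul_pow] at h'
    omega

theorem sq_add_one_le {M : ℕ} (hM : 8 ≤ M) : 20 * (M ^ 2 + 1) ≤ 3 ^ (M - 1) := by
  induction M, hM using Nat.le_induction with
  | base => norm_num
  | succ M hM ih =>
    rw [show M + 1 - 1 = M - 1 + 1 by omega, pow_succ 3]
    nlinarith

theorem pow_four_le' {M e : ℕ} (hM : 5 ≤ M) (he : 2 ≤ e) : e * M ^ 4 ≤ 3 ^ (e * M) := by
  have h1 : 2 * M ^ 4 ≤ 9 ^ M := by
    clear he
    induction M, hM using Nat.le_induction with
    | base => norm_num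
    | succ M hM ih =>
      rw [pow_succ 9]
      have h : 5 * (M + 1) ≤ 6 * M := by omega
      have h' := Nat.pow_le_pow_left h 4
      rw [mul_pow, mul_pow] at h'
      omega
  induction e, he using Nat.le_induction with
  | base => rwa [pow_mul]
  | succ e he ih =>
    rw [add_mul, one_mul, add_mul, one_mul, pow_add]
    have : 2 ≤ 3 ^ M := le_trans (by norm_num) (Nat.pow_le_pow_right (by norm_num) (show 1 ≤ M by omega))
    have h0 : M ^ 4 ≤ e * M ^ 4 := Nat.le_mul_of_pos_left _ (by omega)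
    nlinarith [Nat.mul_le_mul_left (3 ^ (e * M)) this]

theorem aux_three {e : ℕ} (he : 2 ≤ e) : 72 * e ≤ 3 ^ (e * 3) := by
  induction e, he using Nat.le_induction with
  | base => norm_num
  | succ e he ih =>
    rw [add_mul, pow_add, one_mul]
    norm_num
    omega

theorem aux_four {e : ℕ} (he : 2 ≤ e) : 342 * e ≤ 2 * 3 ^ (e * 4) := by
  induction e, he using Nat.le_induction with
  | base => norm_num
  | succ e he ih =>
    rw [add_mul, pow_add, one_mul]
    norm_num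
    omega

/-- The counting bound in the inner case, for the bound `K` of the outer class number. -/
theorem inner_count {p e m a M K : ℕ} (hp : p.Prime) (he : 1 ≤ e) (hM : 2 ≤ M) (hm : M ≤ m)
    (ha : a < p ^ e) (hdiv : ∀ r : ℕ, r.Prime → r ∣ M → r ∣ a) (ha0 : 0 < a)
    (hK2 : M = 2 → K ≤ 3) (hK3 : M = 3 → K ≤ 16) (hK4 : M = 4 → K ≤ 38)
    (hK : 2 * K ≤ M ^ 4) :
    3 * e * K * (a ^ 2 * (M ^ 2 + 1) + 2 * (p ^ (e * m) - 1)) ≤
      2 * a * ((3 * p) ^ (e * m)) := by
  set q := p ^ e with hq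
  set N := p ^ (e * m) with hNdef
  have hN : q ^ M ≤ N := by
    rw [hq, hNdef, ← pow_mul]; exact Nat.pow_le_pow_right hp.pos (Nat.mul_le_mul_left e hm)
  have h3N : 3 ^ (e * M) * N ≤ (3 * p) ^ (e * m) := by
    rw [mul_pow]
    exact Nat.mul_le_mul_right _ (Nat.pow_le_pow_right (by norm_num) (Nat.mul_le_mul_left e hm))
  refine le_trans ?_ (Nat.mul_le_mul_left _ h3N)
  have hle : ∀ r : ℕ, r.Prime → r ∣ M → r ≤ a := fun r hr h => Nat.le_of_dvd ha0 (hdiv r hr h)
  have haq : a ^ 2 ≤ a * q := by rw [sq]; exact Nat.mul_le_mul_left _ ha.le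
  obtain ⟨N', hN'⟩ : ∃ N', N = N' + 1 := ⟨N - 1, by
    have : 0 < N := pow_pos hp.pos _
    omega⟩
  rw [hN', add_tsub_cancel_right]
  rcases (by omega : M = 2 ∨ M = 3 ∨ M = 4 ∨ 5 ≤ M) with rfl | rfl | rfl | hM5
  · have h2 := hle 2 Nat.prime_two dvd_rfl
    refine le_trans (Nat.mul_le_mul_right _ (Nat.mul_le_mul_left _ (hK2 rfl))) ?_
    rcases (by omega : e = 1 ∨ 2 ≤ e) with rfl | he2
    · rcases (by omega : q = 3 ∨ 4 ≤ q) with h | h
      · have : a = 2 := by omega
        subst this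
        rw [h] at hN
        norm_num at hN ⊢
        omega
      · norm_num at hN ⊢
        nlinarith [Nat.mul_le_mul h (Nat.le_refl q), Nat.mul_le_mul_left a hN]
    · have h9 := nine_le he2
      have h4 : 4 ≤ q := le_trans (by norm_num) ((Nat.pow_le_pow_left hp.two_le e).trans'
        (Nat.pow_le_pow_right (by norm_num) he2))
      have h5 : a ^ 2 * (2 ^ 2 + 1) + 2 * N' ≤ 3 * a * (N' + 1) := by
        nlinarith [Nat.mul_le_mul h4 (Nat.le_refl q), Nat.mul_le_mul_left a hN]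
      calc 3 * e * 3 * (a ^ 2 * (2 ^ 2 + 1) + 2 * N') ≤ 3 * e * 3 * (3 * a * (N' + 1)) :=
            Nat.mul_le_mul_left _ h5
        _ = (27 * e) * (a * (N' + 1)) := by ring
        _ ≤ (2 * 9 ^ e) * (a * (N' + 1)) := Nat.mul_le_mul_right _ h9
        _ = _ := by rw [show e * 2 = 2 * e by ring, pow_mul]; norm_num; ring
  · have h3 := hle 3 Nat.prime_three dvd_rfl
    refine le_trans (Nat.mul_le_mul_right _ (Nat.mul_le_mul_left _ (hK3 rfl))) ?_
    rcases (by omega : e = 1 ∨ 2 ≤ e) with rfl | he2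
    · have hqp : q = p := by rw [hq, pow_one]
      have h5 : 5 ≤ q := by
        rcases eq_or_ne q 4 with h | h
        · exact absurd (show Nat.Prime 4 by rw [← h, hqp]; exact hp) (by norm_num)
        · omega
      norm_num at hN ⊢
      nlinarith [Nat.mul_le_mul (Nat.mul_le_mul h5 h5) (Nat.le_refl q),
        Nat.mul_le_mul_left a hN, Nat.mul_le_mul_right N' h3]
    · have h4 : 4 ≤ q := by omega
      have h5 : a ^ 2 * (3 ^ 2 + 1) + 2 * N' ≤ 3 * a * (N' + 1) := by
        nlinarith [Nat.mul_le_mul (Nat.mul_le_mul h4 h4) (Nat.le_refl q), Nat.mul_le_mul_left a hN]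
      have h6 : 72 * e ≤ 3 ^ (e * 3) := aux_three he2
      calc 3 * e * 16 * (a ^ 2 * (3 ^ 2 + 1) + 2 * N') ≤ 3 * e * 16 * (3 * a * (N' + 1)) :=
            Nat.mul_le_mul_left _ h5
        _ = (2 * (72 * e)) * (a * (N' + 1)) := by ring
        _ ≤ (2 * 3 ^ (e * 3)) * (a * (N' + 1)) := Nat.mul_le_mul_right _ (Nat.mul_le_mul_left 2 h6)
        _ = _ := by ring
  · have h2 := hle 2 Nat.prime_two (by norm_num)
    refine le_trans (Nat.mul_le_mul_right _ (Nat.mul_le_mul_left _ (hK4 rfl))) ?_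
    rcases (by omega : e = 1 ∨ 2 ≤ e) with rfl | he2
    · have hqp : q = p := by rw [hq, pow_one]
      rcases (by omega : q = 3 ∨ q = 4 ∨ 5 ≤ q) with h | h | h
      · have : a = 2 := by omega
        subst this
        rw [h] at hN
        norm_num at hN ⊢
        omega
      · exact absurd (show Nat.Prime 4 by rw [← h, hqp]; exact hp) (by norm_num)
      · norm_num at hN ⊢
        nlinarith [Nat.mul_le_mul (Nat.mul_le_mul (Nat.mul_le_mul h h) h) (Nat.le_refl q),
          Nat.mul_le_mul_left a hN]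
    · have h4 : 4 ≤ q := le_trans (by norm_num) ((Nat.pow_le_pow_left hp.two_le e).trans'
        (Nat.pow_le_pow_right (by norm_num) he2))
      have h5 : a ^ 2 * (4 ^ 2 + 1) + 2 * N' ≤ 3 * a * (N' + 1) := by
        nlinarith [Nat.mul_le_mul (Nat.mul_le_mul (Nat.mul_le_mul h4 h4) h4) (Nat.le_refl q),
          Nat.mul_le_mul_left a hN]
      have h6 : 342 * e ≤ 2 * 3 ^ (e * 4) := aux_four he2
      calc 3 * e * 38 * (a ^ 2 * (4 ^ 2 + 1) + 2 * N') ≤ 3 * e * 38 * (3 * a * (N' + 1)) :=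
            Nat.mul_le_mul_left _ h5
        _ = (342 * e) * (a * (N' + 1)) := by ring
        _ ≤ (2 * 3 ^ (e * 4)) * (a * (N' + 1)) := Nat.mul_le_mul_right _ h6
        _ = _ := by ring
  · obtain ⟨r, hr, hrM⟩ := Nat.exists_prime_and_dvd (show M ≠ 1 by omega)
    have hra := hle r hr hrM
    have := hr.two_le
    -- the general estimate
    have key : ∀ q₀ c u w : ℕ, q₀ ≤ q → c * (M ^ 2 + 1) ≤ u * q₀ ^ (M - 1) → 2 * c ≤ w * a →
        c * (a ^ 2 * (M ^ 2 + 1) + 2 * N') ≤ (u + w) * (a * (N' + 1)) := by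
      intro q₀ c u w hq0 hu hw
      have h1 : q * q₀ ^ (M - 1) ≤ N' + 1 := by
        refine le_trans (Nat.mul_le_mul_left _ (Nat.pow_le_pow_left hq0 _)) ?_
        rw [← pow_succ', show M - 1 + 1 = M by omega]
        omega
      calc c * (a ^ 2 * (M ^ 2 + 1) + 2 * N') = a ^ 2 * (c * (M ^ 2 + 1)) + 2 * c * N' := by ring
        _ ≤ a * q * (u * q₀ ^ (M - 1)) + w * a * (N' + 1) :=
            Nat.add_le_add (Nat.mul_le_mul haq hu) (Nat.mul_le_mul hw (by omega))
        _ = u * a * (q * q₀ ^ (M - 1)) + w * a * (N' + 1) := by ring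
        _ ≤ u * a * (N' + 1) + w * a * (N' + 1) :=
            Nat.add_le_add_right (Nat.mul_le_mul_left _ h1) _
        _ = _ := by ring
    have fin : ∀ c S : ℕ, 0 < c → c * (a ^ 2 * (M ^ 2 + 1) + 2 * N') ≤ S * (a * (N' + 1)) →
        3 * e * M ^ 4 * S ≤ 4 * c * 3 ^ (e * M) →
        3 * e * K * (a ^ 2 * (M ^ 2 + 1) + 2 * N') ≤ 2 * a * (3 ^ (e * M) * (N' + 1)) := by
      intro c S hc h1 h2
      refine Nat.le_of_mul_le_mul_left (c := 2 * c) ?_ (by omega)
      calc 2 * c * (3 * e * K * (a ^ 2 * (M ^ 2 + 1) + 2 * N'))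
          = 3 * e * (2 * K) * (c * (a ^ 2 * (M ^ 2 + 1) + 2 * N')) := by ring
        _ ≤ 3 * e * M ^ 4 * (S * (a * (N' + 1))) :=
            Nat.mul_le_mul (Nat.mul_le_mul_left _ hK) h1
        _ = 3 * e * M ^ 4 * S * (a * (N' + 1)) := by ring
        _ ≤ 4 * c * 3 ^ (e * M) * (a * (N' + 1)) := Nat.mul_le_mul_right _ h2
        _ = _ := by ring
    rcases (by omega : e = 1 ∨ 2 ≤ e) with rfl | he2
    · have hqp : q = p := by rw [hq, pow_one]
      rcases (by omega : M = 5 ∨ M = 6 ∨ M = 7 ∨ 8 ≤ M) with rfl | rfl | rfl | h8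
      · have ha5 : 5 ≤ a := Nat.le_of_dvd ha0 (hdiv 5 (by norm_num) dvd_rfl)
        exact fin 45 19 (by norm_num) (key 6 45 1 18 (by omega) (by norm_num) (by omega)) (by norm_num)
      · have ha3 : 3 ≤ a := Nat.le_of_dvd ha0 (hdiv 3 (by norm_num) (by norm_num))
        have h5 : 5 ≤ q := by
          rcases eq_or_ne q 4 with h | h
          · exact absurd (show Nat.Prime 4 by rw [← h, hqp]; exact hp) (by norm_num)
          · omega
        exact fin 60 43 (by norm_num) (key 5 60 1 42 h5 (by norm_num) (by omega)) (by norm_num)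
      · have ha7 : 7 ≤ a := Nat.le_of_dvd ha0 (hdiv 7 (by norm_num) dvd_rfl)
        exact fin 7 3 (by norm_num) (key 8 7 1 2 (by omega) (by norm_num) (by omega)) (by norm_num)
      · refine fin 20 21 (by norm_num) (key 3 20 1 20 (by omega) ?_ (by omega)) ?_
        · rw [one_mul]; exact sq_add_one_le h8
        · rw [one_mul]; have := pow_four_le h8; omega
    · have h4 : 4 ≤ q := le_trans (by norm_num) ((Nat.pow_le_pow_left hp.two_le e).trans'
        (Nat.pow_le_pow_right (by norm_num) he2))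
      refine fin 3 4 (by norm_num) (key 4 3 1 3 h4 ?_ (by omega)) ?_
      · clear key fin hK hK2 hK3 hK4 hm hN h3N hN' hNdef hdiv hle hrM hM
        induction M, hM5 using Nat.le_induction with
        | base => norm_num
        | succ M hM ih =>
          rw [show M + 1 - 1 = M - 1 + 1 by omega, pow_succ 4]
          nlinarith
      · have := pow_four_le' hM5 he2
        rw [show 3 * e * M ^ 4 * 4 = 4 * 3 * (e * M ^ 4) by ring]
        exact Nat.mul_le_mul_left _ this

end CfsgLib.SolvKGV.Numeric
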