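import Cfsg.Agent.SolvKGV.Inner
import Cfsg.Agent.SolvKGV.Numeric
import Mathlib.Data.Fintype.Perm

/-!
# Class numbers of completely reducible solvable groups

A solvable group acting faithfully and completely reducibly on a finite abelian group `V` has at
most `|V|² / 2` classes; sharper bounds hold for `|V| = 4, 9, 16`.
-/

set_option autoImplicit false
set_option linter.unusedSectionVars false
set_option linter.style.haveILetI false

namespace CfsgLib.SolvKGV

universe u v

theorem P2_le_sq (G : Type*) [Group G] [Finite G] : P2 G ≤ Nat.card G * Nat.card G := by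
  rw [P2, ← Nat.card_prod]
  exact Finite.card_subtype_le _

theorem P2_of_comm (G : Type*) [Group G] [Finite G] (h : ∀ a b : G, a * b = b * a) :
    P2 G = Nat.card G * Nat.card G := by
  rw [P2, ← Nat.card_prod]
  exact Nat.card_congr (Equiv.subtypeUnivEquiv fun x => h x.1 x.2)

theorem two_mul_P2_le (G : Type*) [Group G] [Finite G] :
    2 * P2 G ≤ (Nat.card G + Nat.card (Subgroup.center G)) * Nat.card G := by
  rw [P2_eq, ← mul_assoc]
  exact Nat.mul_le_mul_right _ two_mul_card_conjClasses_le

variable {H : Type u} [Group H] [Finite H] {V : Type v} [AddCommGroup V] [DistribMulAction H V]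
  [Finite V]

/-- A faithful group on a group of prime order is small. -/
theorem card_le_of_prime (hf : Faith H V) (h : (Nat.card V).Prime) :
    Nat.card H ≤ Nat.card V - 1 := by
  classical
  haveI := Fintype.ofFinite V
  haveI : Nontrivial V := Finite.one_lt_card_iff_nontrivial.1 h.one_lt
  obtain ⟨v, hv⟩ := exists_ne (0 : V)
  haveI := Fact.mk h
  have hgen : AddSubgroup.zmultiples v = ⊤ :=
    (AddSubgroup.eq_bot_or_eq_top_of_prime_card _).resolve_left
      (by simpa [AddSubgroup.zmultiples_eq_bot] using hv)
  have hne : ∀ g : H, g • v ≠ 0 := fun g e => hv (by simpa using congrArg (g⁻¹ • ·) e)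
  refine le_trans (Nat.card_le_card_of_injective
    (fun g : H => (⟨g • v, hne g⟩ : {w : V // w ≠ 0})) ?_) (le_of_eq ?_)
  · intro g g' e
    have e' : g • v = g' • v := congrArg Subtype.val e
    refine (inv_mul_eq_one.1 (hf _ fun w => ?_)).symm
    obtain ⟨k, rfl⟩ := AddSubgroup.mem_zmultiples_iff.1 (hgen ▸ AddSubgroup.mem_top w :
      w ∈ AddSubgroup.zmultiples v)
    rw [← DistribSMul.toAddMonoidHom_apply, map_zsmul, DistribSMul.toAddMonoidHom_apply,
      mul_smul, e', inv_smul_smul]
  · rw [Nat.card_eq_fintype_card, Fintype.card_subtype_compl, Fintype.card_subtype_eq,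
      ← Nat.card_eq_fintype_card]

theorem P2_perm_three : P2 (Equiv.Perm (Fin 3)) = 18 := by
  rw [P2, Nat.card_eq_fintype_card]
  decide

/-- Three classes on a group of order four. -/
theorem P2_le_four (hf : Faith H V) (h4 : Nat.card V = 4) : P2 H ≤ 3 * Nat.card H := by
  classical
  haveI := Fintype.ofFinite V
  letI : MulAction H {w : V // w ≠ 0} :=
    { smul := fun g w => ⟨g • (w : V), fun e => w.2 (by simpa using congrArg (g⁻¹ • ·) e)⟩
      one_smul := fun w => Subtype.ext (one_smul H (w : V))
      mul_smul := fun g k w => Subtype.ext (mul_smul g k (w : V)) }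
  have hc : Fintype.card {w : V // w ≠ 0} = 3 := by
    rw [Fintype.card_subtype_compl, Fintype.card_subtype_eq, ← Nat.card_eq_fintype_card, h4]
  let e := Fintype.equivFinOfCardEq hc
  let f : H →* Equiv.Perm (Fin 3) :=
    (Equiv.permCongrHom e).toMonoidHom.comp (MulAction.toPermHom H _)
  have hinj : Function.Injective f := by
    refine (injective_iff_map_eq_one f).2 fun g hg => hf g fun v => ?_
    by_cases hv : v = 0
    · rw [hv, smul_zero]
    have h1 : MulAction.toPermHom H {w : V // w ≠ 0} g = 1 :=
      (Equiv.permCongrHom e).injective (hg.trans (map_one _).symm)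
    exact congrArg Subtype.val (Equiv.congr_fun h1 ⟨v, hv⟩)
  have h6 : Nat.card H ∣ 6 := by
    have h := Subgroup.card_dvd_of_injective f hinj
    rwa [Nat.card_perm, Nat.card_fin] at h
  rcases le_or_gt (Nat.card H) 3 with h | h
  · exact (P2_le_sq H).trans (Nat.mul_le_mul_right _ h)
  · have : Nat.card H = 6 := by
      have := Nat.le_of_dvd (by norm_num) h6
      interval_cases Nat.card H <;> omega
    have hbij : Function.Bijective f := (Nat.bijective_iff_injective_and_card f).2
      ⟨hinj, by rw [this, Nat.card_perm, Nat.card_fin]; rfl⟩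
    rw [P2_congr (MulEquiv.ofBijective f hbij), P2_perm_three, this]

variable [Group.IsSolvable H]

theorem isSolvable_range {G : Type*} [Group G] (f : H →* G) : Group.IsSolvable f.range :=
  Group.isSolvable_of_surjective f.rangeRestrict_surjective

namespace Prim

variable (P : Prim H V)

theorem card_quot : Nat.card (H ⧸ Subgroup.centralizer (P.A : Set H)) ≤ P.e :=
  (Subgroup.index_eq_card _).symm.le.trans P.index_le

theorem P2_le : P2 H ≤
    P.e * Nat.card (H ⧸ Subgroup.centralizer (P.A : Set H)) *
      P2 (Subgroup.centralizer (P.A : Set H)) := by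
  haveI := P.normalA
  haveI : (Subgroup.centralizer (P.A : Set H)).Normal := inferInstance
  have h := P2_le_mul (QuotientGroup.mk' (Subgroup.centralizer (P.A : Set H)))
  rw [QuotientGroup.ker_mk'] at h
  exact h.trans (Nat.mul_le_mul_right _ ((P2_le_sq _).trans (Nat.mul_le_mul_right _ P.card_quot)))

theorem P2_abelian (hC : Subgroup.centralizer (P.A : Set H) = P.A) :
    P2 H ≤ P.e * Nat.card P.A * Nat.card H := by
  have h := P.P2_le
  rw [hC, P2_of_comm P.A (fun a b => Subtype.ext (P.comm a a.2 b b.2))] at h
  rw [Subgroup.card_eq_card_quotient_mul_card_subgroup P.A]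
  calc P2 H ≤ _ := h
    _ = _ := by ring

theorem card_pos_A : 0 < Nat.card P.A := Nat.card_pos

end Prim

namespace Inner

variable {P : Prim H V} (I : Inner P)

theorem card_kernel : Nat.card I.f.ker = Nat.card I.B :=
  Nat.card_congr ((MulEquiv.subgroupCongr I.ker_f).trans
    (Subgroup.subgroupOfEquivOfLe I.BC)).toEquiv

theorem card_eq : Nat.card H =
    Nat.card (H ⧸ Subgroup.centralizer (P.A : Set H)) * (Nat.card I.f.range * Nat.card I.B) := by
  rw [Subgroup.card_eq_card_quotient_mul_card_subgroup (Subgroup.centralizer (P.A : Set H)),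
    Subgroup.card_eq_card_quotient_mul_card_subgroup I.f.ker,
    Nat.card_congr (QuotientGroup.quotientKerEquivRange I.f).toEquiv, I.card_kernel]

theorem P2_le (c K : ℕ) (hK : c * P2 I.f.range ≤ K * Nat.card I.f.range) :
    2 * c * P2 H ≤ P.e * K * (Nat.card P.A * (I.M ^ 2 + 1)) * Nat.card H := by
  have h1 := P2_le_mul I.f.rangeRestrict
  rw [MonoidHom.ker_rangeRestrict, P2_congr ((MulEquiv.subgroupCongr I.ker_f).trans
    (Subgroup.subgroupOfEquivOfLe I.BC))] at h1
  have hB : 2 * P2 I.B ≤ Nat.card P.A * (I.M ^ 2 + 1) * Nat.card I.B := by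
    rw [P2_eq, ← mul_assoc]
    exact Nat.mul_le_mul_right _ I.class_B
  rw [I.card_eq]
  calc 2 * c * P2 H ≤ 2 * c * (P.e * Nat.card (H ⧸ Subgroup.centralizer (P.A : Set H)) *
          (P2 I.f.range * P2 I.B)) :=
        Nat.mul_le_mul_left _ (P.P2_le.trans (Nat.mul_le_mul_left _ h1))
    _ = P.e * Nat.card (H ⧸ Subgroup.centralizer (P.A : Set H)) *
          ((c * P2 I.f.range) * (2 * P2 I.B)) := by ring
    _ ≤ P.e * Nat.card (H ⧸ Subgroup.centralizer (P.A : Set H)) *
          ((K * Nat.card I.f.range) * (Nat.card P.A * (I.M ^ 2 + 1) * Nat.card I.B)) :=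
        Nat.mul_le_mul_left _ (Nat.mul_le_mul hK hB)
    _ = _ := by ring

end Inner

/-- **The class number bound.** -/
theorem two_mul_P2_le_sq : ∀ (N : ℕ) {H : Type u} [Group H] [Finite H] [Group.IsSolvable H]
    {V : Type u} [AddCommGroup V] [DistribMulAction H V] [Finite V],
    Nat.card V = N → 1 < N → Semi H V → Faith H V → 2 * P2 H ≤ N ^ 2 * Nat.card H := by
  intro N
  induction N using Nat.strong_induction_on with
  | _ N ih =>
    intro H _ _ _ V _ _ _ hN h1 hs hf
    haveI : Nontrivial V := Finite.one_lt_card_iff_nontrivial.1 (hN ▸ h1)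
    by_cases hd : ∃ r, Nonempty (Decomp H V r)
    · obtain ⟨r, ⟨D⟩⟩ := hd
      have h := D.P2_bound hs hf 2 (fun i => Nat.card (D.part i) ^ 2) fun i E hE ⟨L, hL⟩ => by
        haveI : Group.IsSolvable E := by rw [hL]; exact D.isSolvable_map i L
        exact ih _ (hN ▸ D.card_part_lt i) rfl (D.one_lt_card_part i) hE (faith_units E)
      rw [Finset.prod_pow, ← D.card_eq, hN] at h
      have h2 := D.two
      refine Nat.le_of_mul_le_mul_left (c := 2 ^ (r - 1)) ?_ (Nat.two_pow_pos _)
      calc 2 ^ (r - 1) * (2 * P2 H) = 2 ^ r * P2 H := by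
            rw [← mul_assoc, ← pow_succ, show r - 1 + 1 = r by omega]
        _ ≤ _ := h
        _ = _ := by ring
    · have hnd : NoDecomp H V := fun r D => hd ⟨r, ⟨D⟩⟩
      obtain ⟨P⟩ := exists_prim hnd hs hf
      rw [← hN, P.card_eq]
      by_cases hC : Subgroup.centralizer (P.A : Set H) = P.A
      · calc 2 * P2 H ≤ 2 * (P.e * Nat.card P.A * Nat.card H) :=
              Nat.mul_le_mul_left _ (P.P2_abelian hC)
          _ = 2 * P.e * Nat.card P.A * Nat.card H := by ring
          _ ≤ _ := Nat.mul_le_mul_right _
              (Numeric.abelian_class P.prime.two_le P.e_pos P.m_pos P.card_lt)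
      · obtain ⟨I⟩ := exists_inner P hC
        haveI := isSolvable_range (H := Subgroup.centralizer (P.A : Set H)) I.f
        have hW : I.M ^ 2 < N := by
          rw [← hN, P.card_eq]
          calc I.M ^ 2 ≤ P.m ^ 2 := Nat.pow_le_pow_left I.le_m 2
            _ < 3 ^ P.m := by
              have hm2 := I.two_le.trans I.le_m
              clear * - hm2
              generalize P.m = m at hm2 ⊢
              induction m, hm2 using Nat.le_induction with
              | base => norm_num
              | succ m hm ihm => rw [pow_succ 3]; nlinarith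
            _ ≤ (P.p ^ P.e) ^ P.m := Nat.pow_le_pow_left (by
              obtain ⟨r, hr, hrM⟩ := Nat.exists_prime_and_dvd (show I.M ≠ 1 by
                have := I.two_le; omega)
              have := Nat.le_of_dvd P.card_pos_A (I.prime_dvd r hr hrM)
              have := hr.two_le
              have := P.card_lt
              omega) _
            _ = _ := (pow_mul _ _ _).symm
        have h4 := ih _ hW I.card_W (by nlinarith [I.two_le]) I.semi (faith_units _)
        have h := I.P2_le 2 _ h4
        refine Nat.le_of_mul_le_mul_left (c := 2) ?_ two_pos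
        rw [← pow_mul] at h4
        calc 2 * (2 * P2 H) = 2 * 2 * P2 H := by ring
          _ ≤ _ := h
          _ ≤ 2 * (P.p ^ (P.e * P.m)) ^ 2 * Nat.card H := by
              refine Nat.mul_le_mul_right _ ?_
              rw [← pow_mul]
              exact Numeric.inner_class P.prime P.e_pos I.two_le I.le_m P.card_lt I.prime_dvd
                P.card_pos_A
          _ = _ := by ring

variable {H : Type u} [Group H] [Finite H] [Group.IsSolvable H] {V : Type u} [AddCommGroup V]
  [DistribMulAction H V] [Finite V]

theorem card_part_dvd {r : ℕ} (D : Decomp H V r) (i : Fin r) :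
    Nat.card (D.part i) ∣ Nat.card V :=
  AddSubgroup.card_addSubgroup_dvd_card _

/-- Class numbers on a group of order nine. -/
theorem P2_le_nine (hs : Semi H V) (hf : Faith H V) (h9 : Nat.card V = 9) :
    P2 H ≤ 16 * Nat.card H := by
  haveI : Nontrivial V := Finite.one_lt_card_iff_nontrivial.1 (by omega)
  by_cases hd : ∃ r, Nonempty (Decomp H V r)
  · obtain ⟨r, ⟨D⟩⟩ := hd
    have hpart : ∀ i, Nat.card (D.part i) = 3 := fun i => by
      have h1 := D.one_lt_card_part i
      have h2 := D.card_part_lt i
      have h3 := card_part_dvd D i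
      rw [h9] at h2 h3
      interval_cases hk : Nat.card (D.part i) <;> omega
    have hr : r = 2 := by
      have h := D.card_eq
      simp only [hpart, Finset.prod_const, Finset.card_univ, Fintype.card_fin, h9] at h
      exact (Nat.pow_right_injective (by norm_num : 2 ≤ 3) (show 3 ^ r = 3 ^ 2 by rw [← h]))
    subst hr
    have h := D.P2_bound hs hf 1 (fun _ => 2) fun i E _ _ => by
      rw [one_mul]
      refine (P2_le_sq E).trans (Nat.mul_le_mul_right _ ?_)
      have := card_le_of_prime (faith_units E) (hpart i ▸ Nat.prime_three)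
      rw [hpart i] at this
      omega
    simp only [one_pow, one_mul, Finset.prod_const, Finset.card_univ, Fintype.card_fin] at h
    omega
  · obtain ⟨P⟩ := exists_prim (fun r D => hd ⟨r, ⟨D⟩⟩) hs hf
    have hpn : P.p ^ (P.e * P.m) = 3 ^ 2 := by rw [← P.card_eq, h9]; rfl
    have hp3 : P.p = 3 := (Nat.prime_dvd_prime_iff_eq P.prime Nat.prime_three).1
      (P.prime.dvd_of_dvd_pow (n := 2) (hpn ▸ dvd_pow_self _
        (Nat.mul_ne_zero (by have := P.e_pos; omega) (by have := P.m_pos; omega))))
    rw [hp3] at hpn
    have hem : P.e * P.m = 2 := Nat.pow_right_injective (by norm_num : 2 ≤ 3) hpn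
    have hlt := P.card_lt
    rw [hp3] at hlt
    have he : P.e = 1 ∨ P.e = 2 := by
      have := Nat.le_of_dvd two_pos (hem ▸ dvd_mul_right P.e P.m)
      have := P.e_pos
      omega
    by_cases hC : Subgroup.centralizer (P.A : Set H) = P.A
    · refine (P.P2_abelian hC).trans (Nat.mul_le_mul_right _ ?_)
      rcases he with e | e <;> rw [e] at hlt ⊢ <;> norm_num at hlt <;> omega
    · obtain ⟨I⟩ := exists_inner P hC
      have h2 := I.two_le
      have h3 := I.le_m
      rcases he with e | e
      · have hm : P.m = 2 := by rw [e, one_mul] at hem; exact hem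
        have hM : I.M = 2 := by omega
        have h := I.P2_le 1 3 (by
          rw [one_mul]
          exact P2_le_four (faith_units _) (by rw [I.card_W, hM]; rfl))
        rw [e] at h hlt
        rw [hM] at h
        norm_num at h hlt
        have : Nat.card P.A * 15 * Nat.card H ≤ 30 * Nat.card H :=
          Nat.mul_le_mul_right _ (by omega)
        nlinarith
      · rw [e] at hem
        omega

set_option maxHeartbeats 1600000 in
/-- Class numbers on a group of order sixteen. -/
theorem P2_le_sixteen (hs : Semi H V) (hf : Faith H V) (h16 : Nat.card V = 16) :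
    P2 H ≤ 38 * Nat.card H := by
  classical
  haveI : Nontrivial V := Finite.one_lt_card_iff_nontrivial.1 (by omega)
  by_cases hd : ∃ r, Nonempty (Decomp H V r)
  · obtain ⟨r, ⟨D⟩⟩ := hd
    let G : ℕ → ℕ := fun k => if k = 2 then 1 else if k = 4 then 3 else 32
    have hpart : ∀ i, Nat.card (D.part i) = 2 ∨ Nat.card (D.part i) = 4 ∨
        Nat.card (D.part i) = 8 := fun i => by
      have h1 := D.one_lt_card_part i
      have h2 := D.card_part_lt i
      have h3 := card_part_dvd D i
      rw [h16] at h2 h3
      interval_cases hk : Nat.card (D.part i) <;> omega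
    have hyp : ∀ i, ∀ E : Subgroup (AddMonoid.End (D.part i))ˣ, Semi E (D.part i) →
        (∃ L : Subgroup D.perm.ker, E = L.map (D.rep i)) →
        1 * P2 E ≤ G (Nat.card (D.part i)) * Nat.card E := by
      intro i E hE ⟨L, hL⟩
      haveI : Group.IsSolvable E := by rw [hL]; exact D.isSolvable_map i L
      rw [one_mul]
      rcases hpart i with h | h | h <;> norm_num [G, h]
      · have := card_le_of_prime (faith_units E) (h ▸ Nat.prime_two)
        rw [h] at this
        exact (P2_le_sq E).trans ((Nat.mul_le_mul_right _ this).trans (one_mul _).le)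
      · exact P2_le_four (faith_units E) h
      · have := two_mul_P2_le_sq 8 h (by norm_num) hE (faith_units E)
        norm_num at this ⊢
        omega
    have hr : r ≤ 4 := by
      have h : 2 ^ r ≤ Nat.card V := by
        rw [D.card_eq]
        refine le_trans (le_of_eq ?_) (Finset.prod_le_prod' fun i _ => D.one_lt_card_part i)
        simp
      rw [h16, show 16 = 2 ^ 4 by norm_num] at h
      exact (Nat.pow_le_pow_iff_right (by norm_num : 1 < 2)).1 h
    have h2 := D.two
    have hprod := D.card_eq
    rw [h16] at hprod
    have main : ∀ K, P2 D.perm.range ≤ K * Nat.card D.perm.range →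
        K * (∏ i, G (Nat.card (D.part i))) ≤ 38 → P2 H ≤ 38 * Nat.card H := by
      intro K hK hle
      have h := D.P2_bound' hs hf 1 (fun i => G (Nat.card (D.part i))) K hK hyp
      rw [one_pow, one_mul] at h
      exact h.trans (Nat.mul_le_mul_right _ hle)
    rcases (by omega : r = 2 ∨ r = 3 ∨ r = 4) with rfl | rfl | rfl
    · rw [Fin.prod_univ_two] at hprod
      by_cases heq : Nat.card (D.part 0) = Nat.card (D.part 1)
      · refine main _ D.P2_perm_le ?_
        rw [Fin.prod_univ_two]
        rcases hpart 0 with a | a | a <;> rw [← heq, a] at hprod <;>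
          first | (norm_num at hprod; done) | norm_num [G, a, ← heq]
      · have htriv : Nat.card D.perm.range ≤ 1 := by
          rw [Finite.card_le_one_iff_subsingleton, subsingleton_iff]
          suffices h : ∀ x : D.perm.range, x = 1 from fun x y => (h x).trans (h y).symm
          rintro ⟨_, g, rfl⟩
          refine Subtype.ext (Equiv.ext fun i => ?_)
          show D.perm g i = i
          have hc := D.card_part_perm g i
          by_contra hne
          rcases (by omega : (i : ℕ) = 0 ∧ ((D.perm g i : Fin 2) : ℕ) = 1 ∨
              (i : ℕ) = 1 ∧ ((D.perm g i : Fin 2) : ℕ) = 0) with ⟨h0, h1⟩ | ⟨h0, h1⟩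
          · rw [show i = 0 from Fin.ext h0] at hc h1
            rw [show D.perm g 0 = 1 from Fin.ext h1] at hc
            exact heq hc.symm
          · rw [show i = 1 from Fin.ext h0] at hc h1
            rw [show D.perm g 1 = 0 from Fin.ext h1] at hc
            exact heq hc
        refine main 1 ((P2_le_sq _).trans (Nat.mul_le_mul_right _ htriv)) ?_
        rw [Fin.prod_univ_two]
        rcases hpart 0 with a | a | a <;> rcases hpart 1 with b | b | b <;>
          rw [a, b] at hprod heq <;> first | (norm_num at hprod; done) | (norm_num at heq; done) | norm_num [G, a, b]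
    · refine main _ D.P2_perm_le ?_
      rw [Fin.prod_univ_three] at hprod ⊢
      rcases hpart 0 with a | a | a <;> rcases hpart 1 with b | b | b <;>
        rcases hpart 2 with c | c | c <;> rw [a, b, c] at hprod <;>
        first | (norm_num at hprod; done) | norm_num [G, a, b, c]
    · refine main _ D.P2_perm_le ?_
      rw [Fin.prod_univ_four] at hprod ⊢
      rcases hpart 0 with a | a | a <;> rcases hpart 1 with b | b | b <;>
        rcases hpart 2 with c | c | c <;> rcases hpart 3 with d | d | d <;>
        rw [a, b, c, d] at hprod <;> first | (norm_num at hprod; done) | norm_num [G, a, b, c, d]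
  · obtain ⟨P⟩ := exists_prim (fun r D => hd ⟨r, ⟨D⟩⟩) hs hf
    have hpn : P.p ^ (P.e * P.m) = 2 ^ 4 := by rw [← P.card_eq, h16]; rfl
    have hp2 : P.p = 2 := (Nat.prime_dvd_prime_iff_eq P.prime Nat.prime_two).1
      (P.prime.dvd_of_dvd_pow (n := 4) (hpn ▸ dvd_pow_self _
        (Nat.mul_ne_zero (by have := P.e_pos; omega) (by have := P.m_pos; omega))))
    rw [hp2] at hpn
    have hem : P.e * P.m = 4 := Nat.pow_right_injective le_rfl hpn
    have hlt := P.card_lt
    have hnd := P.not_dvd
    rw [hp2] at hlt hnd
    have he : P.e = 1 ∨ P.e = 2 ∨ P.e = 4 := by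
      have h := hem ▸ dvd_mul_right P.e P.m
      have h' := Nat.le_of_dvd (by norm_num) h
      have := P.e_pos
      interval_cases hk : P.e <;> omega
    by_cases hC : Subgroup.centralizer (P.A : Set H) = P.A
    · rcases he with e | e | e
      · refine (P.P2_abelian hC).trans (Nat.mul_le_mul_right _ ?_)
        rw [e] at hlt ⊢; norm_num at hlt; omega
      · refine (P.P2_abelian hC).trans (Nat.mul_le_mul_right _ ?_)
        rw [e] at hlt ⊢; norm_num at hlt; omega
      · rw [e] at hlt
        norm_num at hlt
        by_cases hone : P.A = ⊤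
        · refine (P2_le_sq H).trans (Nat.mul_le_mul_right _ ?_)
          rw [← Subgroup.card_top, ← hone]
          omega
        · have hidx := P.index_le
          rw [hC, e] at hidx
          have hH : Nat.card H ≤ 4 * Nat.card P.A := by
            rw [← P.A.card_mul_index, mul_comm]
            exact Nat.mul_le_mul_right _ hidx
          have hZA : Subgroup.center H ≤ P.A := fun z hz => hC ▸
            Subgroup.mem_centralizer_iff.2 fun a _ => Subgroup.mem_center_iff.1 hz a
          have hlt' : Subgroup.center H < P.A := lt_of_le_of_ne hZA fun e' => hone (hC ▸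
            eq_top_iff.2 fun g _ => Subgroup.mem_centralizer_iff.2 fun a ha =>
              (Subgroup.mem_center_iff.1 (e'.ge ha) g).symm)
          have hZ2 : 2 * Nat.card (Subgroup.center H) ≤ Nat.card P.A := by
            obtain ⟨k, hk⟩ := Subgroup.card_dvd_of_le hlt'.le
            rcases (by omega : k = 0 ∨ k = 1 ∨ 2 ≤ k) with rfl | rfl | hk2
            · have := P.card_pos_A; omega
            · rw [mul_one] at hk
              exact absurd (Subgroup.eq_of_le_of_card_ge hlt'.le hk.le) hlt'.ne
            · rw [hk, mul_comm]; exact Nat.mul_le_mul_left _ hk2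
          have h := two_mul_P2_le H
          have h2 : (Nat.card H + Nat.card (Subgroup.center H)) * Nat.card H ≤ 76 * Nat.card H :=
            Nat.mul_le_mul_right _ (by omega)
          omega
    · obtain ⟨I⟩ := exists_inner P hC
      exfalso
      obtain ⟨r, hr, hrM⟩ := Nat.exists_prime_and_dvd (show I.M ≠ 1 by have := I.two_le; omega)
      have hra := I.prime_dvd r hr hrM
      have hra' := Nat.le_of_dvd P.card_pos_A hra
      have := hr.two_le
      have h2 := I.two_le
      have h3 := I.le_m
      rcases he with e | e | e <;> rw [e] at hem hlt <;> norm_num at hlt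
      · omega
      · have hM : I.M = 2 := by omega
        rw [hM] at hrM
        exact hnd ((Nat.prime_dvd_prime_iff_eq hr Nat.prime_two).1 hrM ▸ hra)
      · omega

end CfsgLib.SolvKGV
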