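import Cfsg.Agent.SolvKGV.ClassLower
import Cfsg.Agent.SolvKGV.KBound

/-!
# The inner part in dimensions two and three
-/

set_option autoImplicit false
set_option linter.unusedSectionVars false
set_option linter.style.haveILetI false

namespace CfsgLib.SolvKGV

universe u v

/-- The centraliser of an element is large if its powers avoid a central subgroup. -/
theorem mul_le_card_commute {C : Type*} [Group C] [Finite C] (A : Subgroup C)
    (hA : ∀ a ∈ A, ∀ c : C, c * a = a * c) (h : C) (k : ℕ)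
    (hk : ∀ i, 0 < i → i < k → h ^ i ∉ A) :
    Nat.card A * k ≤ Nat.card {x : C // h * x = x * h} := by
  rw [← Nat.card_fin k, ← Nat.card_prod]
  refine Nat.card_le_card_of_injective (fun z => ⟨h ^ (z.2 : ℕ) * (z.1 : C), ?_⟩) ?_
  · rw [← mul_assoc, ← pow_succ', pow_succ, mul_assoc, hA z.1 z.1.2 h, mul_assoc]
  · rintro ⟨a, i⟩ ⟨b, j⟩ e
    simp only [Subtype.mk.injEq] at e
    have key : ∀ (a b : A) (i j : ℕ), i ≤ j → j < k → h ^ i * (a : C) = h ^ j * (b : C) → i = j := by
      intro a b i j hij hj e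
      by_contra hne
      refine hk (j - i) (by omega) (by omega) ?_
      have : h ^ (j - i) = (a : C) * (b : C)⁻¹ := by
        rw [← pow_sub_mul_pow h hij] at e
        have e' := congrArg (fun z => z * (b : C)⁻¹) e
        simp only [mul_inv_cancel_right] at e'
        rw [mul_assoc] at e'
        have h2 := hA ((a : C) * (b : C)⁻¹) (A.mul_mem a.2 (A.inv_mem b.2)) (h ^ i)
        rw [h2] at e'
        exact (mul_right_cancel e').symm
      rw [this]
      exact A.mul_mem a.2 (A.inv_mem b.2)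
    have hij : (i : ℕ) = j := by
      rcases le_total (i : ℕ) j with hle | hle
      · exact key a b i j hle j.2 e
      · exact (key b a j i hle i.2 e.symm).symm
    obtain rfl := Fin.ext hij
    exact Prod.ext (Subtype.ext (mul_left_cancel e)) rfl

namespace Inner

variable {H : Type u} [Group H] [Finite H] {V : Type v} [AddCommGroup V] [DistribMulAction H V]
  [Finite V] {P : Prim H V} (I : Inner P)

theorem mem_B {c : H} (hc : c ∈ Subgroup.centralizer (P.A : Set H))
    (h : ∀ b ∈ I.B, c * b * c⁻¹ * b⁻¹ ∈ P.A) : c ∈ I.B := by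
  haveI := P.normalA
  haveI := I.normalB
  set C := Subgroup.centralizer (P.A : Set H)
  have hCA : ∀ x ∈ C, ∀ a ∈ P.A, x * a = a * x := fun x hx a ha =>
    (Subgroup.mem_centralizer_iff.1 hx a ha).symm
  let C₀ : Subgroup H :=
    { carrier := {x | x ∈ C ∧ ∀ b ∈ I.B, x * b * x⁻¹ * b⁻¹ ∈ P.A}
      one_mem' := ⟨C.one_mem, fun b _ => by simp⟩
      mul_mem' := fun {x y} hx hy => ⟨C.mul_mem hx.1 hy.1, fun b hb => by
        have h1 := hx.2 _ (I.normalB.conj_mem b hb y)
        have e : x * y * b * (x * y)⁻¹ * b⁻¹ =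
            (x * (y * b * y⁻¹) * x⁻¹ * (y * b * y⁻¹)⁻¹) * (y * b * y⁻¹ * b⁻¹) := by group
        rw [e]
        exact P.A.mul_mem h1 (hy.2 b hb)⟩
      inv_mem' := fun {x} hx => ⟨C.inv_mem hx.1, fun b hb => by
        have h1 := P.A.inv_mem (hx.2 _ (I.normalB.conj_mem b hb x⁻¹))
        have e : x⁻¹ * b * x⁻¹⁻¹ * b⁻¹ =
            (x * (x⁻¹ * b * x⁻¹⁻¹) * x⁻¹ * (x⁻¹ * b * x⁻¹⁻¹)⁻¹)⁻¹ := by group
        rw [e]
        exact h1⟩ }
  have hle : I.B ≤ C₀ := fun b hb => ⟨I.BC hb, fun b' hb' => I.com b hb b' hb'⟩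
  have hBA : ∀ x ∈ I.B, ∀ a ∈ P.A, x * a = a * x := fun x hx => hCA x (I.BC hx)
  have hp := card_pairing_le P.cyclic C₀ I.B P.A I.AB (fun x hx y hy => hx.2 y hy)
    (fun x hx => hCA x hx.1) hBA P.comm (fun x hx => hCA x hx.1) I.com
  have hcard : Nat.card C₀ ≤ Nat.card I.B := by
    refine Nat.le_of_mul_le_mul_right (hp.trans (Nat.mul_le_mul_left _ ?_)) (Nat.card_pos (α := P.A))
    exact Subgroup.card_le_of_le fun x hx => I.cenB.le ⟨hx.1.1, hx.2⟩
  exact (Subgroup.eq_of_le_of_card_ge hle hcard).ge ⟨hc, h⟩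

/-- A cyclic quotient is impossible. -/
theorem exists_comm_ne {x : H} (hx : x ∈ I.B) (hxA : x ∉ P.A) :
    ∃ y ∈ I.B, x * y * x⁻¹ * y⁻¹ ≠ 1 := by
  by_contra hall
  push Not at hall
  exact hxA (I.cenB.le ⟨I.BC hx, Subgroup.mem_centralizer_iff.2 fun y hy =>
    (mul_inv_eq_iff_eq_mul.1 (mul_inv_eq_one.1 (hall y hy))).symm⟩)

theorem card_centralizer : Nat.card (Subgroup.centralizer (P.A : Set H)) =
    Nat.card I.f.range * (Nat.card P.A * I.M ^ 2) := by
  rw [Subgroup.card_eq_card_quotient_mul_card_subgroup I.f.ker,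
    Nat.card_congr (QuotientGroup.quotientKerEquivRange I.f).toEquiv,
    Nat.card_congr ((MulEquiv.subgroupCongr I.ker_f).trans
      (Subgroup.subgroupOfEquivOfLe I.BC)).toEquiv, I.card_B]

theorem card_quot_B : Nat.card (I.B ⧸ P.A.subgroupOf I.B) = I.M ^ 2 := by
  have h := Subgroup.card_eq_card_quotient_mul_card_subgroup (P.A.subgroupOf I.B)
  rw [Nat.card_congr (Subgroup.subgroupOfEquivOfLe I.AB).toEquiv, I.card_B, mul_comm] at h
  exact (Nat.eq_of_mul_eq_mul_right Nat.card_pos h).symm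

theorem central {x : H} (hx : x ∈ Subgroup.centralizer (P.A : Set H)) {a : H} (ha : a ∈ P.A) :
    x * a = a * x := (Subgroup.mem_centralizer_iff.1 hx a ha).symm

theorem comm_mul_right {u v : H} (hu : u ∈ I.B) (hv : v ∈ I.B) {a : H} (ha : a ∈ P.A) :
    u * (v * a) * u⁻¹ * (v * a)⁻¹ = u * v * u⁻¹ * v⁻¹ := by
  have h := central (I.BC hu) ha
  calc u * (v * a) * u⁻¹ * (v * a)⁻¹ = u * v * (a * u⁻¹) * a⁻¹ * v⁻¹ := by group
    _ = u * v * (u⁻¹ * a) * a⁻¹ * v⁻¹ := by
        rw [← central ((Subgroup.centralizer (P.A : Set H)).inv_mem (I.BC hu)) ha]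
    _ = _ := by group

theorem comm_mul_left {u v : H} (hv : v ∈ I.B) {a : H} (ha : a ∈ P.A) :
    u * a * v * (u * a)⁻¹ * v⁻¹ = u * v * u⁻¹ * v⁻¹ := by
  calc u * a * v * (u * a)⁻¹ * v⁻¹ = u * (a * v) * a⁻¹ * u⁻¹ * v⁻¹ := by group
    _ = u * (v * a) * a⁻¹ * u⁻¹ * v⁻¹ := by rw [central (I.BC hv) ha]
    _ = _ := by group

/-- In dimension three the outer group is symplectic. -/
theorem card_range_le_of_three (hM : I.M = 3) : Nat.card I.f.range ≤ 24 := by
  classical
  haveI := P.normalA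
  haveI := I.normalB
  set C := Subgroup.centralizer (P.A : Set H)
  set A' := P.A.subgroupOf I.B
  let R := I.B ⧸ A'
  haveI : Fintype R := Fintype.ofFinite R
  have hR : Fintype.card R = 9 := by
    rw [← Nat.card_eq_fintype_card, I.card_quot_B, hM]; rfl
  have hAB : P.A ≠ I.B := fun e => by
    have := I.card_B
    rw [← e, hM] at this
    have := (Nat.card_pos (α := P.A))
    omega
  obtain ⟨x, hx, hxA⟩ : ∃ x ∈ I.B, x ∉ P.A := by
    by_contra! h
    exact hAB (le_antisymm I.AB h)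
  obtain ⟨y, hy, hxy⟩ := I.exists_comm_ne hx hxA
  set a₀ := x * y * x⁻¹ * y⁻¹
  have hout : ∀ b : I.B, ∃ a ∈ P.A, (((b : R).out : I.B) : H) = (b : H) * a := fun b => by
    obtain ⟨a, ha⟩ := QuotientGroup.mk_out_eq_mul A' b
    exact ⟨_, a.2, by rw [ha]; rfl⟩
  -- centralisers of elements outside `A`
  have hK : ∀ u ∈ I.B, u ∉ P.A →
      Nat.card (I.B ⊓ Subgroup.centralizer {u} : Subgroup H) ≤ 3 * Nat.card P.A := by
    intro u hu huA
    set K := I.B ⊓ Subgroup.centralizer ({u} : Set H)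
    have hAK : P.A ≤ K := fun a ha =>
      ⟨I.AB ha, Subgroup.mem_centralizer_singleton_iff.2 (central (I.BC hu) ha).symm⟩
    have hKB : K ≠ I.B := fun e => by
      obtain ⟨z, hz, hne⟩ := I.exists_comm_ne hu huA
      have hzK : z ∈ K := e.ge hz
      refine hne ?_
      rw [← (Subgroup.mem_centralizer_singleton_iff.1 hzK.2), mul_inv_cancel_right,
        mul_inv_cancel]
    obtain ⟨i, hi⟩ := Subgroup.card_dvd_of_le hAK
    have hd := Subgroup.card_dvd_of_le (inf_le_left : K ≤ I.B)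
    rw [hi, I.card_B, hM] at hd
    have hd' : i ∣ 9 := Nat.dvd_of_mul_dvd_mul_left (Nat.card_pos (α := P.A)) hd
    have hi9 : i ≠ 9 := fun e => hKB (Subgroup.eq_of_le_of_card_ge inf_le_left
      (by rw [hi, I.card_B, hM, e]; rfl))
    have := Nat.le_of_dvd (by norm_num) hd'
    have : i ≤ 3 := by interval_cases i <;> omega
    rw [hi, mul_comm]
    exact Nat.mul_le_mul_right _ this
  let S : Finset (R × R) := Finset.univ.filter fun z => z.1 ≠ 1 ∧
    ((z.1.out : I.B) : H) * (z.2.out : I.B) * ((z.1.out : I.B) : H)⁻¹ *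
      ((z.2.out : I.B) : H)⁻¹ = a₀
  have hS : S.card ≤ 24 := by
    have : S ⊆ (Finset.univ.erase (1 : R)).biUnion fun u => S.filter fun z => z.1 = u := by
      intro z hz
      simp only [S, Finset.mem_filter, Finset.mem_univ, true_and] at hz
      simp [S, hz.1, hz.2]
    refine (Finset.card_le_card this).trans (Finset.card_biUnion_le_card_mul _ _ 3 fun u hu => ?_
      ) |>.trans ?_
    · rcases (S.filter fun z => z.1 = u).eq_empty_or_nonempty with h0 | ⟨z₀, hz₀⟩
      · rw [h0]; simp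
      simp only [Finset.mem_filter, S, Finset.mem_univ, true_and] at hz₀
      obtain ⟨⟨hu1, he₀⟩, rfl⟩ := hz₀
      set U : H := ((z₀.1.out : I.B) : H)
      have hU : U ∈ I.B := (z₀.1.out).2
      have hUA : U ∉ P.A := fun h => hu1 (by
        rw [← z₀.1.out_eq', QuotientGroup.eq_one_iff]; exact h)
      set K := I.B ⊓ Subgroup.centralizer ({U} : Set H)
      set Z := S.filter fun z => z.1 = z₀.1
      refine Nat.le_of_mul_le_mul_right (c := Nat.card P.A) ?_ (Nat.card_pos (α := P.A))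
      refine le_trans ?_ (hK U hU hUA)
      rw [← Nat.card_eq_finsetCard, ← Nat.card_prod]
      have hmem : ∀ z : Z, ((z₀.2.out : I.B) : H)⁻¹ * ((z.1.2.out : I.B) : H) ∈ K := by
        rintro ⟨z, hz⟩
        simp only [Z, Finset.mem_filter, S, Finset.mem_univ, true_and] at hz
        obtain ⟨⟨-, hz⟩, h1⟩ := hz
        rw [h1] at hz
        refine ⟨I.B.mul_mem (I.B.inv_mem (z₀.2.out).2) (z.2.out).2,
          Subgroup.mem_centralizer_singleton_iff.2 ?_⟩
        have e1 : U * (z.2.out : I.B) * U⁻¹ = a₀ * (z.2.out : I.B) := by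
          rw [← hz]; simp only [U]; group
        have e2 : U * ((z₀.2.out : I.B) : H) * U⁻¹ = a₀ * (z₀.2.out : I.B) := by rw [← he₀]; group
        have e3 : U * (((z₀.2.out : I.B) : H)⁻¹ * (z.2.out : I.B)) * U⁻¹ =
            ((z₀.2.out : I.B) : H)⁻¹ * (z.2.out : I.B) := by
          calc U * (((z₀.2.out : I.B) : H)⁻¹ * (z.2.out : I.B)) * U⁻¹
              = (U * ((z₀.2.out : I.B) : H) * U⁻¹)⁻¹ * (U * (z.2.out : I.B) * U⁻¹) := by group
            _ = _ := by rw [e1, e2]; group
        exact (mul_inv_eq_iff_eq_mul.1 e3).symm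
      refine Nat.card_le_card_of_injective (fun w : Z × P.A => (⟨_, K.mul_mem (hmem w.1)
        (⟨I.AB w.2.2, Subgroup.mem_centralizer_singleton_iff.2
          (central (I.BC hU) w.2.2).symm⟩ : (w.2 : H) ∈ K)⟩ : K)) ?_
      rintro ⟨⟨z, hz⟩, a⟩ ⟨⟨z', hz'⟩, a'⟩ e
      simp only [Subtype.mk.injEq, mul_assoc, mul_right_inj] at e
      simp only [Z, Finset.mem_filter] at hz hz'
      have h2 : z.2 = z'.2 := by
        rw [← z.2.out_eq', ← z'.2.out_eq', QuotientGroup.eq, Subgroup.mem_subgroupOf]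
        show ((z.2.out : I.B) : H)⁻¹ * ((z'.2.out : I.B) : H) ∈ P.A
        rw [eq_mul_inv_of_mul_eq e.symm]
        simpa [mul_assoc] using P.A.mul_mem a.2 (P.A.inv_mem a'.2)
      have hz2 : z = z' := Prod.ext (hz.2.trans hz'.2.symm) h2
      subst hz2
      exact Prod.ext rfl (Subtype.ext (mul_left_cancel e))
    · rw [Finset.card_erase_of_mem (Finset.mem_univ _), Finset.card_univ, hR]
  refine le_trans ?_ hS
  rw [← Nat.card_congr (QuotientGroup.quotientKerEquivRange I.f).toEquiv,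
    ← Nat.card_eq_finsetCard]
  let cj : C → I.B → R := fun c b =>
    ((⟨(c : H) * b * (c : H)⁻¹, I.normalB.conj_mem _ b.2 _⟩ : I.B) : R)
  have hmem : ∀ c : C, (cj c ⟨x, hx⟩, cj c ⟨y, hy⟩) ∈ S := by
    intro c
    simp only [S, Finset.mem_filter, Finset.mem_univ, true_and]
    refine ⟨fun e => hxA ?_, ?_⟩
    · have h := (QuotientGroup.eq_one_iff _).1 e
      rw [Subgroup.mem_subgroupOf] at h
      simpa [mul_assoc] using P.normalA.conj_mem _ h (c : H)⁻¹
    · obtain ⟨a, ha, e1⟩ := hout ⟨(c : H) * x * (c : H)⁻¹, I.normalB.conj_mem _ hx _⟩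
      obtain ⟨a', ha', e2⟩ := hout ⟨(c : H) * y * (c : H)⁻¹, I.normalB.conj_mem _ hy _⟩
      simp only [cj]
      rw [e1, e2, I.comm_mul_left (I.B.mul_mem (I.normalB.conj_mem _ hy _) (I.AB ha')) ha,
        I.comm_mul_right (I.normalB.conj_mem _ hx _) (I.normalB.conj_mem _ hy _) ha']
      have h := central c.2 (I.com x hx y hy)
      calc (c : H) * x * (c : H)⁻¹ * ((c : H) * y * (c : H)⁻¹) * ((c : H) * x * (c : H)⁻¹)⁻¹ *
            ((c : H) * y * (c : H)⁻¹)⁻¹ = (c : H) * a₀ * (c : H)⁻¹ := by simp only [a₀]; group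
        _ = _ := by rw [h]; simp only [a₀]; group
  let Φ : (C ⧸ I.f.ker) → S := fun q => ⟨_, hmem q.out⟩
  refine Nat.card_le_card_of_injective Φ fun p q e => ?_
  simp only [Φ, Subtype.mk.injEq, Prod.mk.injEq, cj] at e
  rw [← p.out_eq', ← q.out_eq', QuotientGroup.eq]
  refine (SetLike.ext_iff.1 I.ker_f _).2 (Subgroup.mem_subgroupOf.2 ?_)
  set c : H := ((p.out : C) : H)⁻¹ * ((q.out : C) : H)
  have hc : c ∈ C := C.mul_mem (C.inv_mem p.out.2) q.out.2
  refine I.mem_B hc fun b hb => ?_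
  let F : Subgroup H :=
    { carrier := {b | b ∈ I.B ∧ c * b * c⁻¹ * b⁻¹ ∈ P.A}
      one_mem' := ⟨I.B.one_mem, by simp⟩
      mul_mem' := fun {b b'} hb hb' => ⟨I.B.mul_mem hb.1 hb'.1, by
        have e : c * (b * b') * c⁻¹ * (b * b')⁻¹ =
            (c * b * c⁻¹ * b⁻¹) * (b * (c * b' * c⁻¹ * b'⁻¹) * b⁻¹) := by group
        rw [e]
        exact P.A.mul_mem hb.2 (P.normalA.conj_mem _ hb'.2 b)⟩
      inv_mem' := fun {b} hb => ⟨I.B.inv_mem hb.1, by
        have e : c * b⁻¹ * c⁻¹ * b⁻¹⁻¹ = b⁻¹ * (c * b * c⁻¹ * b⁻¹)⁻¹ * b⁻¹⁻¹ := by group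
        rw [e]
        exact P.normalA.conj_mem _ (P.A.inv_mem hb.2) _⟩ }
  have hgen : ∀ z, (hz : z ∈ I.B) →
      (cj p.out ⟨z, hz⟩ = cj q.out ⟨z, hz⟩) → z ∈ F := fun z hz hez => by
    refine ⟨hz, ?_⟩
    have h := QuotientGroup.eq.1 hez
    rw [Subgroup.mem_subgroupOf] at h
    have h2 := P.normalA.conj_mem _ h ((p.out : C) : H)⁻¹
    have h3 := P.normalA.conj_mem _ h2 z
    simp only [Subgroup.coe_mul, Subgroup.coe_inv] at h3
    convert h3 using 1
    simp only [c]
    group
  have hxF := hgen x hx e.1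
  have hyF := hgen y hy e.2
  have hAF : P.A ≤ F := fun a ha => ⟨I.AB ha, by
    rw [central hc ha, mul_inv_cancel_right, mul_inv_cancel]; exact P.A.one_mem⟩
  -- `F` is all of `B`
  set K := I.B ⊓ Subgroup.centralizer ({x} : Set H)
  have hyK : y ∉ K := fun h => hxy (by
    simp only [a₀]
    rw [← (Subgroup.mem_centralizer_singleton_iff.1 h.2), mul_inv_cancel_right,
      mul_inv_cancel])
  have hFB : F = I.B := by
    refine Subgroup.eq_of_le_of_card_ge (fun b hb => hb.1) ?_
    obtain ⟨i, hi⟩ := Subgroup.card_dvd_of_le hAF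
    have hd := Subgroup.card_dvd_of_le (fun b hb => hb.1 : F ≤ I.B)
    rw [hi, I.card_B, hM] at hd
    have hd' : i ∣ 9 := Nat.dvd_of_mul_dvd_mul_left (Nat.card_pos (α := P.A)) hd
    have := Nat.le_of_dvd (by norm_num) hd'
    -- `A ⟨x⟩` has order `3t`
    have hFK : 3 * Nat.card P.A ≤ Nat.card (F ⊓ K : Subgroup H) := by
      obtain ⟨j, hj⟩ := Subgroup.card_dvd_of_le
        (le_inf hAF fun a ha => ⟨I.AB ha, Subgroup.mem_centralizer_singleton_iff.2
          (central (I.BC hx) ha).symm⟩ : P.A ≤ F ⊓ K)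
      have hd2 := Subgroup.card_dvd_of_le ((inf_le_left).trans fun b hb => hb.1 : F ⊓ K ≤ I.B)
      rw [hj, I.card_B, hM] at hd2
      have hd3 : j ∣ 9 := Nat.dvd_of_mul_dvd_mul_left (Nat.card_pos (α := P.A)) hd2
      have hle : P.A ≤ F ⊓ K := le_inf hAF fun a ha => ⟨I.AB ha,
        Subgroup.mem_centralizer_singleton_iff.2 (central (I.BC hx) ha).symm⟩
      have hj1 : j ≠ 1 := fun e => by
        refine hxA ((Subgroup.eq_of_le_of_card_ge hle (by rw [hj, e, mul_one])).ge ?_)
        exact ⟨hxF, hx, Subgroup.mem_centralizer_singleton_iff.2 rfl⟩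
      have := Nat.le_of_dvd (by norm_num) hd3
      have : 3 ≤ j := by interval_cases j <;> omega
      rw [hj, mul_comm]
      exact Nat.mul_le_mul_left _ this
    have hlt : Nat.card (F ⊓ K : Subgroup H) < Nat.card F := by
      by_contra hle
      push Not at hle
      exact hyK ((Subgroup.eq_of_le_of_card_ge inf_le_left hle).ge hyF).2
    rw [hi] at hlt
    have : 3 < i := Nat.lt_of_mul_lt_mul_left (a := Nat.card P.A) (by rw [mul_comm]; omega)
    have : i = 9 := by interval_cases i <;> omega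
    rw [hi, I.card_B, hM, this]; rfl
  exact (hFB.ge hb).2

/-- Squares lie in `A` in dimension two. -/
theorem sq_mem_of_two (hM : I.M = 2) {b : H} (hb : b ∈ I.B) : b ^ 2 ∈ P.A := by
  by_contra hb2
  haveI := P.normalA
  set K := I.B ⊓ Subgroup.centralizer ({b} : Set H)
  have hbA : b ∉ P.A := fun h => hb2 (P.A.pow_mem h 2)
  have hAK : P.A ≤ K := fun a ha =>
    ⟨I.AB ha, Subgroup.mem_centralizer_singleton_iff.2 (central (I.BC hb) ha).symm⟩
  let A' := P.A.subgroupOf K
  have hd := Subgroup.card_dvd_of_le (inf_le_left : K ≤ I.B)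
  obtain ⟨i, hi⟩ := Subgroup.card_dvd_of_le hAK
  rw [hi, I.card_B, hM] at hd
  have hd' : i ∣ 4 := Nat.dvd_of_mul_dvd_mul_left (Nat.card_pos (α := P.A)) hd
  have hKB : K ≠ I.B := fun e => by
    obtain ⟨z, hz, hne⟩ := I.exists_comm_ne hb hbA
    have hzK : z ∈ K := e.ge hz
    refine hne ?_
    rw [← (Subgroup.mem_centralizer_singleton_iff.1 hzK.2), mul_inv_cancel_right, mul_inv_cancel]
  have hi4 : i ≠ 4 := fun e => hKB (Subgroup.eq_of_le_of_card_ge inf_le_left
    (by rw [hi, I.card_B, hM, e]; rfl))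
  have := Nat.le_of_dvd (by norm_num) hd'
  -- the powers of `b`
  have hq : Nat.card (K ⧸ A') = i := by
    have h := Subgroup.card_eq_card_quotient_mul_card_subgroup A'
    rw [Nat.card_congr (Subgroup.subgroupOfEquivOfLe hAK).toEquiv, hi, mul_comm] at h
    exact (Nat.eq_of_mul_eq_mul_right (Nat.card_pos (α := P.A)) h).symm
  have hbK : b ∈ K := ⟨hb, Subgroup.mem_centralizer_singleton_iff.2 rfl⟩
  haveI : A'.Normal := P.normalA.subgroupOf K
  have hp := pow_card_eq_one' (x := ((⟨b, hbK⟩ : K) : K ⧸ A'))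
  rw [hq, ← QuotientGroup.mk_pow, QuotientGroup.eq_one_iff, Subgroup.mem_subgroupOf] at hp
  have hp' : b ^ i ∈ P.A := hp
  have : i = 1 ∨ i = 2 := by interval_cases i <;> omega
  rcases this with rfl | rfl
  · exact hbA (by simpa using hp')
  · exact hb2 hp'

/-- The commuting pairs in dimension two. -/
theorem P2_lower_two (hM : I.M = 2) : Nat.card P.A ^ 2 * (18 * Nat.card I.f.range - 12) ≤
    P2 (Subgroup.centralizer (P.A : Set H)) := by
  classical
  haveI := P.normalA
  haveI := I.normalB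
  set C := Subgroup.centralizer (P.A : Set H) with hC
  set t := Nat.card P.A
  set A' := P.A.subgroupOf I.B
  let R := I.B ⧸ A'
  let AC := P.A.subgroupOf C
  let Q := C ⧸ I.f.ker
  haveI : Fintype R := Fintype.ofFinite R
  haveI : Fintype C := Fintype.ofFinite C
  haveI : Fintype Q := Fintype.ofFinite Q
  haveI : Fintype P.A := Fintype.ofFinite P.A
  have hR : Fintype.card R = 4 := by
    rw [← Nat.card_eq_fintype_card, I.card_quot_B, hM]; rfl
  have hQ : Fintype.card Q = Nat.card I.f.range := by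
    rw [← Nat.card_eq_fintype_card]
    exact Nat.card_congr (QuotientGroup.quotientKerEquivRange I.f).toEquiv
  have hCc : Nat.card C = Nat.card I.f.range * (t * 4) := by
    rw [I.card_centralizer, hM]; rfl
  have hAC : ∀ a : C, (a : H) ∈ P.A → ∀ c : C, c * a = a * c := fun a ha c =>
    Subtype.ext (central c.2 ha)
  have hACcard : Nat.card AC = t := Nat.card_congr (Subgroup.subgroupOfEquivOfLe
    (I.AB.trans I.BC)).toEquiv
  let cc : C → ℕ := fun h => Nat.card {x : C // h * x = x * h}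
  have hccA : ∀ (h a : C), (a : H) ∈ P.A → cc (h * a) = cc h := fun h a ha =>
    Nat.card_congr (Equiv.subtypeEquivRight fun x => by
      rw [mul_assoc, ← hAC a ha x, ← mul_assoc, ← mul_assoc, mul_left_inj])
  let ι : I.B → C := fun b => ⟨(b : H), I.BC b.2⟩
  let r : R → C := fun d => ι d.out
  have hr : ∀ b : I.B, ∃ a : C, (a : H) ∈ P.A ∧ r (b : R) = ι b * a := fun b => by
    obtain ⟨a, ha⟩ := QuotientGroup.mk_out_eq_mul A' b
    exact ⟨ι a, a.2, Subtype.ext (congrArg (fun z : I.B => (z : H)) ha)⟩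
  have hP2 : P2 C = ∑ h : C, cc h := by
    rw [P2, Nat.card_congr (Equiv.subtypeProdEquivSigmaSubtype fun g h : C => g * h = h * g),
      Nat.card_sigma]
  -- the decomposition
  let ψ : Q × R × P.A → C := fun z => z.1.out * r z.2.1 * ⟨z.2.2, I.BC (I.AB z.2.2.2)⟩
  have hmemB : ∀ c : C, c ∈ I.f.ker ↔ (c : H) ∈ I.B := fun c => by
    rw [I.ker_f, Subgroup.mem_subgroupOf]
  have hψ : Function.Bijective ψ := by
    refine (Fintype.bijective_iff_injective_and_card ψ).2 ⟨?_, ?_⟩
    · rintro ⟨q, d, a⟩ ⟨q', d', a'⟩ e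
      simp only [ψ] at e
      have hq : q = q' := by
        rw [← q.out_eq', ← q'.out_eq', QuotientGroup.eq, hmemB]
        have h1 : (q.out : C)⁻¹ * q'.out = r d * ⟨a, I.BC (I.AB a.2)⟩ *
            (r d' * ⟨a', I.BC (I.AB a'.2)⟩)⁻¹ := by
          rw [eq_mul_inv_iff_mul_eq, mul_assoc, ← mul_assoc q'.out, ← e]
          group
        rw [h1]
        exact I.B.mul_mem (I.B.mul_mem d.out.2 (I.AB a.2))
          (I.B.inv_mem (I.B.mul_mem d'.out.2 (I.AB a'.2)))
      subst hq
      simp only [mul_assoc, mul_right_inj] at e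
      have e' : ((d.out : I.B) : H) * a = ((d'.out : I.B) : H) * a' := congrArg Subtype.val e
      have hd : d = d' := by
        rw [← d.out_eq', ← d'.out_eq', QuotientGroup.eq, Subgroup.mem_subgroupOf]
        show ((d.out : I.B) : H)⁻¹ * (d'.out : I.B) ∈ P.A
        rw [eq_mul_inv_of_mul_eq e'.symm]
        simpa [mul_assoc] using P.A.mul_mem a.2 (P.A.inv_mem a'.2)
      subst hd
      exact Prod.ext rfl (Prod.ext rfl (Subtype.ext (mul_left_cancel e')))
    · rw [Fintype.card_prod, Fintype.card_prod, hQ, hR, ← Nat.card_eq_fintype_card (α := P.A),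
        ← Nat.card_eq_fintype_card (α := C), hCc, mul_comm 4]
  let S : C → ℕ := fun g => ∑ d : R, cc (g * r d)
  have hsum : P2 C = ∑ q : Q, t * S q.out := by
    rw [hP2, ← Equiv.sum_comp (Equiv.ofBijective ψ hψ), Fintype.sum_prod_type]
    refine Finset.sum_congr rfl fun q _ => ?_
    rw [Fintype.sum_prod_type, Finset.mul_sum]
    refine Finset.sum_congr rfl fun d _ => ?_
    rw [Finset.sum_congr rfl fun a _ => show cc (Equiv.ofBijective ψ hψ (q, d, a)) =
      cc (q.out * r d) from hccA _ _ a.2, Finset.sum_const, Finset.card_univ, smul_eq_mul]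
    congr 1
    rw [← Nat.card_eq_fintype_card]
  have hshift : ∀ (g : C) (b : I.B), S (g * ι b) = S g := by
    intro g b
    refine Fintype.sum_equiv (Equiv.mulLeft (b : R)) _ _ fun d => ?_
    obtain ⟨a, ha, e⟩ := hr (b * d.out)
    have e' : r ((b : R) * d) = ι b * r d * a := by
      rw [show ((b : R) * d) = ((b * d.out : I.B) : R) from
        (congrArg ((b : R) * ·) d.out_eq'.symm).trans rfl, e]
      rfl
    rw [Equiv.coe_mulLeft, e', ← mul_assoc, hccA _ _ ha, ← mul_assoc]
  -- the identity coset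
  have h1 : 6 * (Nat.card I.f.range * t) ≤ S 1 := by
    have hone : cc (r 1) = Nat.card C := by
      obtain ⟨a, ha, e⟩ := hr 1
      rw [show r (1 : R) = r ((1 : I.B) : R) from rfl, e, show ι 1 = 1 from rfl, hccA _ _ ha]
      exact Nat.card_congr (Equiv.subtypeUnivEquiv fun x => by rw [one_mul, mul_one])
    have hinv : ∀ d : R, d ≠ 1 → Nat.card C ≤ 6 * cc (r d) := by
      intro d hd
      set b : C := r d
      have hbB : (b : H) ∈ I.B := d.out.2
      have hbA : (b : H) ∉ P.A := fun h => hd (by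
        rw [← d.out_eq', QuotientGroup.eq_one_iff]; exact h)
      let K := Subgroup.centralizer ({b} : Set C)
      have hK : cc b = Nat.card K := Nat.card_congr (Equiv.subtypeEquivRight fun x => by
        rw [Subgroup.mem_centralizer_singleton_iff]; exact eq_comm)
      rw [hK, ← K.card_mul_index, mul_comm (Nat.card K)]
      refine Nat.mul_le_mul_right _ ?_
      rw [Subgroup.index_eq_card]
      let cls : C ⧸ K → {u : I.B // (u : H) ∉ P.A ∧ (u : H) ^ 2 = (b : H) ^ 2} := fun q =>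
        ⟨⟨(q.out : H) * b * (q.out : H)⁻¹, I.normalB.conj_mem _ hbB _⟩,
          fun h => hbA (by simpa [mul_assoc] using P.normalA.conj_mem _ h (q.out : H)⁻¹), by
          show ((q.out : H) * b * (q.out : H)⁻¹) ^ 2 = _
          rw [conj_pow, central q.out.2 (I.sq_mem_of_two hM hbB), mul_inv_cancel_right]⟩
      have hcls : Function.Injective cls := fun q q' e => by
        rw [← q.out_eq', ← q'.out_eq', QuotientGroup.eq, Subgroup.mem_centralizer_singleton_iff]
        have e' : (q.out : H) * b * (q.out : H)⁻¹ = (q'.out : H) * b * (q'.out : H)⁻¹ :=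
          congrArg (fun z => ((z : I.B) : H)) (congrArg Subtype.val e)
        refine Subtype.ext ?_
        show ((q.out : H)⁻¹ * q'.out) * b = b * ((q.out : H)⁻¹ * q'.out)
        calc ((q.out : H)⁻¹ * q'.out) * b
            = (q.out : H)⁻¹ * ((q'.out : H) * b * (q'.out : H)⁻¹) * q'.out := by group
          _ = _ := by rw [← e']; group
      refine (Nat.card_le_card_of_injective cls hcls).trans ?_
      set U := {u : I.B // (u : H) ∉ P.A ∧ (u : H) ^ 2 = (b : H) ^ 2}
      haveI : Fintype U := Fintype.ofFinite U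
      rw [← Nat.card_congr (Equiv.sigmaFiberEquiv fun u : U => ((u.1 : I.B) : R)), Nat.card_sigma,
        ← Finset.add_sum_erase _ _ (Finset.mem_univ (1 : R))]
      have h0 : Nat.card {u : U // ((u.1 : I.B) : R) = 1} = 0 := by
        haveI : IsEmpty {u : U // ((u.1 : I.B) : R) = 1} :=
          ⟨fun u => u.1.2.1 (Subgroup.mem_subgroupOf.1 ((QuotientGroup.eq_one_iff u.1.1).1 u.2))⟩
        exact Nat.card_of_isEmpty
      rw [h0, zero_add]
      refine (Finset.sum_le_card_nsmul _ _ 2 fun e _ => ?_).trans (le_of_eq (by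
        rw [Finset.card_erase_of_mem (Finset.mem_univ _), Finset.card_univ, hR]; rfl))
      rcases isEmpty_or_nonempty {u : U // ((u.1 : I.B) : R) = e} with hE | ⟨⟨u₀⟩⟩
      · simp
      let aa : {u : U // ((u.1 : I.B) : R) = e} → {a : P.A // a ^ 2 = 1} := fun u =>
        ⟨⟨((u₀.1.1 : I.B) : H)⁻¹ * (u.1.1 : I.B),
          Subgroup.mem_subgroupOf.1 (QuotientGroup.eq.1 (u₀.2.trans u.2.symm))⟩, Subtype.ext (by
          set x : H := ((u₀.1.1 : I.B) : H)
          set a : H := x⁻¹ * ((u.1.1 : I.B) : H)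
          have ha : a ∈ P.A := Subgroup.mem_subgroupOf.1 (QuotientGroup.eq.1 (u₀.2.trans u.2.symm))
          show a ^ 2 = 1
          have h2 : (x * a) ^ 2 = x ^ 2 * a ^ 2 :=
            Commute.mul_pow (central (I.BC (u₀.1.1).2) ha) 2
          rw [show x * a = ((u.1.1 : I.B) : H) by simp [a], u.1.2.2, u₀.1.2.2] at h2
          exact (mul_eq_left.1 h2.symm))⟩
      haveI := P.cyclic
      have hcyc : Nat.card {a : P.A // a ^ 2 = 1} ≤ 2 := by
        rw [Nat.card_eq_fintype_card, Fintype.card_subtype]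
        exact IsCyclic.card_pow_eq_one_le two_pos
      refine le_trans (Nat.card_le_card_of_injective aa fun u v e => ?_) hcyc
      exact Subtype.ext (Subtype.ext (Subtype.ext (mul_left_cancel
        (congrArg (fun z : {a : P.A // a ^ 2 = 1} => ((z.1 : P.A) : H)) e :))))
    show _ ≤ ∑ d : R, cc (1 * r d)
    simp only [one_mul]
    rw [← Finset.add_sum_erase _ _ (Finset.mem_univ (1 : R)), hone]
    have h3 : 3 * Nat.card C ≤ 6 * ∑ d ∈ Finset.univ.erase (1 : R), cc (r d) := by
      rw [Finset.mul_sum]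
      refine le_trans (le_of_eq ?_)
        (Finset.card_nsmul_le_sum _ _ _ fun d hd => hinv d (Finset.mem_erase.1 hd).1)
      rw [Finset.card_erase_of_mem (Finset.mem_univ _), Finset.card_univ, hR]; rfl
    rw [hCc] at h3 ⊢
    nlinarith
  -- the other cosets
  have h2 : ∀ q : Q, q ≠ 1 → 12 * t ≤ S q.out := by
    intro q hq
    have hqB : ∀ b : I.B, ((q.out * ι b : C) : H) ∉ I.B := fun b h => hq (by
      rw [← q.out_eq', QuotientGroup.eq_one_iff, hmemB]
      simpa [ι] using I.B.mul_mem h (I.B.inv_mem b.2))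
    have hqA : ∀ d, ((q.out * r d : C) : H) ∉ P.A := fun d h => hqB d.out (I.AB h)
    by_cases hall : ∀ d, ((q.out * r d : C) : H) ^ 2 ∉ P.A
    · refine le_trans (le_of_eq ?_)
        (Finset.card_nsmul_le_sum Finset.univ _ (t * 3) fun d _ => ?_)
      · rw [Finset.card_univ, hR, smul_eq_mul]; ring
      · rw [← hACcard]
        refine mul_le_card_commute AC (fun a ha c => hAC a ha c) _ 3 fun i h0 h3 hi => ?_
        rw [Subgroup.mem_subgroupOf] at hi
        interval_cases i
        · exact hqA d (by simpa using hi)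
        · exact hall d hi
    push Not at hall
    obtain ⟨d₀, hd₀⟩ := hall
    rw [← hshift q.out d₀.out]
    set g : C := q.out * ι d₀.out
    have hgB : (g : H) ∉ I.B := hqB d₀.out
    have hg2 : (g : H) ^ 2 ∈ P.A := hd₀
    let F : Subgroup H :=
      { carrier := {b | b ∈ I.B ∧ (g : H) * b * (g : H)⁻¹ * b⁻¹ ∈ P.A}
        one_mem' := ⟨I.B.one_mem, by simp⟩
        mul_mem' := fun {b b'} hb hb' => ⟨I.B.mul_mem hb.1 hb'.1, by
          have e : (g : H) * (b * b') * (g : H)⁻¹ * (b * b')⁻¹ =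
              ((g : H) * b * (g : H)⁻¹ * b⁻¹) *
                (b * ((g : H) * b' * (g : H)⁻¹ * b'⁻¹) * b⁻¹) := by group
          rw [e]
          exact P.A.mul_mem hb.2 (P.normalA.conj_mem _ hb'.2 b)⟩
        inv_mem' := fun {b} hb => ⟨I.B.inv_mem hb.1, by
          have e : (g : H) * b⁻¹ * (g : H)⁻¹ * b⁻¹⁻¹ =
              b⁻¹ * ((g : H) * b * (g : H)⁻¹ * b⁻¹)⁻¹ * b⁻¹⁻¹ := by group
          rw [e]
          exact P.normalA.conj_mem _ (P.A.inv_mem hb.2) _⟩ }
    have hAF : P.A ≤ F := fun a ha => ⟨I.AB ha, by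
      rw [central g.2 ha, mul_inv_cancel_right, mul_inv_cancel]; exact P.A.one_mem⟩
    have hFle : F ≤ I.B := fun b hb => hb.1
    have hFne : F ≠ I.B := fun e => hgB (I.mem_B g.2 fun b hb => (e.ge hb).2)
    let mov : Finset R := Finset.univ.filter fun d => ((d.out : I.B) : H) ∉ F
    have hmov : 2 ≤ mov.card := by
      obtain ⟨i, hi⟩ := Subgroup.card_dvd_of_le hAF
      have hd := Subgroup.card_dvd_of_le hFle
      rw [hi, I.card_B, hM] at hd
      have hd' : i ∣ 4 := Nat.dvd_of_mul_dvd_mul_left (Nat.card_pos (α := P.A)) hd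
      have hi4 : i ≠ 4 := fun e => hFne (Subgroup.eq_of_le_of_card_ge hFle
        (by rw [hi, I.card_B, hM, e]; rfl))
      have := Nat.le_of_dvd (by norm_num) hd'
      have hi2 : i ≤ 2 := by interval_cases i <;> omega
      have hfix : (Finset.univ.filter fun d : R => ¬ ((d.out : I.B) : H) ∉ F).card * t ≤
          2 * t := by
        refine le_trans ?_ ((le_of_eq hi).trans (by rw [mul_comm]; exact Nat.mul_le_mul_right _ hi2))
        rw [← Nat.card_eq_finsetCard, ← Nat.card_prod]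
        refine Nat.card_le_card_of_injective
          (fun z => ⟨((z.1.1.out : I.B) : H) * z.2, F.mul_mem
            (not_not.1 (Finset.mem_filter.1 z.1.2).2) (hAF z.2.2)⟩) ?_
        rintro ⟨⟨d, _⟩, a⟩ ⟨⟨d', _⟩, a'⟩ e
        have e' : ((d.out : I.B) : H) * a = ((d'.out : I.B) : H) * a' := congrArg Subtype.val e
        have hdd : d = d' := by
          rw [← d.out_eq', ← d'.out_eq', QuotientGroup.eq, Subgroup.mem_subgroupOf]
          show ((d.out : I.B) : H)⁻¹ * (d'.out : I.B) ∈ P.A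
          rw [eq_mul_inv_of_mul_eq e'.symm]
          simpa [mul_assoc] using P.A.mul_mem a.2 (P.A.inv_mem a'.2)
        subst hdd
        exact Prod.ext rfl (Subtype.ext (mul_left_cancel e'))
      have := Nat.le_of_mul_le_mul_right hfix (Nat.card_pos (α := P.A))
      have hsplit := Finset.card_filter_add_card_filter_not
        (s := (Finset.univ : Finset R)) fun d : R => ((d.out : I.B) : H) ∉ F
      rw [Finset.card_univ, hR] at hsplit
      simp only [mov]
      omega
    show 12 * t ≤ ∑ d : R, cc (g * r d)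
    rw [← Finset.sum_add_sum_compl mov]
    have hbig : mov.card * (t * 4) ≤ ∑ d ∈ mov, cc (g * r d) := by
      refine le_trans (le_of_eq (smul_eq_mul _ _).symm)
        (Finset.card_nsmul_le_sum mov _ (t * 4) fun d hd => ?_)
      rw [← hACcard]
      refine mul_le_card_commute AC (fun a ha c => hAC a ha c) _ 4 fun i h0 h4 hi => ?_
      rw [Subgroup.mem_subgroupOf] at hi
      set b : H := ((d.out : I.B) : H)
      have hb : b ∈ I.B := d.out.2
      have hbF : b ∉ F := (Finset.mem_filter.1 hd).2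
      have hgb : ((g * r d : C) : H) = (g : H) * b := rfl
      have hnB : (g : H) * b ∉ I.B := fun h => hgB (by
        simpa using I.B.mul_mem h (I.B.inv_mem hb))
      have hsq : ((g : H) * b) ^ 2 = (g : H) ^ 2 * ((g : H)⁻¹ * b * (g : H) * b) := by
        rw [sq, sq]; group
      have hgbg : (g : H)⁻¹ * b * (g : H) ∈ I.B := by
        simpa using I.normalB.conj_mem b hb (g : H)⁻¹
      have hsqB : ((g : H) * b) ^ 2 ∈ I.B := hsq ▸ I.B.mul_mem (I.AB hg2) (I.B.mul_mem hgbg hb)
      interval_cases i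
      · exact hnB (I.AB (by simpa [hgb] using hi))
      · refine hbF ⟨hb, ?_⟩
        have hi' : ((g : H) * b) ^ 2 ∈ P.A := by simpa [hgb] using hi
        have h5 : (g : H)⁻¹ * b * (g : H) * b ∈ P.A := by
          rw [hsq] at hi'
          simpa using P.A.mul_mem (P.A.inv_mem hg2) hi'
        have h6 : (g : H)⁻¹ * b * (g : H) * b⁻¹ ∈ P.A := by
          have := P.A.mul_mem h5 (P.A.inv_mem (I.sq_mem_of_two hM hb))
          convert this using 1
          rw [sq]; group
        have h7 := P.A.inv_mem (P.normalA.conj_mem _ h6 (g : H))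
        convert h7 using 1
        group
      · refine hnB ?_
        have h3 : ((g : H) * b) ^ 3 ∈ I.B := I.AB (by simpa [hgb] using hi)
        have := I.B.mul_mem (I.B.inv_mem hsqB) h3
        rwa [pow_succ ((g : H) * b) 2, inv_mul_cancel_left] at this
    have hsmall : movᶜ.card * (t * 2) ≤ ∑ d ∈ movᶜ, cc (g * r d) := by
      refine le_trans (le_of_eq (smul_eq_mul _ _).symm)
        (Finset.card_nsmul_le_sum movᶜ _ (t * 2) fun d _ => ?_)
      rw [← hACcard]
      refine mul_le_card_commute AC (fun a ha c => hAC a ha c) _ 2 fun i h0 h2 hi => ?_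
      rw [Subgroup.mem_subgroupOf, show i = 1 by omega, pow_one] at hi
      exact hgB (by
        have := I.B.mul_mem (I.AB hi) (I.B.inv_mem d.out.2)
        simpa [r, ι] using this)
    rw [Finset.card_compl, hR] at hsmall
    have hle4 : mov.card ≤ 4 := hR ▸ mov.card_le_univ
    interval_cases hm : mov.card <;> omega
  rw [hsum, ← Finset.add_sum_erase _ _ (Finset.mem_univ (1 : Q))]
  have hbase : 6 * (Nat.card I.f.range * t) ≤ S (1 : Q).out := by
    have hb : (((1 : Q).out : C) : H) ∈ I.B := by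
      rw [← hmemB, ← QuotientGroup.eq_one_iff, QuotientGroup.out_eq']
    rw [show (1 : Q).out = 1 * ι ⟨_, hb⟩ from Subtype.ext (by simp [ι]), hshift]
    exact h1
  have hrest : (Nat.card I.f.range - 1) * (t * (12 * t)) ≤
      ∑ q ∈ Finset.univ.erase (1 : Q), t * S q.out := by
    refine le_trans (le_of_eq ?_) (Finset.card_nsmul_le_sum _ _ (t * (12 * t)) fun q hq =>
      Nat.mul_le_mul_left t (h2 q (Finset.mem_erase.1 hq).1))
    rw [Finset.card_erase_of_mem (Finset.mem_univ _), Finset.card_univ, hQ, smul_eq_mul]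
  refine le_trans ?_ (Nat.add_le_add (Nat.mul_le_mul_left t hbase) hrest)
  obtain ⟨n, hn⟩ : ∃ n, Nat.card I.f.range = n + 1 := ⟨Nat.card I.f.range - 1, by
    have := Nat.card_pos (α := I.f.range); omega⟩
  rw [hn, show 18 * (n + 1) - 12 = 18 * n + 6 by omega, Nat.add_sub_cancel]
  ring_nf
  rfl

end Inner

end CfsgLib.SolvKGV
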