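import Cfsg.Agent.SolvKGV.KBound

/-!
# The crude `k(GV)` bound for solvable groups

For a solvable group `H` acting faithfully and completely reducibly on a group `V` of order
`p ^ n` one has `3 · Q(H, V) ≤ (3p) ^ n · |H|`.
-/

set_option autoImplicit false
set_option linter.unusedSectionVars false
set_option linter.style.haveILetI false

namespace CfsgLib.SolvKGV

universe u

variable {H : Type u} [Group H] [Finite H] [Group.IsSolvable H] {V : Type u} [AddCommGroup V]
  [DistribMulAction H V] [Finite V]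

namespace Inner

variable {P : Prim H V} (I : Inner P)

theorem Q_ker_le : 2 * Nat.card P.A * Q I.f.ker V ≤
    (Nat.card P.A ^ 2 * (I.M ^ 2 + 1) + 2 * (Nat.card V - 1)) * Nat.card I.B := by
  classical
  haveI := Fintype.ofFinite V
  let e := (MulEquiv.subgroupCongr I.ker_f).trans (Subgroup.subgroupOfEquivOfLe I.BC)
  rw [Q_congr e (fun _ _ => rfl), Q_eq_sum, ← Finset.add_sum_erase _ _ (Finset.mem_univ (0 : V))]
  have h0 : P2 (MulAction.stabilizer I.B (0 : V)) = P2 I.B := by
    refine P2_congr ((MulEquiv.subgroupCongr ?_).trans Subgroup.topEquiv)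
    exact eq_top_iff.2 fun b _ => smul_zero b
  have hrest : ∑ v ∈ Finset.univ.erase (0 : V), P2 (MulAction.stabilizer I.B v) ≤
      (Nat.card V - 1) * I.M ^ 2 := by
    refine (Finset.sum_le_card_nsmul _ _ (I.M ^ 2) fun v hv => ?_).trans (le_of_eq ?_)
    · refine (P2_le_sq _).trans ?_
      rw [← sq]
      exact I.stab v (Finset.mem_erase.1 hv).1
    · rw [Finset.card_erase_of_mem (Finset.mem_univ _), Finset.card_univ, smul_eq_mul,
        Nat.card_eq_fintype_card]
  have hB : 2 * P2 I.B ≤ Nat.card P.A * (I.M ^ 2 + 1) * Nat.card I.B := by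
    rw [P2_eq, ← mul_assoc]
    exact Nat.mul_le_mul_right _ I.class_B
  rw [h0]
  calc 2 * Nat.card P.A * (P2 I.B + ∑ v ∈ Finset.univ.erase (0 : V),
        P2 (MulAction.stabilizer I.B v))
      ≤ 2 * Nat.card P.A * (P2 I.B + (Nat.card V - 1) * I.M ^ 2) :=
        Nat.mul_le_mul_left _ (Nat.add_le_add_left hrest _)
    _ = Nat.card P.A * (2 * P2 I.B) + 2 * (Nat.card V - 1) * (Nat.card P.A * I.M ^ 2) := by ring
    _ ≤ Nat.card P.A * (Nat.card P.A * (I.M ^ 2 + 1) * Nat.card I.B) +
          2 * (Nat.card V - 1) * (Nat.card P.A * I.M ^ 2) :=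
        Nat.add_le_add_right (Nat.mul_le_mul_left _ hB) _
    _ = _ := by rw [← I.card_B]; ring

theorem Q_le (K : ℕ) (hK : P2 I.f.range ≤ K * Nat.card I.f.range) :
    2 * Nat.card P.A * Q H V ≤
      P.e * K * (Nat.card P.A ^ 2 * (I.M ^ 2 + 1) + 2 * (Nat.card V - 1)) * Nat.card H := by
  haveI := P.normalA
  set C := Subgroup.centralizer (P.A : Set H)
  haveI : C.Normal := inferInstance
  have h0 : Q H V ≤ P.e * Nat.card (H ⧸ C) * Q C V := by
    have h := Q_le_P2_mul (Ω := V) (QuotientGroup.mk' C)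
    rw [QuotientGroup.ker_mk'] at h
    exact h.trans (Nat.mul_le_mul_right _ ((P2_le_sq _).trans (Nat.mul_le_mul_right _ P.card_quot)))
  have h1 := Q_le_P2_mul (Ω := V) I.f.rangeRestrict
  rw [MonoidHom.ker_rangeRestrict] at h1
  rw [I.card_eq]
  calc 2 * Nat.card P.A * Q H V
      ≤ 2 * Nat.card P.A * (P.e * Nat.card (H ⧸ C) * (P2 I.f.range * Q I.f.ker V)) :=
        Nat.mul_le_mul_left _ (h0.trans (Nat.mul_le_mul_left _ h1))
    _ = P.e * Nat.card (H ⧸ C) * (P2 I.f.range * (2 * Nat.card P.A * Q I.f.ker V)) := by ring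
    _ ≤ P.e * Nat.card (H ⧸ C) * ((K * Nat.card I.f.range) *
          ((Nat.card P.A ^ 2 * (I.M ^ 2 + 1) + 2 * (Nat.card V - 1)) * Nat.card I.B)) :=
        Nat.mul_le_mul_left _ (Nat.mul_le_mul hK I.Q_ker_le)
    _ = _ := by ring

end Inner

theorem Prim.Q_abelian (P : Prim H V) (hC : Subgroup.centralizer (P.A : Set H) = P.A) :
    Nat.card P.A * Q H V ≤ P.e * (Nat.card P.A ^ 2 + (Nat.card V - 1)) * Nat.card H := by
  classical
  haveI := P.normalA
  haveI := Fintype.ofFinite V
  have hQA : Q P.A V ≤ Nat.card P.A ^ 2 + (Nat.card V - 1) := by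
    rw [Q_eq_sum, ← Finset.add_sum_erase _ _ (Finset.mem_univ (0 : V)), sq]
    refine Nat.add_le_add ((P2_le_sq _).trans (Nat.mul_le_mul (Subgroup.card_le_card_group _)
      (Subgroup.card_le_card_group _))) ?_
    refine (Finset.sum_le_card_nsmul _ _ 1 fun v hv => ?_).trans (le_of_eq ?_)
    · refine (P2_le_sq _).trans ?_
      have : Nat.card (MulAction.stabilizer P.A v) ≤ 1 := by
        rw [Finite.card_le_one_iff_subsingleton, subsingleton_iff]
        have key : ∀ x : MulAction.stabilizer P.A v, x = 1 := fun x =>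
          Subtype.ext (Subtype.ext (P.free _ (x : P.A).2 v (Finset.mem_erase.1 hv).1 x.2))
        exact fun x y => (key x).trans (key y).symm
      exact Nat.mul_le_mul this this
    · rw [Finset.card_erase_of_mem (Finset.mem_univ _), Finset.card_univ, smul_eq_mul, mul_one,
        Nat.card_eq_fintype_card]
  have h0 : Q H V ≤ P.e * Nat.card (H ⧸ P.A) * Q P.A V := by
    have h := Q_le_P2_mul (Ω := V) (QuotientGroup.mk' P.A)
    rw [QuotientGroup.ker_mk'] at h
    have hq := P.card_quot
    rw [hC] at hq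
    exact h.trans (Nat.mul_le_mul_right _ ((P2_le_sq _).trans (Nat.mul_le_mul_right _ hq)))
  rw [Subgroup.card_eq_card_quotient_mul_card_subgroup P.A]
  calc Nat.card P.A * Q H V ≤ Nat.card P.A * (P.e * Nat.card (H ⧸ P.A) *
        (Nat.card P.A ^ 2 + (Nat.card V - 1))) :=
        Nat.mul_le_mul_left _ (h0.trans (Nat.mul_le_mul_left _ hQA))
    _ = _ := by ring

/-- **The crude `k(GV)` bound.** -/
theorem three_mul_Q_le : ∀ (N : ℕ) {H : Type u} [Group H] [Finite H] [Group.IsSolvable H]
    {V : Type u} [AddCommGroup V] [DistribMulAction H V] [Finite V] (p n : ℕ),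
    Nat.card V = N → p.Prime → N = p ^ n → 0 < n → Semi H V → Faith H V →
      3 * Q H V ≤ (3 * p) ^ n * Nat.card H := by
  intro N
  induction N using Nat.strong_induction_on with
  | _ N ih =>
    intro H _ _ _ V _ _ _ p n hN hp hNp hn hs hf
    have h1 : 1 < N := hNp ▸ Nat.one_lt_pow hn.ne' hp.one_lt
    haveI : Nontrivial V := Finite.one_lt_card_iff_nontrivial.1 (hN ▸ h1)
    by_cases hd : ∃ r, Nonempty (Decomp H V r)
    · obtain ⟨r, ⟨D⟩⟩ := hd
      have hpart : ∀ i, ∃ k, Nat.card (D.part i) = p ^ k := fun i =>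
        ((Nat.dvd_prime_pow hp).1 (hNp ▸ hN ▸ card_part_dvd D i)).imp fun k h => h.2
      choose k hk using hpart
      have hkpos : ∀ i, 0 < k i := fun i => by
        by_contra h0
        have := D.one_lt_card_part i
        rw [hk i, show k i = 0 by omega, pow_zero] at this
        omega
      have hsum : ∑ i, k i = n := Nat.pow_right_injective hp.two_le (by
        show p ^ (∑ i, k i) = p ^ n
        rw [← hNp, ← hN, D.card_eq, Finset.prod_congr rfl fun i _ => hk i,
          Finset.prod_pow_eq_pow_sum])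
      have h := D.Q_bound hs hf 3 (fun i => (3 * p) ^ k i) fun i E hE ⟨L, hL⟩ => by
        haveI : Group.IsSolvable E := by rw [hL]; exact D.isSolvable_map i L
        exact ih _ (hN ▸ D.card_part_lt i) p (k i) rfl hp (hk i) (hkpos i) hE (faith_units E)
      rw [Finset.prod_pow_eq_pow_sum, hsum] at h
      have h2 := D.two
      refine Nat.le_of_mul_le_mul_left (c := 3 ^ (r - 1)) ?_ (pow_pos (by norm_num) _)
      calc 3 ^ (r - 1) * (3 * Q H V) = 3 ^ r * Q H V := by
            rw [← mul_assoc, ← pow_succ, show r - 1 + 1 = r by omega]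
        _ ≤ _ := h
        _ ≤ 3 ^ (r - 1) * ((3 * p) ^ n * Nat.card H) := by
            rw [mul_assoc]
            exact Nat.mul_le_mul_right _ (Nat.pow_le_pow_left (by norm_num) _)
    · obtain ⟨P⟩ := exists_prim (fun r D => hd ⟨r, ⟨D⟩⟩) hs hf
      have hn' := hn.ne'
      have hpp : P.p = p := by
        have h := P.prime.dvd_of_dvd_pow (n := n) (hNp ▸ hN ▸ P.card_eq ▸ dvd_pow_self _
          (Nat.mul_ne_zero (by have := P.e_pos; omega) (by have := P.m_pos; omega)))
        exact (Nat.prime_dvd_prime_iff_eq P.prime hp).1 h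
      have hem : P.e * P.m = n := Nat.pow_right_injective hp.two_le (by
        show p ^ (P.e * P.m) = p ^ n
        rw [← hNp, ← hN, P.card_eq, hpp])
      rw [← hem]
      have hcardV : Nat.card V = p ^ (P.e * P.m) := by rw [P.card_eq, hpp]
      have hlt : Nat.card P.A < p ^ P.e := hpp ▸ P.card_lt
      by_cases hC : Subgroup.centralizer (P.A : Set H) = P.A
      · have h := P.Q_abelian hC
        rw [hcardV] at h
        refine Nat.le_of_mul_le_mul_left (c := Nat.card P.A) ?_ P.card_pos_A
        calc Nat.card P.A * (3 * Q H V) = 3 * (Nat.card P.A * Q H V) := by ring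
          _ ≤ 3 * (P.e * (Nat.card P.A ^ 2 + (p ^ (P.e * P.m) - 1)) * Nat.card H) :=
              Nat.mul_le_mul_left _ h
          _ = 3 * P.e * (Nat.card P.A ^ 2 + (p ^ (P.e * P.m) - 1)) * Nat.card H := by ring
          _ ≤ (3 * p) ^ (P.e * P.m) * Nat.card P.A * Nat.card H :=
              Nat.mul_le_mul_right _ (Numeric.abelian_count P.m_pos (lt_of_lt_of_le hlt
                (Nat.pow_le_pow_right hp.pos (Nat.le_mul_of_pos_right _ P.m_pos))) P.card_pos_A)
          _ = _ := by ring
      · obtain ⟨I⟩ := exists_inner P hC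
        haveI := isSolvable_range (H := Subgroup.centralizer (P.A : Set H)) I.f
        have h2 := I.two_le
        obtain ⟨K, hK, hK2, hK3, hK4, hK0⟩ : ∃ K, P2 I.f.range ≤ K * Nat.card I.f.range ∧
            (I.M = 2 → K ≤ 3) ∧ (I.M = 3 → K ≤ 16) ∧ (I.M = 4 → K ≤ 38) ∧ 2 * K ≤ I.M ^ 4 := by
          rcases (by omega : I.M = 2 ∨ I.M = 3 ∨ I.M = 4 ∨ 5 ≤ I.M) with h | h | h | h
          · exact ⟨3, P2_le_four (faith_units _) (by rw [I.card_W, h]; rfl), fun _ => le_rfl,
              by omega, by omega, by rw [h]; norm_num⟩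
          · exact ⟨16, P2_le_nine I.semi (faith_units _) (by rw [I.card_W, h]; rfl), by omega,
              fun _ => le_rfl, by omega, by rw [h]; norm_num⟩
          · exact ⟨38, P2_le_sixteen I.semi (faith_units _) (by rw [I.card_W, h]; rfl), by omega,
              by omega, fun _ => le_rfl, by rw [h]; norm_num⟩
          · refine ⟨I.M ^ 4 / 2, ?_, by omega, by omega, by omega, Nat.mul_div_le _ _⟩
            have hk := two_mul_P2_le_sq (I.M ^ 2) I.card_W (by nlinarith) I.semi (faith_units _)
            rw [← pow_mul, P2_eq, ← mul_assoc] at hk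
            have hk' := Nat.le_of_mul_le_mul_right hk Nat.card_pos
            rw [P2_eq]
            exact Nat.mul_le_mul_right _
              ((Nat.le_div_iff_mul_le two_pos).2 (by rw [mul_comm]; exact hk'))
        have h := I.Q_le K hK
        rw [hcardV] at h
        refine Nat.le_of_mul_le_mul_left (c := 2 * Nat.card P.A) ?_
          (Nat.mul_pos two_pos P.card_pos_A)
        calc 2 * Nat.card P.A * (3 * Q H V) = 3 * (2 * Nat.card P.A * Q H V) := by ring
          _ ≤ 3 * (P.e * K * (Nat.card P.A ^ 2 * (I.M ^ 2 + 1) + 2 * (p ^ (P.e * P.m) - 1)) *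
                Nat.card H) := Nat.mul_le_mul_left _ h
          _ = 3 * P.e * K * (Nat.card P.A ^ 2 * (I.M ^ 2 + 1) + 2 * (p ^ (P.e * P.m) - 1)) *
                Nat.card H := by ring
          _ ≤ 2 * Nat.card P.A * (3 * p) ^ (P.e * P.m) * Nat.card H :=
              Nat.mul_le_mul_right _ (Numeric.inner_count hp P.e_pos h2 I.le_m hlt I.prime_dvd
                P.card_pos_A hK2 hK3 hK4 hK0)
          _ = _ := by ring

end CfsgLib.SolvKGV
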