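import Cfsg.Agent.SolvKGV.Decomp
import Mathlib.FieldTheory.Finite.Basic
import Mathlib.FieldTheory.Galois.Basic
import Mathlib.LinearAlgebra.FreeModule.Finite.Basic
import Mathlib.LinearAlgebra.Dimension.LinearMap

/-!
# Linear groups without a permuted decomposition

A faithful completely reducible group without a permuted decomposition is irreducible on an
elementary abelian group, and every normal abelian subgroup generates a field.
-/

set_option autoImplicit false
set_option linter.unusedSectionVars false
set_option linter.style.haveILetI false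

namespace CfsgLib.SolvKGV

universe u v

variable {H : Type u} [Group H] {V : Type v} [AddCommGroup V] [DistribMulAction H V]

variable (H V) in
/-- There is no permuted decomposition. -/
def NoDecomp : Prop := ∀ r : ℕ, Decomp H V r → False

/-- Two invariant complements form a decomposition. -/
theorem false_of_isCompl (hnd : NoDecomp H V) {U X : AddSubgroup V} (hU : IsInv H U)
    (hX : IsInv H X) (hc : IsCompl U X) (hU0 : U ≠ ⊥) (hX0 : X ≠ ⊥) : False := by
  have hz : ∀ v ∈ U, v ∈ X → v = 0 := fun v h1 h2 => by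
    have h : v ∈ U ⊓ X := ⟨h1, h2⟩
    rwa [hc.inf_eq_bot, AddSubgroup.mem_bot] at h
  have hex : ∀ v : V, ∃ a ∈ U, v - a ∈ X := fun v => by
    obtain ⟨a, ha, b, hb, rfl⟩ :=
      AddSubgroup.mem_sup.1 (hc.sup_eq_top.ge (AddSubgroup.mem_top v))
    exact ⟨a, ha, by rwa [add_sub_cancel_left]⟩
  choose π hπU hπX using hex
  have hπ : ∀ v a, a ∈ U → v - a ∈ X → π v = a := fun v a h1 h2 =>
    sub_eq_zero.1 (hz _ (U.sub_mem (hπU v) h1) (by
      have := X.sub_mem h2 (hπX v)
      rwa [sub_sub_sub_cancel_left] at this))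
  let pr : V →+ V :=
    { toFun := π
      map_zero' := hπ 0 0 U.zero_mem (by simp)
      map_add' := fun v w => hπ _ _ (U.add_mem (hπU v) (hπU w))
        (by rw [add_sub_add_comm]; exact X.add_mem (hπX v) (hπX w)) }
  have h1 : ∀ v, pr (pr v) = pr v := fun v => hπ _ _ (hπU v) (by simp)
  refine hnd 2
    { two := le_rfl
      perm := 1
      proj := ![pr, AddMonoidHom.id V - pr]
      ne := ?_
      orth := ?_
      sum := fun v => by simp [Fin.sum_univ_two]
      equi := ?_ }
  · intro i
    fin_cases i
    · intro e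
      obtain ⟨u, hu, hne⟩ := U.bot_or_exists_ne_zero.resolve_left hU0
      refine hne ?_
      have := DFunLike.congr_fun e u
      simpa [pr, hπ u u hu (by simp)] using this
    · intro e
      obtain ⟨u, hu, hne⟩ := X.bot_or_exists_ne_zero.resolve_left hX0
      refine hne ?_
      have := DFunLike.congr_fun e u
      simpa [pr, hπ u 0 U.zero_mem (by simpa using hu)] using this
  · intro i j v
    fin_cases i <;> fin_cases j <;> simp [h1]
  · intro h i v
    have hp : pr (h • v) = h • pr v := hπ _ _ (hU h _ (hπU v))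
      (by rw [show pr v = π v from rfl, ← smul_sub]; exact hX h _ (hπX v))
    fin_cases i <;> simp [hp, smul_sub]

theorem eq_bot_or_eq_top (hnd : NoDecomp H V) (hs : Semi H V) {U : AddSubgroup V}
    (hU : IsInv H U) : U = ⊥ ∨ U = ⊤ := by
  obtain ⟨X, hX, hc⟩ := hs U hU
  by_contra h
  push Not at h
  exact false_of_isCompl hnd hU hX hc h.1 fun e => h.2 (by simpa [e] using hc.sup_eq_top)

variable [Finite V] [Nontrivial V]

/-- The group is elementary abelian. -/
theorem exists_prime (hnd : NoDecomp H V) (hs : Semi H V) :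
    ∃ p : ℕ, p.Prime ∧ (∀ v : V, p • v = 0) ∧ ∃ n, Nat.card V = p ^ n := by
  obtain ⟨p, hp, hdvd⟩ := Nat.exists_prime_and_dvd
    (Finite.one_lt_card_iff_nontrivial.2 (inferInstance : Nontrivial V)).ne'
  haveI := Fact.mk hp
  let U : AddSubgroup V := (nsmulAddMonoidHom (α := V) p).ker
  have hU : IsInv H U := fun h u hu => by
    rw [AddMonoidHom.mem_ker, nsmulAddMonoidHom_apply] at hu ⊢
    rw [smul_comm, hu, smul_zero]
  have htop : U = ⊤ := by
    refine (eq_bot_or_eq_top hnd hs hU).resolve_left fun e => ?_
    obtain ⟨x, hx⟩ := exists_prime_addOrderOf_dvd_card' p hdvd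
    have h : x ∈ U := by
      rw [AddMonoidHom.mem_ker, nsmulAddMonoidHom_apply, ← hx]
      exact addOrderOf_nsmul_eq_zero x
    rw [e, AddSubgroup.mem_bot] at h
    rw [h, addOrderOf_zero] at hx
    exact hp.one_lt.ne hx
  have hp0 : ∀ v : V, p • v = 0 := fun v =>
    (htop ▸ AddSubgroup.mem_top v : v ∈ U)
  refine ⟨p, hp, hp0, ?_⟩
  have hpg : IsPGroup p (Multiplicative V) := fun g => ⟨1, by
    rw [pow_one]
    exact Multiplicative.toAdd.injective (by rw [toAdd_pow, toAdd_one]; exact hp0 _)⟩
  obtain ⟨n, hn⟩ := IsPGroup.iff_card.1 hpg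
  exact ⟨n, hn⟩

variable [Finite H]

/-- A normal abelian subgroup has order prime to the characteristic. -/
theorem not_dvd_card (hs : Semi H V) (hf : Faith H V) {p : ℕ} [Fact p.Prime]
    (hV : ∃ n, Nat.card V = p ^ n) (A : Subgroup H) [hA : A.Normal]
    (hcomm : ∀ a ∈ A, ∀ b ∈ A, a * b = b * a) : ¬ p ∣ Nat.card A := by
  intro hd
  obtain ⟨a, ha⟩ := exists_prime_orderOf_dvd_card' p hd
  let P : Subgroup H :=
    { carrier := {x | x ∈ A ∧ x ^ p = 1}
      one_mem' := ⟨A.one_mem, one_pow p⟩
      mul_mem' := fun hx hy => ⟨A.mul_mem hx.1 hy.1, by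
        rw [(Commute.mul_pow (hcomm _ hx.1 _ hy.1)), hx.2, hy.2, one_mul]⟩
      inv_mem' := fun hx => ⟨A.inv_mem hx.1, by rw [inv_pow, hx.2, inv_one]⟩ }
  haveI : P.Normal := ⟨fun x hx g => ⟨hA.conj_mem x hx.1 g, by rw [conj_pow, hx.2]; group⟩⟩
  have hP : IsPGroup p P := fun x => ⟨1, Subtype.ext (by simpa using x.2.2)⟩
  have h : (a : H) ∈ P := ⟨a.2, by rw [← SubmonoidClass.coe_pow, ← ha, pow_orderOf_eq_one]; rfl⟩
  rw [eq_bot_of_isPGroup hs hf hV hP, Subgroup.mem_bot] at h
  have : a = 1 := Subtype.ext h
  rw [this, orderOf_one] at ha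
  exact (Fact.out : p.Prime).one_lt.ne ha

/-- The endomorphism of an element. -/
abbrev rho (h : H) : AddMonoid.End V := DistribMulAction.toAddMonoidEnd H V h

/-- The subring generated by a subgroup. -/
def kring (V : Type v) [AddCommGroup V] [DistribMulAction H V] (A : Subgroup H) :
    Subring (AddMonoid.End V) :=
  Subring.closure ((rho (H := H) (V := V)) '' (A : Set H))

theorem rho_mem_kring {A : Subgroup H} {a : H} (ha : a ∈ A) :
    rho (V := V) a ∈ kring V A :=
  Subring.subset_closure ⟨a, ha, rfl⟩

theorem rho_mul (g h : H) : rho (V := V) (g * h) = rho g * rho h := map_mul _ g h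

theorem rho_one : rho (V := V) (1 : H) = 1 := map_one _

theorem rho_injective (hf : Faith H V) : Function.Injective (rho (H := H) (V := V)) := by
  intro g h e
  refine inv_mul_eq_one.1 (hf _ fun v => ?_)
  rw [mul_smul, show h • v = g • v from (DFunLike.congr_fun e v).symm, inv_smul_smul]

theorem conj_mem_kring {A : Subgroup H} [hA : A.Normal] (h : H) {x : AddMonoid.End V}
    (hx : x ∈ kring V A) : rho (V := V) h * x * rho (V := V) h⁻¹ ∈ kring V A := by
  unfold kring at hx
  have h' : rho (V := V) h⁻¹ * rho h = 1 := by rw [← rho_mul, inv_mul_cancel, rho_one]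
  induction hx using Subring.closure_induction with
  | mem x hx =>
    obtain ⟨a, ha, rfl⟩ := hx
    rw [← rho_mul, ← rho_mul]
    exact rho_mem_kring (hA.conj_mem a ha h)
  | zero => rw [mul_zero, zero_mul]; exact zero_mem _
  | one => rw [mul_one, ← rho_mul, mul_inv_cancel, rho_one]; exact one_mem _
  | add x y _ _ hx hy => rw [mul_add, add_mul]; exact add_mem hx hy
  | neg x _ hx => rw [mul_neg, neg_mul]; exact neg_mem hx
  | mul x y _ _ hx hy =>
    have : rho (V := V) h * (x * y) * rho h⁻¹ = (rho h * x * rho h⁻¹) * (rho h * y * rho h⁻¹) := by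
      simp only [mul_assoc]
      rw [← mul_assoc (rho h⁻¹) (rho h), h', one_mul]
    rw [this]
    exact mul_mem hx hy

/-- Conjugation on the subring. -/
def conjRing {A : Subgroup H} [A.Normal] : H →* RingAut (kring V A) where
  toFun h :=
    { toFun := fun x => ⟨rho (V := V) h * (x : AddMonoid.End V) * rho (V := V) h⁻¹,
        conj_mem_kring (V := V) h x.2⟩
      invFun := fun x => ⟨rho (V := V) h⁻¹ * (x : AddMonoid.End V) * rho (V := V) h⁻¹⁻¹,
        conj_mem_kring (V := V) h⁻¹ x.2⟩
      left_inv := fun x => Subtype.ext (by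
        show rho h⁻¹ * (rho h * (x : AddMonoid.End V) * rho h⁻¹) * rho h⁻¹⁻¹ = (x : AddMonoid.End V)
        rw [inv_inv]
        simp only [← mul_assoc]
        rw [← rho_mul, inv_mul_cancel, rho_one, one_mul, mul_assoc, ← rho_mul, inv_mul_cancel,
          rho_one, mul_one])
      right_inv := fun x => Subtype.ext (by
        show rho h * (rho h⁻¹ * (x : AddMonoid.End V) * rho h⁻¹⁻¹) * rho h⁻¹ = (x : AddMonoid.End V)
        rw [inv_inv]
        simp only [← mul_assoc]
        rw [← rho_mul, mul_inv_cancel, rho_one, one_mul, mul_assoc, ← rho_mul, mul_inv_cancel,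
          rho_one, mul_one])
      map_mul' := fun x y => Subtype.ext (by
        show rho h * ((x : AddMonoid.End V) * (y : AddMonoid.End V)) * rho h⁻¹ =
          (rho h * (x : AddMonoid.End V) * rho h⁻¹) * (rho h * (y : AddMonoid.End V) * rho h⁻¹)
        simp only [mul_assoc]
        rw [← mul_assoc (rho h⁻¹) (rho h), ← rho_mul, inv_mul_cancel, rho_one, one_mul])
      map_add' := fun x y => Subtype.ext (by
        show rho h * ((x : AddMonoid.End V) + (y : AddMonoid.End V)) * rho h⁻¹ =
          (rho h * (x : AddMonoid.End V) * rho h⁻¹) + (rho h * (y : AddMonoid.End V) * rho h⁻¹)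
        rw [mul_add, add_mul]) }
  map_one' := RingEquiv.ext fun x => Subtype.ext (by
    show rho (1 : H) * (x : AddMonoid.End V) * rho (1 : H)⁻¹ = (x : AddMonoid.End V)
    rw [inv_one, rho_one, one_mul, mul_one])
  map_mul' g h := RingEquiv.ext fun x => Subtype.ext (by
    show rho (g * h) * (x : AddMonoid.End V) * rho (g * h)⁻¹ =
      rho g * (rho h * (x : AddMonoid.End V) * rho h⁻¹) * rho g⁻¹
    rw [mul_inv_rev, rho_mul, rho_mul]
    simp only [mul_assoc])

theorem kring_comm {A : Subgroup H} (hcomm : ∀ a ∈ A, ∀ b ∈ A, a * b = b * a)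
    (x y : kring V A) : x * y = y * x := by
  haveI := Subring.isMulCommutative_closure (s := rho (H := H) (V := V) '' (A : Set H)) (by
    rintro _ ⟨a, ha, rfl⟩ _ ⟨b, hb, rfl⟩
    rw [← rho_mul, ← rho_mul, hcomm a ha b hb])
  exact this.is_comm.comm x y

/-- The subring of a normal abelian subgroup is a field. -/
theorem isField_kring (hnd : NoDecomp H V) (hs : Semi H V) (hf : Faith H V) {p : ℕ}
    [Fact p.Prime] (hp : ∀ v : V, p • v = 0) (hV : ∃ n, Nat.card V = p ^ n) (A : Subgroup H)
    [A.Normal] (hcomm : ∀ a ∈ A, ∀ b ∈ A, a * b = b * a) : IsField (kring V A) := by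
  classical
  set K := kring V A
  haveI : Finite K := inferInstance
  haveI : Nontrivial (AddMonoid.End V) := by
    obtain ⟨v, hv⟩ := exists_ne (0 : V)
    exact ⟨1, 0, fun e => hv (DFunLike.congr_fun e v)⟩
  haveI : CharP (AddMonoid.End V) p :=
    CharP.charP_iff_prime_eq_zero (Fact.out : p.Prime) |>.2
      (DFunLike.ext _ _ fun v => (AddMonoid.End.natCast_apply p v).trans (hp v))
  set N := Nat.totient (Nat.card A) with hN
  have hN0 : 0 < N := Nat.totient_pos.2 Nat.card_pos
  have hpow : ∀ x : AddMonoid.End V, x ∈ K → x ^ p ^ N = x := by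
    intro x hx
    simp only [K, kring] at hx
    induction hx using Subring.closure_induction with
    | mem x hx =>
      obtain ⟨a, ha, rfl⟩ := hx
      rw [← map_pow]
      congr 1
      have h : p ^ N ≡ 1 [MOD Nat.card A] := Nat.ModEq.pow_totient
        ((Nat.Prime.coprime_iff_not_dvd (Fact.out : p.Prime)).2 (not_dvd_card hs hf hV A hcomm))
      have h2 : orderOf a ∣ Nat.card A := by
        rw [← Subgroup.orderOf_mk a ha]; exact orderOf_dvd_natCard _
      conv_rhs => rw [← pow_one a]
      exact pow_eq_pow_iff_modEq.2 (h.of_dvd h2)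
    | zero => exact zero_pow (pow_ne_zero _ (Fact.out : p.Prime).ne_zero)
    | one => exact one_pow _
    | add x y hx' hy' hx hy =>
      rw [add_pow_char_pow_of_commute p N (congrArg Subtype.val
        (kring_comm hcomm ⟨x, hx'⟩ ⟨y, hy'⟩)), hx, hy]
    | neg x _ hx =>
      rw [← zero_sub, sub_pow_char_pow_of_commute p N (Commute.zero_left x),
        zero_pow (pow_ne_zero _ (Fact.out : p.Prime).ne_zero), hx]
    | mul x y hx' hy' hx hy =>
      rw [Commute.mul_pow (congrArg Subtype.val (kring_comm hcomm ⟨x, hx'⟩ ⟨y, hy'⟩)), hx, hy]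
  letI : CommRing K := { (inferInstance : Ring K) with mul_comm := kring_comm hcomm }
  have hidem : ∀ e : K, e * e = e → e = 0 ∨ e = 1 := by
    by_contra hcon
    push Not at hcon
    obtain ⟨e₀, he₀, he0, he1⟩ := hcon
    have hbelow : ∀ g : K, g * g = g → g ≠ 0 → ∃ f : K, f * f = f ∧ f ≠ 0 ∧ f * g = f ∧
        ∀ h : K, h * h = h → h * f = 0 ∨ h * f = f := by
      intro g hg hg0
      haveI := Fintype.ofFinite K
      obtain ⟨f, hfm, hmin⟩ := Finset.exists_min_image
        (Finset.univ.filter fun f : K => f * f = f ∧ f ≠ 0 ∧ f * g = f)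
        (fun f => (Finset.univ.filter fun x : K => x * f = x).card)
        ⟨g, by simp [hg, hg0]⟩
      obtain ⟨hf1, hf2, hf3⟩ := (Finset.mem_filter.1 hfm).2
      refine ⟨f, hf1, hf2, hf3, fun h hh => ?_⟩
      by_contra hc
      push Not at hc
      have hhf : h * f * (h * f) = h * f := by rw [mul_mul_mul_comm, hh, hf1]
      have hle := hmin (h * f) (by simp [hhf, hc.1, mul_assoc, hf3])
      refine absurd hle (not_le.2 (Finset.card_lt_card ⟨fun x hx => ?_, fun hsub => hc.2 ?_⟩))
      · simp only [Finset.mem_filter, Finset.mem_univ, true_and] at hx ⊢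
        conv_lhs => rw [← hx, mul_assoc, mul_assoc, hf1]
        exact hx
      · have := hsub (show f ∈ _ by simp [hf1])
        simp only [Finset.mem_filter, Finset.mem_univ, true_and] at this
        calc h * f = h * (f * f) := by rw [hf1]
          _ = f * (h * f) := by ring
          _ = f := this
    let At := {f : K // f * f = f ∧ f ≠ 0 ∧ ∀ h : K, h * h = h → h * f = 0 ∨ h * f = f}
    haveI := Fintype.ofFinite At
    have horth : ∀ a b : At, a ≠ b → (a : K) * b = 0 := fun a b hab => by
      rcases b.2.2.2 a a.2.1 with h | h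
      · exact h
      · rcases a.2.2.2 b b.2.1 with h' | h'
        · rwa [kring_comm hcomm]
        · exact absurd (Subtype.ext ((kring_comm hcomm (b : K) a ▸ h').symm.trans h)) hab
    have hsum : ∑ a : At, (a : K) = 1 := by
      by_contra hne
      set s := ∑ a : At, (a : K) with hs'
      have hss : ∀ a : At, (a : K) * s = a := fun a => by
        rw [hs', Finset.mul_sum, Finset.sum_eq_single a (fun b _ hb => horth a b (Ne.symm hb))
          (by simp), a.2.1]
      have hs2 : s * s = s := by
        conv_lhs => arg 1; rw [hs']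
        rw [Finset.sum_mul]
        exact Finset.sum_congr rfl fun a _ => hss a
      obtain ⟨f, hf1, hf2, hf3, hf4⟩ := hbelow (1 - s)
        (by rw [sub_mul, one_mul, mul_sub, mul_one, hs2, sub_self, sub_zero])
        (sub_ne_zero.2 (Ne.symm hne))
      have := hss ⟨f, hf1, hf2, hf4⟩
      simp only at this
      rw [mul_sub, mul_one, this, sub_self] at hf3
      exact hf2 hf3.symm
    have htwo : 2 ≤ Fintype.card At := by
      by_contra hlt
      have h1 : ∀ a b : At, a = b := fun a b => by
        haveI := Fintype.card_le_one_iff_subsingleton.1 (by omega : Fintype.card At ≤ 1)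
        exact Subsingleton.elim a b
      obtain ⟨f, hf1, hf2, hf3, hf4⟩ := hbelow e₀ he₀ he0
      have hf1' : f = 1 := by
        rw [← hsum, Finset.sum_eq_single (⟨f, hf1, hf2, hf4⟩ : At) (fun b _ hb => absurd (h1 b _) hb)
          (by simp)]
      rw [hf1', one_mul] at hf3
      exact he1 hf3
    letI actAt : MulAction H At :=
      { smul := fun h a => ⟨conjRing h a, by rw [← map_mul, a.2.1],
          fun e => a.2.2.1 ((conjRing h).injective (e.trans (map_zero _).symm)), fun g hg => by
            obtain ⟨g', rfl⟩ := (conjRing (A := A) (V := V) h).surjective g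
            rw [← map_mul] at hg ⊢
            rcases a.2.2.2 g' ((conjRing h).injective hg) with h' | h'
            · left; rw [h', map_zero]
            · right; rw [h']⟩
        one_smul := fun a => Subtype.ext (by
          show conjRing (A := A) (V := V) 1 a = a
          rw [map_one]; rfl)
        mul_smul := fun g h a => Subtype.ext (by
          show conjRing (A := A) (V := V) (g * h) a = conjRing g (conjRing h a)
          rw [map_mul]; rfl) }
    let e := (Fintype.equivFin At).symm
    have happ : ∀ (a b : K) (v : V),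
        (a : AddMonoid.End V) ((b : AddMonoid.End V) v) = ((a * b : K) : AddMonoid.End V) v :=
      fun a b v => rfl
    refine hnd (Fintype.card At)
      { two := htwo
        perm := (Equiv.permCongrHom e.symm).toMonoidHom.comp (MulAction.toPermHom H At)
        proj := fun i => (((e i : At) : K) : AddMonoid.End V)
        ne := fun i hi => (e i).2.2.1 (Subtype.ext hi)
        orth := fun i j v => ?_
        sum := fun v => ?_
        equi := fun h i v => ?_ }
    · show ((e i : K) : AddMonoid.End V) (((e j : K) : AddMonoid.End V) v) = _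
      rw [happ]
      split_ifs with hij
      · subst hij
        rw [(e i).2.1]
        rfl
      · rw [horth _ _ fun h => hij (e.injective h)]
        rfl
    · show ∑ i, ((e i : K) : AddMonoid.End V) v = v
      rw [Equiv.sum_comp e (fun a : At => ((a : K) : AddMonoid.End V) v)]
      have := congrArg (fun x : K => (x : AddMonoid.End V) v) hsum
      simp only [AddSubmonoidClass.coe_finsetSum, OneMemClass.coe_one] at this
      rw [show ((1 : AddMonoid.End V)) v = v from rfl] at this
      refine Eq.trans ?_ this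
      exact (AddMonoidHom.finsetSum_apply _ _ _).symm
    · show ((e ((Equiv.permCongr e.symm (MulAction.toPerm h)) i) : K) : AddMonoid.End V) (h • v) =
        h • ((e i : K) : AddMonoid.End V) v
      rw [Equiv.permCongr_apply, Equiv.apply_symm_apply, Equiv.symm_symm, MulAction.toPerm_apply]
      show (rho (V := V) h * ((e i : K) : AddMonoid.End V) * rho (V := V) h⁻¹) (h • v) = _
      show h • ((e i : K) : AddMonoid.End V) (h⁻¹ • h • v) = _
      rw [inv_smul_smul]
  refine ⟨⟨0, 1, zero_ne_one⟩, kring_comm hcomm, fun {x} hx => ?_⟩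
  have h2 : 2 ≤ p ^ N := le_trans (Fact.out : p.Prime).two_le (Nat.le_self_pow hN0.ne' p)
  have hx' : x ^ p ^ N = x := Subtype.ext (by simpa using hpow x x.2)
  have h3 : x ^ (p ^ N - 1) * x = x := by
    rw [← pow_succ, Nat.sub_add_cancel (by omega), hx']
  rcases hidem (x ^ (p ^ N - 1)) (by
    rw [← pow_add, show p ^ N - 1 + (p ^ N - 1) = p ^ N + (p ^ N - 2) by omega, pow_add, hx',
      ← pow_succ', show p ^ N - 2 + 1 = p ^ N - 1 by omega]) with h | h
  · rw [h, zero_mul] at h3
    exact absurd h3.symm hx
  · refine ⟨x ^ (p ^ N - 2), ?_⟩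
    rw [← pow_succ', show p ^ N - 2 + 1 = p ^ N - 1 by omega, h]

end CfsgLib.SolvKGV
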