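import Cfsg.Agent.SolvKGV.Counting
import Mathlib.GroupTheory.PGroup
import Mathlib.Algebra.Group.Subgroup.Order
import Mathlib.Algebra.Module.Hom
import Mathlib.RingTheory.Coprime.Lemmas
import Mathlib.Algebra.Module.ZMod

/-!
# Completely reducible actions on finite abelian groups

Complete reducibility of a finite group acting on a finite abelian group, its inheritance by
normal subgroups, invariant subgroups and images, and the coprime case.
-/

set_option autoImplicit false
set_option linter.unusedSectionVars false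
set_option linter.style.haveILetI false

namespace CfsgLib.SolvKGV

variable (H : Type*) [Group H] {V : Type*} [AddCommGroup V] [DistribMulAction H V]

/-- A subgroup invariant under the action. -/
def IsInv (U : AddSubgroup V) : Prop :=
  ∀ (h : H), ∀ u ∈ U, h • u ∈ U

variable (V) in
/-- Complete reducibility. -/
def Semi : Prop :=
  ∀ U : AddSubgroup V, IsInv H U → ∃ U' : AddSubgroup V, IsInv H U' ∧ IsCompl U U'

variable (V) in
/-- Faithfulness. -/
def Faith : Prop :=
  ∀ h : H, (∀ v : V, h • v = v) → h = 1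

variable {H}

/-- The action on an invariant subgroup. -/
abbrev subAction {U : AddSubgroup V} (hU : IsInv H U) : DistribMulAction H U where
  smul h u := ⟨h • (u : V), hU h u u.2⟩
  one_smul u := Subtype.ext (one_smul H (u : V))
  mul_smul g h u := Subtype.ext (mul_smul g h (u : V))
  smul_zero h := Subtype.ext (smul_zero h)
  smul_add h u v := Subtype.ext (smul_add h (u : V) v)

instance finite_end {V : Type*} [AddCommGroup V] [Finite V] : Finite (AddMonoid.End V) :=
  Finite.of_injective (fun f : AddMonoid.End V => (f : V → V)) DFunLike.coe_injective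

/-- The action as a homomorphism into the automorphisms. -/
def repHom (H V : Type*) [Group H] [AddCommGroup V] [DistribMulAction H V] :
    H →* (AddMonoid.End V)ˣ :=
  (DistribMulAction.toAddMonoidEnd H V).toHomUnits

@[simp]
theorem repHom_smul (h : H) (v : V) : repHom H V h • v = h • v := rfl

theorem repHom_eq_one_iff (h : H) : repHom H V h = 1 ↔ ∀ v : V, h • v = v := by
  constructor
  · intro e v
    rw [← repHom_smul, e, one_smul]
  · intro e
    exact Units.ext (AddMonoidHom.ext e)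

theorem repHom_injective (hf : Faith H V) : Function.Injective (repHom H V) :=
  (injective_iff_map_eq_one _).2 fun h e => hf h ((repHom_eq_one_iff h).1 e)

theorem faith_subgroup (hf : Faith H V) (N : Subgroup H) : Faith N V :=
  fun n e => Subtype.ext (hf n e)

theorem faith_units (E : Subgroup (AddMonoid.End V)ˣ) : Faith E V := fun _ e =>
  Subtype.ext (Units.ext (AddMonoidHom.ext e))

theorem semi_congr {H' : Type*} [Group H'] [DistribMulAction H' V] (f : H →* H')
    (hf : Function.Surjective f) (hfs : ∀ (h : H) (v : V), f h • v = h • v) (hs : Semi H V) :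
    Semi H' V := by
  intro U hU
  obtain ⟨U', h1, h2⟩ := hs U fun h u hu => hfs h u ▸ hU (f h) u hu
  refine ⟨U', fun h' u hu => ?_, h2⟩
  obtain ⟨h, rfl⟩ := hf h'
  rw [hfs]
  exact h1 h u hu

theorem isInv_inf {U W : AddSubgroup V} (hU : IsInv H U) (hW : IsInv H W) : IsInv H (U ⊓ W) :=
  fun h u hu => ⟨hU h u hu.1, hW h u hu.2⟩

theorem isInv_sup {U W : AddSubgroup V} (hU : IsInv H U) (hW : IsInv H W) : IsInv H (U ⊔ W) := by
  intro h u hu
  obtain ⟨a, ha, b, hb, rfl⟩ := AddSubgroup.mem_sup.1 hu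
  rw [smul_add]
  exact AddSubgroup.add_mem_sup (hU h a ha) (hW h b hb)

theorem isInv_bot : IsInv H (⊥ : AddSubgroup V) := fun h u hu => by
  rw [AddSubgroup.mem_bot] at hu ⊢
  rw [hu, smul_zero]

theorem isInv_top : IsInv H (⊤ : AddSubgroup V) := fun _ _ _ => AddSubgroup.mem_top _

/-- Complete reducibility passes to an invariant subgroup. -/
theorem semi_restrict (hs : Semi H V) {W : AddSubgroup V} (hW : IsInv H W) :
    @Semi H _ W _ (subAction hW) := by
  intro U hU
  have hU' : IsInv H (U.map W.subtype) := by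
    rintro h _ ⟨u, hu, rfl⟩
    exact ⟨_, hU h u hu, rfl⟩
  obtain ⟨X, hX, hc⟩ := hs _ hU'
  refine ⟨X.comap W.subtype, fun h u hu => hX h _ hu, disjoint_iff.2 (eq_bot_iff.2 ?_),
    codisjoint_iff.2 (eq_top_iff.2 ?_)⟩
  · rintro u ⟨h1, h2⟩
    have : (u : V) ∈ U.map W.subtype ⊓ X := ⟨⟨u, h1, rfl⟩, h2⟩
    rw [hc.inf_eq_bot, AddSubgroup.mem_bot] at this
    exact AddSubgroup.mem_bot.2 (Subtype.ext this)
  · intro u _
    obtain ⟨a, ⟨a', ha', rfl⟩, b, hb, e⟩ := AddSubgroup.mem_sup.1
      (hc.sup_eq_top.ge (AddSubgroup.mem_top (u : V)))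
    have hbW : b ∈ W := by
      have : b = (u : V) - W.subtype a' := by rw [← e]; abel
      rw [this]
      exact W.sub_mem u.2 a'.2
    exact AddSubgroup.mem_sup.2 ⟨a', ha', ⟨b, hbW⟩, hb, Subtype.ext e⟩

section finite

variable [Finite V]

/-- A nonzero invariant subgroup contains a minimal one. -/
theorem exists_minimal {U : AddSubgroup V} (hU : IsInv H U) (hne : U ≠ ⊥) :
    ∃ X : AddSubgroup V, IsInv H X ∧ X ≠ ⊥ ∧ X ≤ U ∧
      ∀ Y, IsInv H Y → Y ≤ X → Y ≠ ⊥ → Y = X := by
  obtain ⟨X, hX⟩ := (Set.toFinite {X : AddSubgroup V | IsInv H X ∧ X ≠ ⊥ ∧ X ≤ U}).exists_minimal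
    ⟨U, hU, hne, le_rfl⟩
  refine ⟨X, hX.1.1, hX.1.2.1, hX.1.2.2, fun Y h1 h2 h3 => le_antisymm h2 ?_⟩
  exact hX.2 ⟨h1, h3, h2.trans hX.1.2.2⟩ h2

/-- Complete reducibility from a spanning set of minimal invariant subgroups. -/
theorem semi_of_sSup_minimal
    (h : ∀ U : AddSubgroup V, IsInv H U → U ≠ ⊤ → ∃ X : AddSubgroup V, IsInv H X ∧ X ≠ ⊥ ∧
      (∀ Y, IsInv H Y → Y ≤ X → Y ≠ ⊥ → Y = X) ∧ ¬ X ≤ U) : Semi H V := by
  intro U hU
  obtain ⟨X, hX⟩ := (Set.toFinite {X : AddSubgroup V | IsInv H X ∧ Disjoint U X}).exists_maximal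
    ⟨⊥, isInv_bot, disjoint_bot_right⟩
  refine ⟨X, hX.1.1, hX.1.2, codisjoint_iff.2 ?_⟩
  by_contra hne
  obtain ⟨S, hS, hS0, hSmin, hSle⟩ := h (U ⊔ X) (isInv_sup hU hX.1.1) hne
  have hd : Disjoint (U ⊔ X) S := by
    rw [disjoint_iff]
    by_contra hb
    exact hSle ((hSmin _ (isInv_inf (isInv_sup hU hX.1.1) hS) inf_le_right hb) ▸ inf_le_left)
  have := hX.2 (y := X ⊔ S) ⟨isInv_sup hX.1.1 hS, hX.1.2.disjoint_sup_right_of_disjoint_sup_left hd⟩
    le_sup_left
  exact hSle ((le_sup_right.trans this).trans le_sup_right)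

/-- **Clifford**: complete reducibility passes to normal subgroups. -/
theorem semi_normal (hs : Semi H V) (N : Subgroup H) [hN : N.Normal] : Semi N V := by
  let 𝒮 : Set (AddSubgroup V) :=
    {X | IsInv N X ∧ X ≠ ⊥ ∧ ∀ Y, IsInv N Y → Y ≤ X → Y ≠ ⊥ → Y = X}
  have hsInv : ∀ (h : H) (X : AddSubgroup V), X ∈ 𝒮 →
      X.map (DistribSMul.toAddMonoidHom V h) ∈ 𝒮 := by
    intro h X hX
    have hinv : ∀ (Z : AddSubgroup V) (g : H), IsInv N Z →
        IsInv N (Z.map (DistribSMul.toAddMonoidHom V g)) := by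
      rintro Z g hZ n _ ⟨z, hz, rfl⟩
      refine ⟨(⟨g⁻¹ * n * g, by simpa using hN.conj_mem (n : H) n.2 g⁻¹⟩ : N) • z, hZ _ z hz, ?_⟩
      show g • ((g⁻¹ * (n : H) * g) • z) = (n : H) • (g • z)
      rw [smul_smul, smul_smul]
      congr 1
      group
    refine ⟨hinv X h hX.1, fun e => hX.2.1 ?_, fun Y hY hle hne => ?_⟩
    · rw [AddSubgroup.map_eq_bot_iff_of_injective _ (MulAction.injective h)] at e
      exact e
    · have h1 := hX.2.2 (Y.map (DistribSMul.toAddMonoidHom V h⁻¹)) (hinv Y h⁻¹ hY) (by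
        rintro _ ⟨y, hy, rfl⟩
        obtain ⟨x, hx, rfl⟩ := hle hy
        show h⁻¹ • h • x ∈ X
        rwa [inv_smul_smul]) (fun e => hne (by
          rw [AddSubgroup.map_eq_bot_iff_of_injective _ (MulAction.injective h⁻¹)] at e
          exact e))
      rw [← h1, AddSubgroup.map_map]
      convert (AddSubgroup.map_id Y).symm using 2
      ext v
      exact smul_inv_smul h v
  have hS : IsInv H (sSup 𝒮) := by
    intro h u hu
    have hle : (sSup 𝒮).map (DistribSMul.toAddMonoidHom V h) ≤ sSup 𝒮 := by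
      rw [AddSubgroup.map_le_iff_le_comap]
      exact sSup_le fun X hX => AddSubgroup.map_le_iff_le_comap.1 (le_sSup (hsInv h X hX))
    exact hle ⟨u, hu, rfl⟩
  have htop : sSup 𝒮 = ⊤ := by
    obtain ⟨D, hD, hc⟩ := hs _ hS
    by_contra hne
    have hD0 : D ≠ ⊥ := fun e => hne (by simpa [e] using hc.sup_eq_top)
    obtain ⟨X, h1, h2, h3, h4⟩ := exists_minimal (H := N) (fun n u hu => hD (n : H) u hu) hD0
    exact h2 (le_bot_iff.1 (hc.inf_eq_bot ▸ le_inf (le_sSup ⟨h1, h2, h4⟩) h3))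
  refine semi_of_sSup_minimal fun U _ hne => ?_
  by_contra hcon
  push Not at hcon
  exact hne (eq_top_iff.2 (htop ▸ sSup_le fun X hX => hcon X hX.1 hX.2.1 hX.2.2))

/-- A normal `p`-subgroup of a faithful completely reducible group on a `p`-group is trivial. -/
theorem eq_bot_of_isPGroup [Finite H] (hs : Semi H V) (hf : Faith H V) {p : ℕ} [Fact p.Prime]
    (hV : ∃ k, Nat.card V = p ^ k) {P : Subgroup H} [P.Normal] (hP : IsPGroup p P) : P = ⊥ := by
  let F : AddSubgroup V :=
    { carrier := {v | ∀ g : P, g • v = v}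
      zero_mem' := fun g => smul_zero g
      add_mem' := fun ha hb g => by rw [smul_add, ha g, hb g]
      neg_mem' := fun ha g => by rw [smul_neg, ha g] }
  have hFinv : IsInv P F := fun g u hu => by rw [hu g]; exact hu
  obtain ⟨D, hD, hc⟩ := semi_normal hs P F hFinv
  have hD0 : D = ⊥ := by
    by_contra hne
    letI := subAction hD
    obtain ⟨k, hk⟩ := hV
    obtain ⟨j, -, hj⟩ := (Nat.dvd_prime_pow (Fact.out : p.Prime)).1 (hk ▸ D.card_addSubgroup_dvd_card)
    have hpD : p ∣ Nat.card D := by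
      rw [hj]
      refine dvd_pow_self p fun e => hne (AddSubgroup.card_eq_one.1 ?_)
      rw [hj, e, pow_zero]
    have h1 := (hP.card_modEq_card_fixedPoints D).dvd_iff (dvd_refl p) |>.1 hpD
    have h2 : 1 < Nat.card (MulAction.fixedPoints P D) := by
      haveI : Nonempty (MulAction.fixedPoints P D) := ⟨⟨0, fun g => smul_zero g⟩⟩
      exact lt_of_lt_of_le (Fact.out : p.Prime).one_lt (Nat.le_of_dvd Nat.card_pos h1)
    haveI := Finite.one_lt_card_iff_nontrivial.1 h2
    obtain ⟨x, hx⟩ := exists_ne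
      (⟨0, fun g => smul_zero g⟩ : MulAction.fixedPoints P D)
    have hxF : ((x : D) : V) ∈ F := fun g => congrArg Subtype.val (x.2 g)
    have : ((x : D) : V) ∈ F ⊓ D := ⟨hxF, (x : D).2⟩
    rw [hc.inf_eq_bot, AddSubgroup.mem_bot] at this
    exact hx (Subtype.ext (Subtype.ext this))
  have hFtop : F = ⊤ := by
    have := hc.sup_eq_top
    rwa [hD0, sup_bot_eq] at this
  rw [Subgroup.eq_bot_iff_forall]
  intro g hg
  exact hf g fun v => (hFtop ▸ AddSubgroup.mem_top v : v ∈ F) ⟨g, hg⟩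

/-- **Maschke** for a group of order prime to `p` on an elementary abelian `p`-group. -/
theorem semi_of_coprime [Finite H] {p : ℕ} [Fact p.Prime] (hcop : ¬ p ∣ Nat.card H)
    (hp : ∀ v : V, p • v = 0) : Semi H V := by
  classical
  intro U hU
  haveI := Fintype.ofFinite H
  obtain ⟨X, hX⟩ := (Set.toFinite {X : AddSubgroup V | Disjoint U X}).exists_maximal
    ⟨⊥, disjoint_bot_right⟩
  have hXU : ∀ v ∈ U, v ∈ X → v = 0 := fun v h1 h2 => by
    have h : v ∈ U ⊓ X := ⟨h1, h2⟩
    rwa [disjoint_iff.1 (show Disjoint U X from hX.1), AddSubgroup.mem_bot] at h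
  have hcod : U ⊔ X = ⊤ := by
    refine eq_top_iff.2 fun v _ => ?_
    by_contra hv
    have hd : Disjoint U (X ⊔ AddSubgroup.zmultiples v) := by
      rw [disjoint_iff, eq_bot_iff]
      rintro u ⟨hu1, hu2⟩
      obtain ⟨x, hx, y, hy, rfl⟩ := AddSubgroup.mem_sup.1 hu2
      obtain ⟨k, rfl⟩ := AddSubgroup.mem_zmultiples_iff.1 hy
      rw [AddSubgroup.mem_bot]
      have hpv : ((p : ℤ)) • v = 0 := by rw [natCast_zsmul, hp]
      by_cases hk : (p : ℤ) ∣ k
      · obtain ⟨j, rfl⟩ := hk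
        rw [mul_comm, mul_zsmul, hpv, zsmul_zero, add_zero] at hu1 ⊢
        exact hXU x hu1 hx
      · refine absurd ?_ hv
        have hco : IsCoprime (p : ℤ) k := by
          rw [Int.isCoprime_iff_gcd_eq_one, Int.gcd, Int.natAbs_natCast]
          exact (Nat.Prime.coprime_iff_not_dvd (Fact.out : p.Prime)).2
            fun h => hk (Int.natCast_dvd.2 h)
        obtain ⟨α, β, hαβ⟩ := hco
        have e1 : k • v = (x + k • v) - x := by abel
        have hkv : k • v ∈ U ⊔ X := e1 ▸ (U ⊔ X).sub_mem (AddSubgroup.mem_sup_left hu1)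
          (AddSubgroup.mem_sup_right hx)
        have e : v = β • (k • v) := by
          conv_lhs => rw [← one_zsmul v, ← hαβ, add_zsmul, mul_zsmul, hpv, zsmul_zero, zero_add]
          rw [mul_zsmul]
        rw [e]
        exact (U ⊔ X).zsmul_mem hkv β
    have h := hX.2 hd le_sup_left
    exact hv (AddSubgroup.mem_sup_right (h (AddSubgroup.mem_sup_right
      (AddSubgroup.mem_zmultiples v))))
  have hex : ∀ v : V, ∃ a ∈ U, v - a ∈ X := fun v => by
    obtain ⟨a, ha, b, hb, rfl⟩ := AddSubgroup.mem_sup.1 (hcod.ge (AddSubgroup.mem_top v))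
    exact ⟨a, ha, by rwa [add_sub_cancel_left]⟩
  choose π hπU hπX using hex
  have hπ : ∀ v a, a ∈ U → v - a ∈ X → π v = a := fun v a h1 h2 =>
    sub_eq_zero.1 (hXU _ (U.sub_mem (hπU v) h1) (by
      have := X.sub_mem h2 (hπX v)
      rwa [sub_sub_sub_cancel_left] at this))
  let pr : V →+ V :=
    { toFun := π
      map_zero' := hπ 0 0 U.zero_mem (by simp)
      map_add' := fun v w => hπ _ _ (U.add_mem (hπU v) (hπU w))
        (by rw [add_sub_add_comm]; exact X.add_mem (hπX v) (hπX w)) }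
  have hprU : ∀ v, pr v ∈ U := hπU
  have hprfix : ∀ u ∈ U, pr u = u := fun u hu => hπ u u hu (by simp)
  obtain ⟨c, hc⟩ : ∃ c : ℕ, ∀ v : V, c • (Fintype.card H • v) = v := by
    have hco : (Fintype.card H).Coprime p :=
      ((Nat.Prime.coprime_iff_not_dvd (Fact.out : p.Prime)).2
        (by rwa [← Nat.card_eq_fintype_card])).symm
    obtain ⟨c, hc⟩ := Nat.exists_mul_mod_eq_one_of_coprime hco (Fact.out : p.Prime).one_lt
    refine ⟨c, fun v => ?_⟩
    rw [← mul_nsmul, ← Nat.mod_add_div (Fintype.card H * c) p, add_nsmul, mul_nsmul, hp,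
      nsmul_zero, add_zero]
    rw [show Fintype.card H * c % p = 1 from hc.2, one_nsmul]
  let avg : V →+ V := c • ∑ h : H,
    (DistribSMul.toAddMonoidHom V h).comp
      (pr.comp (DistribSMul.toAddMonoidHom V h⁻¹))
  have havg : ∀ v, avg v = c • ∑ h : H, h • pr (h⁻¹ • v) := fun v => by
    simp [avg, AddMonoidHom.finsetSum_apply]
  have hmem : ∀ v, avg v ∈ U := fun v => by
    rw [havg]
    exact U.nsmul_mem (U.sum_mem fun h _ => hU h _ (hprU _)) c
  have hfix : ∀ u ∈ U, avg u = u := fun u hu => by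
    rw [havg, Finset.sum_congr rfl fun h _ => show h • pr (h⁻¹ • u) = u by
      rw [hprfix _ (hU _ u hu), smul_inv_smul]]
    rw [Finset.sum_const, Finset.card_univ, hc]
  have hequiv : ∀ (g : H) v, avg (g • v) = g • avg v := fun g v => by
    rw [havg, havg, ← smul_comm c g, Finset.smul_sum (r := g)]
    congr 1
    refine Fintype.sum_equiv (Equiv.mulLeft g⁻¹) _ _ fun h => ?_
    simp [smul_smul]
  refine ⟨avg.ker, fun g v hv => ?_, disjoint_iff.2 (eq_bot_iff.2 ?_),
    codisjoint_iff.2 (eq_top_iff.2 ?_)⟩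
  · rw [AddMonoidHom.mem_ker] at hv ⊢
    rw [hequiv, hv, smul_zero]
  · rintro v ⟨h1, h2⟩
    rw [AddSubgroup.mem_bot, ← hfix v h1]
    exact h2
  · intro v _
    refine AddSubgroup.mem_sup.2 ⟨avg v, hmem v, v - avg v, ?_, by abel⟩
    rw [AddMonoidHom.mem_ker, map_sub, hfix _ (hmem v), sub_self]

end finite

end CfsgLib.SolvKGV
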